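import Mathlib
import Groth.Prelude.Def_CAlg

/-!
# Depth zero lemmas (helper29)
-/

set_option autoImplicit false
universe u v

namespace Groth.Agent.H29

open RingTheory.Sequence

/-- Over a Noetherian local ring, for a finite module `N`: every element of the maximal ideal is a
zero divisor on `N` iff the maximal ideal is an associated prime. -/
theorem forall_not_regular_iff_mem_ass (A : Type u) [CommRing A] [IsLocalRing A] [IsNoetherianRing A]
    (N : Type v) [AddCommGroup N] [Module A N] [Module.Finite A N] :
    (∀ x ∈ IsLocalRing.maximalIdeal A, ¬ IsSMulRegular N x) ↔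
      IsLocalRing.maximalIdeal A ∈ associatedPrimes A N := by
  constructor
  · intro h
    have hsub : ((IsLocalRing.maximalIdeal A : Ideal A) : Set A) ⊆
        ⋃ p ∈ ((associatedPrimes.finite A N).toFinset : Set (Ideal A)), (p : Set A) := by
      intro x hx
      have hx' : x ∈ {r : A | IsSMulRegular N r}ᶜ := h x hx
      rw [← biUnion_associatedPrimes_eq_compl_regular] at hx'
      simpa using hx'
    rw [Ideal.subset_union_prime (R := A) (f := fun p : Ideal A => p) ⊥ ⊥] at hsub
    · obtain ⟨p, hp, hle⟩ := hsub
      have hp' : p ∈ associatedPrimes A N := by simpa using hp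
      have hprime : p.IsPrime := hp'.isPrime
      have : IsLocalRing.maximalIdeal A = p :=
        (IsLocalRing.maximalIdeal.isMaximal A).eq_of_le hprime.ne_top hle
      rw [this]; exact hp'
    · intro p hp _ _
      have hp' : p ∈ associatedPrimes A N := by simpa using hp
      exact hp'.isPrime
  · intro h x hx hreg
    obtain ⟨hprime, n, hann⟩ := (isAssociatedPrime_iff).mp h
    have hxn : x • n = 0 := by
      have : x ∈ (⊥ : Submodule A N).colon {n} := by
        rw [← hann]; exact hx
      simpa [Submodule.mem_colon_singleton] using this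
    have hn : n ≠ 0 := by
      rintro rfl
      apply hprime.ne_top
      rw [hann]
      ext y; simp [Submodule.mem_colon_singleton]
    exact hn (hreg (by simpa using hxn))

theorem idealDepth_eq_zero_iff {R : Type u} [CommRing R] (I : Ideal R) (M : Type v) [AddCommGroup M]
    [Module R M] (hI : I • (⊤ : Submodule R M) ≠ ⊤) :
    LocCoh.idealDepth I M = 0 ↔ ∀ x ∈ I, ¬ IsSMulRegular M x := by
  unfold LocCoh.idealDepth
  rw [if_neg hI]
  simp only [ENat.iSup_eq_zero, Nat.cast_eq_zero, List.length_eq_zero_iff]
  constructor
  · intro h x hx hreg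
    have := h [x] ⟨by simpa [isWeaklyRegular_cons_iff] using hreg, by simpa using hx⟩
    simp at this
  · rintro h rs ⟨hreg, hmem⟩
    cases rs with
    | nil => rfl
    | cons r rs =>
      exfalso
      rw [isWeaklyRegular_cons_iff] at hreg
      exact h r (hmem r (by simp)) hreg.1

theorem maximalIdeal_smul_top_ne_top (A : Type u) [CommRing A] [IsLocalRing A]
    (M : Type v) [AddCommGroup M] [Module A M] [Module.Finite A M] [Nontrivial M] :
    IsLocalRing.maximalIdeal A • (⊤ : Submodule A M) ≠ ⊤ := by
  intro h
  have : (⊤ : Submodule A M) = ⊥ :=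
    Submodule.eq_bot_of_le_smul_of_le_jacobson_bot (IsLocalRing.maximalIdeal A) ⊤
      Module.Finite.fg_top (by rw [h]) (IsLocalRing.maximalIdeal_le_jacobson ⊥)
  exact top_ne_bot this

theorem depth_eq_top_of_subsingleton (A : Type u) [CommRing A] [IsLocalRing A]
    (M : Type v) [AddCommGroup M] [Module A M] [Subsingleton M] :
    LocCoh.depth A M = ⊤ := by
  unfold LocCoh.depth LocCoh.idealDepth
  rw [if_pos (Subsingleton.elim _ _)]

theorem depth_eq_zero_iff (A : Type u) [CommRing A] [IsLocalRing A]
    (M : Type v) [AddCommGroup M] [Module A M] [Module.Finite A M] [Nontrivial M] :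
    LocCoh.depth A M = 0 ↔ ∀ x ∈ IsLocalRing.maximalIdeal A, ¬ IsSMulRegular M x :=
  idealDepth_eq_zero_iff _ _ (maximalIdeal_smul_top_ne_top A M)

theorem depth_eq_zero_iff_mem_ass (A : Type u) [CommRing A] [IsLocalRing A] [IsNoetherianRing A]
    (M : Type v) [AddCommGroup M] [Module A M] [Module.Finite A M] :
    LocCoh.depth A M = 0 ↔ IsLocalRing.maximalIdeal A ∈ associatedPrimes A M := by
  rcases subsingleton_or_nontrivial M with hM | hM
  · rw [depth_eq_top_of_subsingleton, associatedPrimes.eq_empty_of_subsingleton]
    simp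
  · rw [depth_eq_zero_iff, forall_not_regular_iff_mem_ass]

end Groth.Agent.H29
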