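import Mathlib
import Groth.Prelude.Def_CAlg
import Groth.Agent.H29.Depth
import Groth.Agent.S5754

/-!
# A depth library on top of the Rees theorem (helper29)

`LocCoh.idealDepth I M` / `LocCoh.depth R M` from the prelude `Def_CAlg`.

Main results:
* `le_idealDepth_iff` : `n ≤ depth_I M` iff there is a weakly regular sequence of length `n` in `I`.
* `le_idealDepth_iff_ext` : Rees: `n ≤ depth_I M` iff `Ext^i(R/I, M) = 0` for `i < n`.
* `idealDepth_quotSMulTop_add_one` : `depth_I (M/xM) + 1 = depth_I M` for `x ∈ I` regular on `M`.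
* `idealDepth_congr` : invariance under linear equivalences.
* `depth_le_ringKrullDim_quotient_of_mem_associatedPrimes` : `depth M ≤ dim A/p` for `p ∈ Ass M`.
* `depth_le_supportDim` : `depth M ≤ dim M`.
-/

set_option autoImplicit false
universe u v

namespace Groth.Agent.H29

open RingTheory.Sequence CategoryTheory Abelian
open scoped Pointwise

section WithBotENat

theorem withBot_add_natCast_cancel {a b : WithBot ℕ∞} (n : ℕ) (h : a + n = b + n) : a = b := by
  induction a using WithBot.recBotCoe with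
  | bot =>
    induction b using WithBot.recBotCoe with
    | bot => rfl
    | coe b =>
      rw [WithBot.bot_add, ← WithBot.coe_natCast, ← WithBot.coe_add] at h
      exact absurd h WithBot.bot_ne_coe
  | coe a =>
    induction b using WithBot.recBotCoe with
    | bot =>
      rw [WithBot.bot_add, ← WithBot.coe_natCast, ← WithBot.coe_add] at h
      exact absurd h WithBot.coe_ne_bot
    | coe b =>
      rw [← WithBot.coe_natCast, ← WithBot.coe_add, ← WithBot.coe_add, WithBot.coe_inj] at h
      have hn : ((n : ℕ) : ℕ∞) ≠ ⊤ := ENat.natCast_ne_top n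
      exact congrArg _ (le_antisymm ((ENat.add_le_add_iff_right hn).mp h.le)
        ((ENat.add_le_add_iff_right hn).mp h.ge))

theorem withBot_add_one_cancel {a b : WithBot ℕ∞} (h : a + 1 = b + 1) : a = b := by
  have := withBot_add_natCast_cancel (a := a) (b := b) 1 (by simpa using h)
  exact this

theorem withBot_not_add_one_le {a : WithBot ℕ∞} (h1 : a ≠ ⊥) (h2 : a ≠ ⊤) : ¬ a + 1 ≤ a := by
  induction a using WithBot.recBotCoe with
  | bot => exact absurd rfl h1
  | coe a =>
    have ha : a ≠ ⊤ := fun h => h2 (by rw [h]; rfl)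
    intro hle
    rw [← WithBot.coe_one, ← WithBot.coe_add, WithBot.coe_le_coe] at hle
    obtain ⟨k, rfl⟩ := ENat.ne_top_iff_exists.mp ha
    have : (k : ℕ∞) + 1 ≤ k := hle
    have h3 : ((k + 1 : ℕ) : ℕ∞) ≤ (k : ℕ∞) := by exact_mod_cast this
    rw [Nat.cast_le] at h3
    omega

theorem withBot_natCast_le_add {a : WithBot ℕ∞} (h : a ≠ ⊥) (n : ℕ) :
    (n : WithBot ℕ∞) ≤ a + n := by
  obtain ⟨d, rfl⟩ := WithBot.ne_bot_iff_exists.mp h
  rw [← WithBot.coe_natCast, ← WithBot.coe_add, WithBot.coe_le_coe]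
  exact le_add_self

theorem withBot_coe_le_of_forall_natCast {d : ℕ∞} {a : WithBot ℕ∞}
    (h : ∀ n : ℕ, (n : ℕ∞) ≤ d → (n : WithBot ℕ∞) ≤ a) : (d : WithBot ℕ∞) ≤ a := by
  induction a using WithBot.recBotCoe with
  | bot =>
    have := h 0 (by simp)
    rw [Nat.cast_zero] at this
    exact absurd (le_bot_iff.mp this) (by simp)
  | coe a =>
    rw [WithBot.coe_le_coe]
    refine ENat.forall_natCast_le_iff_le.mp (fun n hn => ?_)
    have := h n hn
    rw [← WithBot.coe_natCast, WithBot.coe_le_coe] at this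
    exact this

end WithBotENat

section General

variable {R : Type u} [CommRing R]

theorem isRegular_of_isWeaklyRegular_of_mem (I : Ideal R) (M : Type v) [AddCommGroup M]
    [Module R M] (hI : I • (⊤ : Submodule R M) ≠ ⊤) (rs : List R)
    (hreg : IsWeaklyRegular M rs) (hmem : ∀ r ∈ rs, r ∈ I) : IsRegular M rs := by
  refine ⟨hreg, fun h => hI ?_⟩
  have hle : Ideal.ofList rs • (⊤ : Submodule R M) ≤ I • (⊤ : Submodule R M) :=
    Submodule.smul_mono_left (Ideal.span_le.mpr (fun r hr => hmem r hr))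
  exact top_le_iff.mp (h.le.trans hle)

theorem le_idealDepth_iff (I : Ideal R) (M : Type v) [AddCommGroup M] [Module R M]
    (hI : I • (⊤ : Submodule R M) ≠ ⊤) (n : ℕ) :
    (n : ℕ∞) ≤ LocCoh.idealDepth I M ↔
      ∃ rs : List R, rs.length = n ∧ IsWeaklyRegular M rs ∧ ∀ r ∈ rs, r ∈ I := by
  classical
  unfold LocCoh.idealDepth
  rw [if_neg hI]
  constructor
  · intro h
    have hex : ∃ rs : List R, n ≤ rs.length ∧ IsWeaklyRegular M rs ∧ ∀ r ∈ rs, r ∈ I := by
      by_contra hcon
      have hcon' : ∀ rs : List R, IsWeaklyRegular M rs → (∀ r ∈ rs, r ∈ I) → ¬ n ≤ rs.length :=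
        fun rs h1 h2 h3 => hcon ⟨rs, h3, h1, h2⟩
      rcases Nat.eq_zero_or_pos n with rfl | hpos
      · exact hcon' [] (IsWeaklyRegular.nil R M) (by simp) (Nat.zero_le _)
      · have hle : (⨆ (rs : List R) (_ : IsWeaklyRegular M rs ∧ ∀ r ∈ rs, r ∈ I),
            (rs.length : ℕ∞)) ≤ ((n - 1 : ℕ) : ℕ∞) := by
          apply iSup₂_le
          intro rs hrs
          have := hcon' rs hrs.1 hrs.2
          rw [Nat.cast_le]
          omega
        have := h.trans hle
        rw [Nat.cast_le] at this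
        omega
    obtain ⟨rs, hn, hreg, hmem⟩ := hex
    refine ⟨rs.take n, by rw [List.length_take, min_eq_left hn], ?_,
      fun r hr => hmem r (List.mem_of_mem_take hr)⟩
    have : rs = rs.take n ++ rs.drop n := (List.take_append_drop n rs).symm
    rw [this, isWeaklyRegular_append_iff] at hreg
    exact hreg.1
  · rintro ⟨rs, rfl, hreg, hmem⟩
    exact le_iSup₂_of_le rs ⟨hreg, hmem⟩ le_rfl

theorem smul_top_eq_top_of_surjective {M N : Type*} [AddCommGroup M] [Module R M]
    [AddCommGroup N] [Module R N] (I : Ideal R) (f : M →ₗ[R] N) (hf : Function.Surjective f)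
    (h : I • (⊤ : Submodule R M) = ⊤) : I • (⊤ : Submodule R N) = ⊤ := by
  have := congrArg (Submodule.map f) h
  rwa [Submodule.map_smul'', Submodule.map_top, LinearMap.range_eq_top.mpr hf] at this

theorem smul_top_quotSMulTop_ne_top (I : Ideal R) (M : Type v) [AddCommGroup M] [Module R M]
    (hI : I • (⊤ : Submodule R M) ≠ ⊤) (x : R) (hx : x ∈ I) :
    I • (⊤ : Submodule R (QuotSMulTop x M)) ≠ ⊤ := by
  intro h
  apply hI
  rw [eq_top_iff]
  intro m _
  have h1 : (Submodule.mkQ (x • (⊤ : Submodule R M)) m) ∈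
      (I • (⊤ : Submodule R M)).map (Submodule.mkQ (x • (⊤ : Submodule R M))) := by
    rw [Submodule.map_smul'', Submodule.map_top, Submodule.range_mkQ]
    rw [h]
    trivial
  obtain ⟨m', hm', hmm'⟩ := h1
  have h2 : m' - m ∈ (x • ⊤ : Submodule R M) := by
    rw [← Submodule.Quotient.eq]
    exact hmm'
  obtain ⟨y, -, hy⟩ := (Submodule.mem_smul_pointwise_iff_exists _ _ _).mp h2
  have h3 : m' - m ∈ I • (⊤ : Submodule R M) := by
    rw [← hy]
    exact Submodule.smul_mem_smul hx trivial
  have h4 : m = m' - (m' - m) := by abel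
  rw [h4]
  exact Submodule.sub_mem _ hm' h3

/-- Invariance of the depth under linear equivalences. -/
theorem idealDepth_congr {M : Type*} {N : Type*} [AddCommGroup M] [Module R M]
    [AddCommGroup N] [Module R N] (I : Ideal R) (e : M ≃ₗ[R] N) :
    LocCoh.idealDepth I M = LocCoh.idealDepth I N := by
  classical
  unfold LocCoh.idealDepth
  by_cases h : I • (⊤ : Submodule R M) = ⊤
  · rw [if_pos h, if_pos (smul_top_eq_top_of_surjective I e.toLinearMap e.surjective h)]
  · have h' : ¬ I • (⊤ : Submodule R N) = ⊤ := fun h' =>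
      h (smul_top_eq_top_of_surjective I e.symm.toLinearMap e.symm.surjective h')
    rw [if_neg h, if_neg h']
    apply le_antisymm
    · apply iSup₂_le
      intro rs hrs
      exact le_iSup₂_of_le rs ⟨(e.isWeaklyRegular_congr rs).mp hrs.1, hrs.2⟩ le_rfl
    · apply iSup₂_le
      intro rs hrs
      exact le_iSup₂_of_le rs ⟨(e.isWeaklyRegular_congr rs).mpr hrs.1, hrs.2⟩ le_rfl

theorem le_idealDepth_of_le_quotSMulTop (I : Ideal R) (M : Type v) [AddCommGroup M] [Module R M]
    (hI : I • (⊤ : Submodule R M) ≠ ⊤) (x : R) (hx : x ∈ I) (hreg : IsSMulRegular M x) (n : ℕ)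
    (h : (n : ℕ∞) ≤ LocCoh.idealDepth I (QuotSMulTop x M)) :
    ((n + 1 : ℕ) : ℕ∞) ≤ LocCoh.idealDepth I M := by
  have hI' := smul_top_quotSMulTop_ne_top I M hI x hx
  obtain ⟨ys, hlen, hys, hmem⟩ := (le_idealDepth_iff I _ hI' n).mp h
  refine (le_idealDepth_iff I M hI (n + 1)).mpr ⟨x :: ys, by simp [hlen], ?_, ?_⟩
  · exact (isWeaklyRegular_cons_iff M x ys).mpr ⟨hreg, hys⟩
  · intro r hr
    rcases List.mem_cons.mp hr with rfl | hr
    · exact hx
    · exact hmem r hr

/-- Rees: depth via vanishing of `Ext(R/I, M)`. -/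
theorem le_idealDepth_iff_ext [IsNoetherianRing R] (I : Ideal R) (M : Type u) [AddCommGroup M]
    [Module R M] [Module.Finite R M] (hI : I • (⊤ : Submodule R M) ≠ ⊤) (n : ℕ) :
    (n : ℕ∞) ≤ LocCoh.idealDepth I M ↔
      ∀ i < n, Subsingleton (Ext (ModuleCat.of R (Shrink.{u} (R ⧸ I))) (ModuleCat.of R M) i) := by
  have : Module.Finite R (ModuleCat.of R M) := inferInstanceAs (Module.Finite R M)
  have htfae := ModuleCat.exists_isRegular_tfae I n (ModuleCat.of R M) (lt_top_iff_ne_top.mpr hI)
  have h13 := htfae.out 1 3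
  rw [le_idealDepth_iff I M hI n]
  constructor
  · rintro ⟨rs, hlen, hreg, hmem⟩
    exact h13.mpr ⟨rs, hlen, hmem, isRegular_of_isWeaklyRegular_of_mem I M hI rs hreg hmem⟩
  · intro h
    obtain ⟨rs, hlen, hmem, hreg⟩ := h13.mp h
    exact ⟨rs, hlen, hreg.toIsWeaklyRegular, hmem⟩

/-- One direction of the depth drop, via the long exact `Ext` sequence. -/
theorem le_idealDepth_quotSMulTop [IsNoetherianRing R] (I : Ideal R) (M : Type u) [AddCommGroup M]
    [Module R M] [Module.Finite R M] (hI : I • (⊤ : Submodule R M) ≠ ⊤) (x : R) (hx : x ∈ I)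
    (hreg : IsSMulRegular M x) (n : ℕ) (h : ((n + 1 : ℕ) : ℕ∞) ≤ LocCoh.idealDepth I M) :
    (n : ℕ∞) ≤ LocCoh.idealDepth I (QuotSMulTop x M) := by
  have hI' := smul_top_quotSMulTop_ne_top I M hI x hx
  rw [le_idealDepth_iff_ext I _ hI' n]
  have hM := (le_idealDepth_iff_ext I M hI (n + 1)).mp h
  intro i hi
  have hS : ((ModuleCat.of R M).smulShortComplex x).ShortExact :=
    IsSMulRegular.smulShortComplex_shortExact (M := ModuleCat.of R M) hreg
  have h1 : Subsingleton (Ext (ModuleCat.of R (Shrink.{u} (R ⧸ I)))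
      ((ModuleCat.of R M).smulShortComplex x).X₂ i) := hM i (by omega)
  have h2 : Subsingleton (Ext (ModuleCat.of R (Shrink.{u} (R ⧸ I)))
      ((ModuleCat.of R M).smulShortComplex x).X₁ (i + 1)) := hM (i + 1) (by omega)
  have key : ∀ y : Ext (ModuleCat.of R (Shrink.{u} (R ⧸ I)))
      (ModuleCat.of R (QuotSMulTop x M)) i, y = 0 := by
    intro y
    obtain ⟨x₂, hx₂⟩ := Ext.covariant_sequence_exact₃ _ hS y rfl (Subsingleton.elim _ _)
    rw [← hx₂, Subsingleton.elim x₂ 0, Ext.zero_comp]
    rfl
  exact ⟨fun a b => by rw [key a, key b]⟩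

/-- The depth drops by exactly one modulo a regular element of the ideal. -/
theorem idealDepth_quotSMulTop_add_one [IsNoetherianRing R] (I : Ideal R) (M : Type u)
    [AddCommGroup M] [Module R M] [Module.Finite R M] (hI : I • (⊤ : Submodule R M) ≠ ⊤) (x : R)
    (hx : x ∈ I) (hreg : IsSMulRegular M x) :
    LocCoh.idealDepth I (QuotSMulTop x M) + 1 = LocCoh.idealDepth I M := by
  apply ENat.eq_of_forall_natCast_le_iff
  intro n
  rcases n with _ | n
  · simp
  · rw [Nat.cast_add, Nat.cast_one, ENat.add_le_add_iff_right ENat.one_ne_top]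
    constructor
    · intro h
      have := le_idealDepth_of_le_quotSMulTop I M hI x hx hreg n h
      rwa [Nat.cast_add, Nat.cast_one] at this
    · intro h
      refine le_idealDepth_quotSMulTop I M hI x hx hreg n ?_
      rwa [Nat.cast_add, Nat.cast_one]

end General

section Local

variable (A : Type u) [CommRing A]

theorem ringKrullDim_quotient_succ_le_of_lt (p q : Ideal A) [p.IsPrime] (hpq : p ≤ q) (x : A)
    (hxq : x ∈ q) (hxp : x ∉ p) : ringKrullDim (A ⧸ q) + 1 ≤ ringKrullDim (A ⧸ p) := by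
  have hx0 : (Ideal.Quotient.mk p x) ≠ 0 := by
    rwa [Ne, Ideal.Quotient.eq_zero_iff_mem]
  refine ringKrullDim_succ_le_of_surjective (Ideal.Quotient.factor hpq)
    (Ideal.Quotient.factor_surjective hpq) (mem_nonZeroDivisors_of_ne_zero hx0) ?_
  rw [Ideal.Quotient.factor_mk, Ideal.Quotient.eq_zero_iff_mem]
  exact hxq

theorem ringKrullDim_quotient_le_of_le (p q : Ideal A) (hpq : p ≤ q) :
    ringKrullDim (A ⧸ q) ≤ ringKrullDim (A ⧸ p) :=
  ringKrullDim_le_of_surjective (Ideal.Quotient.factor hpq) (Ideal.Quotient.factor_surjective hpq)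

variable [IsNoetherianRing A]

theorem annihilator_le_of_mem_associatedPrimes (M : Type v) [AddCommGroup M] [Module A M]
    (p : Ideal A) (hp : p ∈ associatedPrimes A M) : Module.annihilator A M ≤ p := by
  obtain ⟨-, x, hx⟩ := isAssociatedPrime_iff.mp hp
  intro a ha
  rw [hx, Submodule.mem_colon_singleton]
  rw [Module.mem_annihilator] at ha
  simp [ha x]

theorem not_mem_of_isSMulRegular_of_mem_associatedPrimes (M : Type v) [AddCommGroup M] [Module A M]
    (p : Ideal A) (hp : p ∈ associatedPrimes A M) (x : A) (hreg : IsSMulRegular M x) : x ∉ p := by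
  intro hxp
  have hx : x ∈ (⋃ p ∈ associatedPrimes A M, (p : Set A)) := Set.mem_biUnion hp hxp
  rw [biUnion_associatedPrimes_eq_zero_divisors] at hx
  obtain ⟨m, hm0, hm⟩ := hx
  exact hm0 (hreg (by simpa using hm))

theorem exists_isSMulRegular_mem_of_forall_not_le (N : Type v) [AddCommGroup N] [Module A N]
    [Module.Finite A N] (I : Ideal A) (h : ∀ q ∈ associatedPrimes A N, ¬ I ≤ q) :
    ∃ x ∈ I, IsSMulRegular N x := by
  by_contra hcon
  have hcon' : ∀ x ∈ I, ¬ IsSMulRegular N x := fun x hx hr => hcon ⟨x, hx, hr⟩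
  have hsub : ((I : Ideal A) : Set A) ⊆
      ⋃ p ∈ ((associatedPrimes.finite A N).toFinset : Set (Ideal A)), (p : Set A) := by
    intro x hx
    have hx' : x ∈ {r : A | IsSMulRegular N r}ᶜ := hcon' x hx
    rw [← biUnion_associatedPrimes_eq_compl_regular] at hx'
    simpa using hx'
  rw [Ideal.subset_union_prime (R := A) (f := fun p : Ideal A => p) ⊥ ⊥] at hsub
  · obtain ⟨p, hp, hle⟩ := hsub
    have hp' : p ∈ associatedPrimes A N := by simpa using hp
    exact h p hp' hle
  · intro p hp _ _
    have hp' : p ∈ associatedPrimes A N := by simpa using hp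
    exact hp'.isPrime

omit [IsNoetherianRing A] in
theorem ringKrullDim_quotient_le_supportDim_of_mem_support (M : Type v) [AddCommGroup M]
    [Module A M] [Module.Finite A M] (p : PrimeSpectrum A) (hp : p ∈ Module.support A M) :
    ringKrullDim (A ⧸ p.asIdeal) ≤ Module.supportDim A M := by
  rw [Module.supportDim_eq_ringKrullDim_quotient_annihilator]
  exact ringKrullDim_quotient_le_of_le A _ _ (Module.mem_support_iff_of_finite.mp hp)

theorem ringKrullDim_quotient_le_supportDim_of_mem_associatedPrimes (M : Type v) [AddCommGroup M]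
    [Module A M] [Module.Finite A M] (p : Ideal A) (hp : p ∈ associatedPrimes A M) :
    ringKrullDim (A ⧸ p) ≤ Module.supportDim A M := by
  rw [Module.supportDim_eq_ringKrullDim_quotient_annihilator]
  exact ringKrullDim_quotient_le_of_le A _ _ (annihilator_le_of_mem_associatedPrimes A M p hp)

variable [IsLocalRing A]

/-- Special case of Ischebeck's theorem: `depth M ≤ dim A/p` for every associated prime `p`. -/
theorem natCast_le_ringKrullDim_quotient_of_mem_associatedPrimes (n : ℕ) :
    ∀ (M : Type u) [AddCommGroup M] [Module A M] [Module.Finite A M] (p : Ideal A),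
      p ∈ associatedPrimes A M → (n : ℕ∞) ≤ LocCoh.depth A M →
      (n : WithBot ℕ∞) ≤ ringKrullDim (A ⧸ p) := by
  induction n with
  | zero =>
    intro M _ _ _ p hp _
    have : p.IsPrime := (AssociatedPrimes.mem_iff.mp hp).isPrime
    have : Nontrivial (A ⧸ p) := Ideal.Quotient.nontrivial_iff.mpr (Ideal.IsPrime.ne_top ‹_›)
    rw [Nat.cast_zero]
    exact ringKrullDim_nonneg_of_nontrivial
  | succ n ih =>
    intro M _ _ _ p hp hdepth
    have hprime : p.IsPrime := (AssociatedPrimes.mem_iff.mp hp).isPrime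
    have : Nontrivial M := by
      by_contra h
      rw [not_nontrivial_iff_subsingleton] at h
      rw [associatedPrimes.eq_empty_of_subsingleton] at hp
      exact hp
    have hI := maximalIdeal_smul_top_ne_top A M
    obtain ⟨rs, hlen, hreg, hmem⟩ := (le_idealDepth_iff _ M hI (n + 1)).mp hdepth
    obtain _ | ⟨x, ys⟩ := rs
    · simp at hlen
    have hxm : x ∈ IsLocalRing.maximalIdeal A := hmem x (List.mem_cons_self ..)
    obtain ⟨hx, hys⟩ := (isWeaklyRegular_cons_iff M x ys).mp hreg
    have hI' := smul_top_quotSMulTop_ne_top _ M hI x hxm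
    have hd' : (n : ℕ∞) ≤ LocCoh.depth A (QuotSMulTop x M) :=
      (le_idealDepth_iff _ _ hI' n).mpr
        ⟨ys, by simpa using hlen, hys, fun r hr => hmem r (List.mem_cons_of_mem _ hr)⟩
    have hle : p ⊔ Ideal.span {x} ≤ IsLocalRing.maximalIdeal A :=
      sup_le (IsLocalRing.le_maximalIdeal hprime.ne_top)
        ((Ideal.span_singleton_le_iff_mem _).mpr hxm)
    obtain ⟨q, hq, -⟩ := Ideal.exists_minimalPrimes_le hle
    have hqass := Groth.Agent.S5754.result A M x hx p hp q hq
    have hqn := ih (QuotSMulTop x M) q hqass hd'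
    have hpq : p ≤ q := le_sup_left.trans hq.1.2
    have hxq : x ∈ q := hq.1.2 (Ideal.mem_sup_right (Ideal.mem_span_singleton_self x))
    have hxp : x ∉ p := not_mem_of_isSMulRegular_of_mem_associatedPrimes A M p hp x hx
    calc ((n + 1 : ℕ) : WithBot ℕ∞) = (n : WithBot ℕ∞) + 1 := Nat.cast_succ n
      _ ≤ ringKrullDim (A ⧸ q) + 1 := add_le_add_left hqn 1
      _ ≤ ringKrullDim (A ⧸ p) := ringKrullDim_quotient_succ_le_of_lt A p q hpq x hxq hxp

theorem depth_le_ringKrullDim_quotient_of_mem_associatedPrimes (M : Type u) [AddCommGroup M]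
    [Module A M] [Module.Finite A M] (p : Ideal A) (hp : p ∈ associatedPrimes A M) :
    ((LocCoh.depth A M : ℕ∞) : WithBot ℕ∞) ≤ ringKrullDim (A ⧸ p) :=
  withBot_coe_le_of_forall_natCast
    (fun n hn => natCast_le_ringKrullDim_quotient_of_mem_associatedPrimes A n M p hp hn)

theorem depth_le_supportDim (M : Type u) [AddCommGroup M]
    [Module A M] [Module.Finite A M] [Nontrivial M] :
    ((LocCoh.depth A M : ℕ∞) : WithBot ℕ∞) ≤ Module.supportDim A M := by
  obtain ⟨p, hp⟩ := associatedPrimes.nonempty A M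
  exact (depth_le_ringKrullDim_quotient_of_mem_associatedPrimes A M p hp).trans
    (ringKrullDim_quotient_le_supportDim_of_mem_associatedPrimes A M p hp)

theorem depth_quotSMulTop_add_one (M : Type u) [AddCommGroup M]
    [Module A M] [Module.Finite A M] [Nontrivial M] (x : A) (hx : x ∈ IsLocalRing.maximalIdeal A)
    (hreg : IsSMulRegular M x) :
    LocCoh.depth A (QuotSMulTop x M) + 1 = LocCoh.depth A M :=
  idealDepth_quotSMulTop_add_one _ M (maximalIdeal_smul_top_ne_top A M) x hx hreg

theorem supportDim_lt_top (M : Type v) [AddCommGroup M] [Module A M] :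
    Module.supportDim A M < ⊤ :=
  lt_of_le_of_lt (Module.supportDim_le_ringKrullDim A M) ringKrullDim_lt_top

end Local

end Groth.Agent.H29
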