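import Mathlib
import Groth.Prelude.Def_CAlg
import Groth.Agent.H29.DepthLib

/-!
# Cohen–Macaulay modules over Noetherian local rings (helper29)

On top of `DepthLib`: for `LocCoh.IsCohenMacaulayModule A M` (`dim M = depth M`):
* `isCohenMacaulayModule_congr` (linear equivalences),
* `ringKrullDim_quotient_eq_supportDim_of_isCohenMacaulayModule` (unmixedness: `dim A/p = dim M`
  for `p ∈ Ass M`),
* `isCohenMacaulayModule_quotSMulTop`, `isCohenMacaulayModule_quotient_of_isWeaklyRegular`,
* `isWeaklyRegular_of_supportDim_quotient_add_length` (parameters are regular on CM modules),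
* `isCohenMacaulayModule_of_forall_quotient_associatedPrimes_dim` (unmixedness criterion),
* `exists_isWeaklyRegular_in_prime`, `quotient_of_isWeaklyRegular_in_prime` (grade of a prime).
-/

set_option autoImplicit false
universe u v

namespace Groth.Agent.H29

open RingTheory.Sequence
open scoped Pointwise

section WithBotENat

theorem withBot_exists_natCast {a : WithBot ℕ∞} (h1 : a ≠ ⊥) (h2 : a ≠ ⊤) :
    ∃ n : ℕ, a = n := by
  obtain ⟨d, rfl⟩ := WithBot.ne_bot_iff_exists.mp h1
  have hd : d ≠ ⊤ := fun h => h2 (by rw [h]; rfl)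
  obtain ⟨k, rfl⟩ := ENat.ne_top_iff_exists.mp hd
  exact ⟨k, WithBot.coe_natCast k⟩

theorem withBot_natCast_inj {a b : ℕ} (h : (a : WithBot ℕ∞) = b) : a = b := by
  rw [← WithBot.coe_natCast, ← WithBot.coe_natCast, WithBot.coe_inj] at h
  exact_mod_cast h

theorem withBot_natCast_le {a b : ℕ} : (a : WithBot ℕ∞) ≤ b ↔ a ≤ b := by
  rw [← WithBot.coe_natCast, ← WithBot.coe_natCast, WithBot.coe_le_coe, Nat.cast_le]

theorem withBot_natCast_add (a b : ℕ) : ((a + b : ℕ) : WithBot ℕ∞) = (a : WithBot ℕ∞) + b :=
  Nat.cast_add a b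

end WithBotENat

section Dim

variable (A : Type u) [CommRing A]

theorem ringKrullDim_quotient_ne_bot (p : Ideal A) [p.IsPrime] : ringKrullDim (A ⧸ p) ≠ ⊥ := by
  have : Nontrivial (A ⧸ p) := Ideal.Quotient.nontrivial_iff.mpr (Ideal.IsPrime.ne_top ‹_›)
  intro h
  have h0 : (0 : WithBot ℕ∞) ≤ ringKrullDim (A ⧸ p) := ringKrullDim_nonneg_of_nontrivial
  rw [h] at h0
  exact absurd (le_bot_iff.mp h0) (by simp)

theorem ringKrullDim_quotient_ne_top [IsNoetherianRing A] [IsLocalRing A] (p : Ideal A) :
    ringKrullDim (A ⧸ p) ≠ ⊤ :=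
  (lt_of_le_of_lt (ringKrullDim_quotient_le p) ringKrullDim_lt_top).ne

theorem ringKrullDim_quotient_maximalIdeal [IsLocalRing A] :
    ringKrullDim (A ⧸ IsLocalRing.maximalIdeal A) = 0 :=
  ringKrullDim_eq_zero_of_isField
    ((Ideal.Quotient.maximal_ideal_iff_isField_quotient _).mp (IsLocalRing.maximalIdeal.isMaximal A))

variable [IsNoetherianRing A] [IsLocalRing A]

/-- For a sequence in the maximal ideal the dimension drops at most by the length. -/
theorem supportDim_le_supportDim_quotient_add_length (xs : List A) :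
    ∀ (M : Type v) [AddCommGroup M] [Module A M] [Module.Finite A M],
      (∀ x ∈ xs, x ∈ IsLocalRing.maximalIdeal A) →
      Module.supportDim A M ≤
        Module.supportDim A (M ⧸ Ideal.ofList xs • (⊤ : Submodule A M)) + xs.length := by
  induction xs with
  | nil =>
    intro M _ _ _ _
    rw [List.length_nil, Nat.cast_zero, add_zero]
    exact (Module.supportDim_eq_of_equiv (Submodule.quotEquivOfEqBot _
      (by rw [Ideal.ofList_nil, Submodule.bot_smul])).symm).le
  | cons x xs ih =>
    intro M _ _ _ hmem
    have hxm := hmem x (List.mem_cons_self ..)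
    have h1 := Module.supportDim_le_supportDim_quotSMulTop_succ (M := M) hxm
    have h2 := ih (QuotSMulTop x M) (fun y hy => hmem y (List.mem_cons_of_mem _ hy))
    have h3 := Module.supportDim_eq_of_equiv
      (Submodule.quotOfListConsSMulTopEquivQuotSMulTopInner M x xs)
    rw [h3, List.length_cons, Nat.cast_succ, ← add_assoc]
    exact h1.trans (add_le_add_left h2 1)

theorem supportDim_quotient_add_length_of_isWeaklyRegular (M : Type v) [AddCommGroup M]
    [Module A M] [Module.Finite A M] [Nontrivial M] (xs : List A)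
    (hmem : ∀ x ∈ xs, x ∈ IsLocalRing.maximalIdeal A) (hreg : IsWeaklyRegular M xs) :
    Module.supportDim A (M ⧸ Ideal.ofList xs • (⊤ : Submodule A M)) + xs.length =
      Module.supportDim A M :=
  Module.supportDim_add_length_eq_supportDim_of_isRegular xs
    (IsRegular.of_isWeaklyRegular_of_mem_maximalIdeal M hmem hreg)

omit [IsNoetherianRing A] [IsLocalRing A] in
theorem supportDim_quotient_smul_top_eq_ringKrullDim_quotient (M : Type v) [AddCommGroup M]
    [Module A M] [Module.Finite A M] (p : PrimeSpectrum A) (hp : p ∈ Module.support A M) :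
    Module.supportDim A (M ⧸ p.asIdeal • (⊤ : Submodule A M)) = ringKrullDim (A ⧸ p.asIdeal) := by
  rw [ringKrullDim_quotient, Module.supportDim, Module.support_quotient]
  have : Module.support A M ∩ PrimeSpectrum.zeroLocus (p.asIdeal : Set A) =
      PrimeSpectrum.zeroLocus (p.asIdeal : Set A) := by
    apply Set.inter_eq_right.mpr
    intro q hq
    exact Module.mem_support_mono (show p ≤ q from (PrimeSpectrum.mem_zeroLocus q _).mp hq) hp
  rw [this]

end Dim

section CM

variable (A : Type u) [CommRing A] [IsLocalRing A] [IsNoetherianRing A]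

omit [IsNoetherianRing A] in
theorem IsCohenMacaulayModule.nontrivial {M : Type v} [AddCommGroup M] [Module A M]
    (hM : LocCoh.IsCohenMacaulayModule A M) : Nontrivial M := by
  rw [← Module.supportDim_ne_bot_iff_nontrivial A M, show Module.supportDim A M = _ from hM]
  exact WithBot.coe_ne_bot

omit [IsNoetherianRing A] in
theorem isCohenMacaulayModule_congr {M : Type*} {N : Type*} [AddCommGroup M] [Module A M]
    [AddCommGroup N] [Module A N] (e : M ≃ₗ[A] N) (h : LocCoh.IsCohenMacaulayModule A M) :
    LocCoh.IsCohenMacaulayModule A N := by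
  unfold LocCoh.IsCohenMacaulayModule LocCoh.depth at h ⊢
  rw [← Module.supportDim_eq_of_equiv e, ← idealDepth_congr _ e]
  exact h

/-- A Cohen–Macaulay module is unmixed: `dim A/p = dim M` for all associated primes. -/
theorem ringKrullDim_quotient_eq_supportDim_of_isCohenMacaulayModule (M : Type u) [AddCommGroup M]
    [Module A M] [Module.Finite A M] (hM : LocCoh.IsCohenMacaulayModule A M) (p : Ideal A)
    (hp : p ∈ associatedPrimes A M) : ringKrullDim (A ⧸ p) = Module.supportDim A M :=
  le_antisymm (ringKrullDim_quotient_le_supportDim_of_mem_associatedPrimes A M p hp)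
    (by
      rw [show Module.supportDim A M = _ from hM]
      exact depth_le_ringKrullDim_quotient_of_mem_associatedPrimes A M p hp)

theorem isCohenMacaulayModule_quotSMulTop (M : Type u) [AddCommGroup M]
    [Module A M] [Module.Finite A M] (hM : LocCoh.IsCohenMacaulayModule A M) (x : A)
    (hx : x ∈ IsLocalRing.maximalIdeal A) (hreg : IsSMulRegular M x) :
    LocCoh.IsCohenMacaulayModule A (QuotSMulTop x M) := by
  have hnt : Nontrivial M := IsCohenMacaulayModule.nontrivial A hM
  have h1 : Module.supportDim A (QuotSMulTop x M) + 1 = Module.supportDim A M :=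
    Module.supportDim_quotSMulTop_succ_eq_supportDim hreg hx
  have h2 : LocCoh.depth A (QuotSMulTop x M) + 1 = LocCoh.depth A M :=
    depth_quotSMulTop_add_one A M x hx hreg
  unfold LocCoh.IsCohenMacaulayModule at hM ⊢
  apply withBot_add_one_cancel
  rw [h1, hM, ← h2, WithBot.coe_add, WithBot.coe_one]

theorem isCohenMacaulayModule_quotient_of_isWeaklyRegular (xs : List A) :
    ∀ (M : Type u) [AddCommGroup M] [Module A M] [Module.Finite A M],
      LocCoh.IsCohenMacaulayModule A M → (∀ x ∈ xs, x ∈ IsLocalRing.maximalIdeal A) →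
      IsWeaklyRegular M xs →
      LocCoh.IsCohenMacaulayModule A (M ⧸ Ideal.ofList xs • (⊤ : Submodule A M)) := by
  induction xs with
  | nil =>
    intro M _ _ _ hM _ _
    exact isCohenMacaulayModule_congr A (Submodule.quotEquivOfEqBot _
      (by rw [Ideal.ofList_nil, Submodule.bot_smul])).symm hM
  | cons x xs ih =>
    intro M _ _ _ hM hmem hreg
    obtain ⟨hx, hxs⟩ := (isWeaklyRegular_cons_iff M x xs).mp hreg
    have hxm := hmem x (List.mem_cons_self ..)
    have hCM' := isCohenMacaulayModule_quotSMulTop A M hM x hxm hx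
    have := ih (QuotSMulTop x M) hCM' (fun y hy => hmem y (List.mem_cons_of_mem _ hy)) hxs
    exact isCohenMacaulayModule_congr A
      (Submodule.quotOfListConsSMulTopEquivQuotSMulTopInner M x xs).symm this

/-- On a Cohen–Macaulay module, a sequence in the maximal ideal cutting the dimension down by its
length is regular. -/
theorem isWeaklyRegular_of_supportDim_quotient_add_length (xs : List A) :
    ∀ (M : Type u) [AddCommGroup M] [Module A M] [Module.Finite A M],
      LocCoh.IsCohenMacaulayModule A M → (∀ x ∈ xs, x ∈ IsLocalRing.maximalIdeal A) →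
      Module.supportDim A (M ⧸ Ideal.ofList xs • (⊤ : Submodule A M)) + xs.length =
        Module.supportDim A M →
      IsWeaklyRegular M xs := by
  induction xs with
  | nil =>
    intro M _ _ _ _ _ _
    exact IsWeaklyRegular.nil A M
  | cons x xs ih =>
    intro M _ _ _ hM hmem hdim
    have hnt : Nontrivial M := IsCohenMacaulayModule.nontrivial A hM
    have hxm := hmem x (List.mem_cons_self ..)
    have hmem' : ∀ y ∈ xs, y ∈ IsLocalRing.maximalIdeal A :=
      fun y hy => hmem y (List.mem_cons_of_mem _ hy)
    have hnt' : Nontrivial (QuotSMulTop x M) := nontrivial_quotSMulTop_of_mem_maximalIdeal M hxm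
    have h1 := Module.supportDim_le_supportDim_quotSMulTop_succ (M := M) hxm
    have h2 := supportDim_le_supportDim_quotient_add_length A xs (QuotSMulTop x M) hmem'
    have h3 := Module.supportDim_eq_of_equiv
      (Submodule.quotOfListConsSMulTopEquivQuotSMulTopInner M x xs)
    rw [h3, List.length_cons, Nat.cast_succ, ← add_assoc] at hdim
    have h4 : Module.supportDim A (QuotSMulTop x M) + 1 = Module.supportDim A M :=
      le_antisymm ((add_le_add_left h2 1).trans hdim.le) h1
    have h5 : Module.supportDim A
        (QuotSMulTop x M ⧸ Ideal.ofList xs • (⊤ : Submodule A (QuotSMulTop x M))) + xs.length =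
        Module.supportDim A (QuotSMulTop x M) := by
      apply withBot_add_one_cancel
      rw [hdim, h4]
    have hxreg : IsSMulRegular M x := by
      by_contra hnreg
      have hx' : x ∈ {r : A | IsSMulRegular M r}ᶜ := hnreg
      rw [← biUnion_associatedPrimes_eq_compl_regular] at hx'
      obtain ⟨p, hp, hxp⟩ := Set.mem_iUnion₂.mp hx'
      have hprime : p.IsPrime := (AssociatedPrimes.mem_iff.mp hp).isPrime
      have hpdim := ringKrullDim_quotient_eq_supportDim_of_isCohenMacaulayModule A M hM p hp
      have hpsupp : (⟨p, hprime⟩ : PrimeSpectrum A) ∈ Module.support A (QuotSMulTop x M) := by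
        rw [Module.support_quotSMulTop]
        refine ⟨Module.mem_support_iff_of_finite.mpr
          (annihilator_le_of_mem_associatedPrimes A M p hp), ?_⟩
        rw [PrimeSpectrum.mem_zeroLocus]
        simpa using hxp
      have h6 := ringKrullDim_quotient_le_supportDim_of_mem_support A (QuotSMulTop x M)
        ⟨p, hprime⟩ hpsupp
      rw [show ringKrullDim (A ⧸ (⟨p, hprime⟩ : PrimeSpectrum A).asIdeal) = ringKrullDim (A ⧸ p)
        from rfl, hpdim, ← h4] at h6
      exact withBot_not_add_one_le (Module.supportDim_ne_bot_of_nontrivial A _)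
        (supportDim_lt_top A _).ne h6
    have hCM' := isCohenMacaulayModule_quotSMulTop A M hM x hxm hxreg
    exact (isWeaklyRegular_cons_iff M x xs).mpr ⟨hxreg, ih (QuotSMulTop x M) hCM' hmem' h5⟩

/-- Unmixedness criterion for Cohen–Macaulayness (EGA 0_IV 16.5.6 converse). -/
theorem isCohenMacaulayModule_of_forall_quotient_associatedPrimes_dim_aux (n : ℕ) :
    ∀ (M : Type u) [AddCommGroup M] [Module A M] [Module.Finite A M] [Nontrivial M],
      Module.supportDim A M = n →
      (∀ xs : List A, (∀ x ∈ xs, x ∈ IsLocalRing.maximalIdeal A) →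
        Module.supportDim A (M ⧸ (Ideal.ofList xs • (⊤ : Submodule A M))) + xs.length =
          Module.supportDim A M →
        ∀ p ∈ associatedPrimes A (M ⧸ (Ideal.ofList xs • (⊤ : Submodule A M))),
          ringKrullDim (A ⧸ p) =
            Module.supportDim A (M ⧸ (Ideal.ofList xs • (⊤ : Submodule A M)))) →
      LocCoh.IsCohenMacaulayModule A M := by
  induction n with
  | zero =>
    intro M _ _ _ _ hdim _
    unfold LocCoh.IsCohenMacaulayModule
    have h1 := depth_le_supportDim A M
    rw [hdim, Nat.cast_zero] at h1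
    rw [hdim, Nat.cast_zero]
    have h2 : ((LocCoh.depth A M : ℕ∞) : WithBot ℕ∞) ≤ ((0 : ℕ∞) : WithBot ℕ∞) := h1
    have h0 : LocCoh.depth A M = 0 := le_antisymm (WithBot.coe_le_coe.mp h2) (by simp)
    rw [h0]
    rfl
  | succ n ih =>
    intro M _ _ _ _ hdim h
    have e0 : (M ⧸ Ideal.ofList ([] : List A) • (⊤ : Submodule A M)) ≃ₗ[A] M :=
      Submodule.quotEquivOfEqBot _ (by rw [Ideal.ofList_nil, Submodule.bot_smul])
    have hass : ∀ p ∈ associatedPrimes A M, ringKrullDim (A ⧸ p) = Module.supportDim A M := by
      intro p hp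
      have h0 := h [] (by simp)
        (by rw [List.length_nil, Nat.cast_zero, add_zero]; exact Module.supportDim_eq_of_equiv e0)
        p (by rw [LinearEquiv.AssociatedPrimes.eq e0]; exact hp)
      rw [h0]
      exact Module.supportDim_eq_of_equiv e0
    have hm : IsLocalRing.maximalIdeal A ∉ associatedPrimes A M := by
      intro hmass
      have h1 := hass _ hmass
      rw [hdim, ringKrullDim_quotient_maximalIdeal, ← Nat.cast_zero] at h1
      have := withBot_natCast_inj h1
      omega
    obtain ⟨x, hxm, hxreg⟩ : ∃ x ∈ IsLocalRing.maximalIdeal A, IsSMulRegular M x := by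
      by_contra hcon
      exact hm ((forall_not_regular_iff_mem_ass A M).mp (fun x hx hr => hcon ⟨x, hx, hr⟩))
    have hnt' : Nontrivial (QuotSMulTop x M) := nontrivial_quotSMulTop_of_mem_maximalIdeal M hxm
    have h4 : Module.supportDim A (QuotSMulTop x M) + 1 = Module.supportDim A M :=
      Module.supportDim_quotSMulTop_succ_eq_supportDim hxreg hxm
    have hdim' : Module.supportDim A (QuotSMulTop x M) = n := by
      apply withBot_add_one_cancel
      rw [h4, hdim, Nat.cast_succ]
    have hCM' : LocCoh.IsCohenMacaulayModule A (QuotSMulTop x M) := by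
      apply ih (QuotSMulTop x M) hdim'
      intro ys hys hysdim p hp
      have hd := Module.supportDim_eq_of_equiv
        (Submodule.quotOfListConsSMulTopEquivQuotSMulTopInner M x ys)
      have hmem : ∀ y ∈ x :: ys, y ∈ IsLocalRing.maximalIdeal A := by
        intro y hy
        rcases List.mem_cons.mp hy with rfl | hy
        · exact hxm
        · exact hys y hy
      have := h (x :: ys) hmem
        (by rw [hd, List.length_cons, Nat.cast_succ, ← add_assoc, hysdim, h4]) p
        (by
          rw [LinearEquiv.AssociatedPrimes.eq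
            (Submodule.quotOfListConsSMulTopEquivQuotSMulTopInner M x ys)]
          exact hp)
      rw [this, hd]
    unfold LocCoh.IsCohenMacaulayModule at hCM' ⊢
    rw [← h4, hCM', ← depth_quotSMulTop_add_one A M x hxm hxreg, WithBot.coe_add, WithBot.coe_one]

theorem isCohenMacaulayModule_of_forall_quotient_associatedPrimes_dim
    (M : Type u) [AddCommGroup M] [Module A M] [Module.Finite A M] [Nontrivial M]
    (h : ∀ xs : List A, (∀ x ∈ xs, x ∈ IsLocalRing.maximalIdeal A) →
      Module.supportDim A (M ⧸ (Ideal.ofList xs • (⊤ : Submodule A M))) + xs.length =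
        Module.supportDim A M →
      ∀ p ∈ associatedPrimes A (M ⧸ (Ideal.ofList xs • (⊤ : Submodule A M))),
        ringKrullDim (A ⧸ p) =
          Module.supportDim A (M ⧸ (Ideal.ofList xs • (⊤ : Submodule A M)))) :
    LocCoh.IsCohenMacaulayModule A M := by
  obtain ⟨n, hn⟩ := withBot_exists_natCast (Module.supportDim_ne_bot_of_nontrivial A M)
    (supportDim_lt_top A M).ne
  exact isCohenMacaulayModule_of_forall_quotient_associatedPrimes_dim_aux A n M hn h

/-- In a Cohen–Macaulay module there are regular sequences of length `dim M - dim A/p` inside any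
prime `p` of the support. -/
theorem exists_isWeaklyRegular_in_prime (M : Type u) [AddCommGroup M] [Module A M]
    [Module.Finite A M] (hM : LocCoh.IsCohenMacaulayModule A M) (p : PrimeSpectrum A) (k : ℕ) :
    ∀ r : ℕ, k ≤ r → ringKrullDim (A ⧸ p.asIdeal) + r = Module.supportDim A M →
      ∃ xs : List A, xs.length = k ∧ (∀ x ∈ xs, x ∈ p.asIdeal) ∧ IsWeaklyRegular M xs := by
  induction k with
  | zero =>
    intro r _ _
    exact ⟨[], rfl, by simp, IsWeaklyRegular.nil A M⟩
  | succ k ih =>
    intro r hkr hr
    obtain ⟨xs, hlen, hmem, hreg⟩ := ih r (by omega) hr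
    have hmemm : ∀ x ∈ xs, x ∈ IsLocalRing.maximalIdeal A :=
      fun x hx => IsLocalRing.le_maximalIdeal p.2.ne_top (hmem x hx)
    have hnt := IsCohenMacaulayModule.nontrivial A hM
    have hN : LocCoh.IsCohenMacaulayModule A (M ⧸ Ideal.ofList xs • (⊤ : Submodule A M)) :=
      isCohenMacaulayModule_quotient_of_isWeaklyRegular A xs M hM hmemm hreg
    have hntN := IsCohenMacaulayModule.nontrivial A hN
    have hNdim := supportDim_quotient_add_length_of_isWeaklyRegular A M xs hmemm hreg
    obtain ⟨x, hxp, hxreg⟩ : ∃ x ∈ p.asIdeal,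
        IsSMulRegular (M ⧸ Ideal.ofList xs • (⊤ : Submodule A M)) x := by
      apply exists_isSMulRegular_mem_of_forall_not_le A _ p.asIdeal
      intro q hq hpq
      have h1 := ringKrullDim_quotient_eq_supportDim_of_isCohenMacaulayModule A _ hN q hq
      have h2 := ringKrullDim_quotient_le_of_le A _ _ hpq
      rw [h1] at h2
      obtain ⟨a, ha⟩ := withBot_exists_natCast (ringKrullDim_quotient_ne_bot A p.asIdeal)
        (ringKrullDim_quotient_ne_top A p.asIdeal)
      obtain ⟨b, hb⟩ := withBot_exists_natCast
        (Module.supportDim_ne_bot_of_nontrivial A (M ⧸ Ideal.ofList xs • (⊤ : Submodule A M)))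
        (supportDim_lt_top A _).ne
      obtain ⟨d, hd⟩ := withBot_exists_natCast (Module.supportDim_ne_bot_of_nontrivial A M)
        (supportDim_lt_top A M).ne
      rw [ha, hb] at h2
      rw [ha, hd, ← withBot_natCast_add] at hr
      rw [hb, hd, ← withBot_natCast_add] at hNdim
      have e1 := withBot_natCast_inj hr
      have e2 := withBot_natCast_inj hNdim
      have e3 := withBot_natCast_le.mp h2
      omega
    refine ⟨xs ++ [x], by simp [hlen], ?_, ?_⟩
    · intro y hy
      rcases List.mem_append.mp hy with hy | hy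
      · exact hmem y hy
      · rw [List.mem_singleton.mp hy]
        exact hxp
    · exact (isWeaklyRegular_append_iff M xs [x]).mpr
        ⟨hreg, (isWeaklyRegular_singleton_iff _ x).mpr hxreg⟩

theorem quotient_of_isWeaklyRegular_in_prime (M : Type u) [AddCommGroup M] [Module A M]
    [Module.Finite A M] (hM : LocCoh.IsCohenMacaulayModule A M) (p : PrimeSpectrum A)
    (hp : p ∈ Module.support A M) (r : ℕ)
    (hr : Module.supportDim A (M ⧸ (p.asIdeal • (⊤ : Submodule A M))) + r = Module.supportDim A M)
    (xs : List A) (hlen : xs.length = r) (hmem : ∀ x ∈ xs, x ∈ p.asIdeal)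
    (hreg : IsWeaklyRegular M xs) :
    Module.supportDim A (M ⧸ (Ideal.ofList xs • (⊤ : Submodule A M))) =
        Module.supportDim A (M ⧸ (p.asIdeal • (⊤ : Submodule A M))) ∧
      Module.supportDim A (M ⧸ (p.asIdeal • (⊤ : Submodule A M))) = ringKrullDim (A ⧸ p.asIdeal) ∧
      p.asIdeal ∈ associatedPrimes A (M ⧸ (Ideal.ofList xs • (⊤ : Submodule A M))) ∧
      ∀ q ∈ associatedPrimes A (M ⧸ (Ideal.ofList xs • (⊤ : Submodule A M))),
        q ≤ p.asIdeal → q = p.asIdeal := by
  have hnt := IsCohenMacaulayModule.nontrivial A hM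
  have hmemm : ∀ x ∈ xs, x ∈ IsLocalRing.maximalIdeal A :=
    fun x hx => IsLocalRing.le_maximalIdeal p.2.ne_top (hmem x hx)
  have hNdim := supportDim_quotient_add_length_of_isWeaklyRegular A M xs hmemm hreg
  have hpdim := supportDim_quotient_smul_top_eq_ringKrullDim_quotient A M p hp
  have h1 : Module.supportDim A (M ⧸ (Ideal.ofList xs • (⊤ : Submodule A M))) =
      Module.supportDim A (M ⧸ (p.asIdeal • (⊤ : Submodule A M))) := by
    apply withBot_add_natCast_cancel r
    rw [hr, ← hlen, hNdim]
  have hpN : p ∈ Module.support A (M ⧸ (Ideal.ofList xs • (⊤ : Submodule A M))) := by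
    rw [Module.support_quotient]
    refine ⟨hp, ?_⟩
    rw [PrimeSpectrum.mem_zeroLocus]
    exact SetLike.coe_subset_coe.mpr (Ideal.span_le.mpr (fun x hx => hmem x hx))
  have hmin : ∀ q : PrimeSpectrum A,
      q ∈ Module.support A (M ⧸ (Ideal.ofList xs • (⊤ : Submodule A M))) →
      q.asIdeal ≤ p.asIdeal → q.asIdeal = p.asIdeal := by
    intro q hq hqp
    by_contra hne
    have hlt : q.asIdeal < p.asIdeal := lt_of_le_of_ne hqp hne
    obtain ⟨x, hxp, hxq⟩ := SetLike.exists_of_lt hlt
    have h2 := ringKrullDim_quotient_succ_le_of_lt A q.asIdeal p.asIdeal hqp x hxp hxq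
    have h3 := ringKrullDim_quotient_le_supportDim_of_mem_support A _ q hq
    rw [h1, hpdim] at h3
    exact withBot_not_add_one_le (ringKrullDim_quotient_ne_bot A p.asIdeal)
      (ringKrullDim_quotient_ne_top A p.asIdeal) (h2.trans h3)
  have hpmin : p.asIdeal ∈ (Module.annihilator A
      (M ⧸ (Ideal.ofList xs • (⊤ : Submodule A M)))).minimalPrimes := by
    refine ⟨⟨p.2, Module.mem_support_iff_of_finite.mp hpN⟩, ?_⟩
    rintro q ⟨hqprime, hqann⟩ hqp
    have := hmin ⟨q, hqprime⟩ (Module.mem_support_iff_of_finite.mpr hqann) hqp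
    exact this.ge
  have hpass : p.asIdeal ∈ associatedPrimes A (M ⧸ (Ideal.ofList xs • (⊤ : Submodule A M))) :=
    Module.associatedPrimes.minimalPrimes_annihilator_subset_associatedPrimes (R := A)
      (M := M ⧸ (Ideal.ofList xs • (⊤ : Submodule A M))) hpmin
  refine ⟨h1, hpdim, hpass, ?_⟩
  intro q hq hqp
  have hqprime := (AssociatedPrimes.mem_iff.mp hq).isPrime
  exact hmin ⟨q, hqprime⟩ (Module.mem_support_iff_of_finite.mpr
    (annihilator_le_of_mem_associatedPrimes A _ q hq)) hqp

end CM

end Groth.Agent.H29
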