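import Mathlib
import Groth.Prelude.Def_CAlg
import Groth.Agent.H29.CMLib

/-!
# Localization of Cohen–Macaulay modules (helper29)
-/

set_option autoImplicit false
universe u v

namespace Groth.Agent.H29

open RingTheory.Sequence
open scoped Pointwise

section Loc

variable (A : Type u) [CommRing A] (M : Type v) [AddCommGroup M] [Module A M]

/-- The support of a localization of `M` (as an `A`-module) is contained in the support of `M`. -/
theorem support_localizedModule_subset (S : Submonoid A) :
    Module.support A (LocalizedModule S M) ⊆ Module.support A M := by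
  intro q hq
  rw [Module.mem_support_iff'] at hq ⊢
  obtain ⟨y, hy⟩ := hq
  induction y using LocalizedModule.induction_on with
  | h m s =>
    refine ⟨m, fun r hr h0 => hy r hr ?_⟩
    rw [LocalizedModule.smul'_mk, h0, LocalizedModule.zero_mk]

/-- `dim M_p + dim A/p ≤ dim M` for `p` in the support of `M`. -/
theorem supportDim_localizedModule_add_le (p : PrimeSpectrum A) (hp : p ∈ Module.support A M) :
    Module.supportDim (Localization.AtPrime p.asIdeal) (LocalizedModule p.asIdeal.primeCompl M) +
      ringKrullDim (A ⧸ p.asIdeal) ≤ Module.supportDim A M := by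
  have : Nonempty (Module.support A M) := ⟨⟨p, hp⟩⟩
  let a : Module.support A M := ⟨p, hp⟩
  have h0 : ((Order.height a + Order.coheight a : ℕ∞) : WithBot ℕ∞) ≤ Module.supportDim A M := by
    rw [Module.supportDim, Order.krullDim_eq_iSup_height_add_coheight_of_nonempty,
      WithBot.coe_le_coe]
    exact le_iSup (fun a : Module.support A M => Order.height a + Order.coheight a) a
  rw [WithBot.coe_add, Order.height_eq_krullDim_Iic, Order.coheight_eq_krullDim_Ici] at h0
  refine le_trans (add_le_add ?_ ?_) h0
  · -- localization
    rw [Module.supportDim]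
    let g : Module.support (Localization.AtPrime p.asIdeal)
        (LocalizedModule p.asIdeal.primeCompl M) → Set.Iic a := fun Q =>
      ⟨⟨PrimeSpectrum.comap (algebraMap A (Localization.AtPrime p.asIdeal)) Q.1,
        support_localizedModule_subset A M _
          (Module.support_subset_preimage_comap (R := A) (A := Localization.AtPrime p.asIdeal)
            (M := LocalizedModule p.asIdeal.primeCompl M) Q.2)⟩, by
        rw [Set.mem_Iic]
        show Ideal.comap (algebraMap A (Localization.AtPrime p.asIdeal)) Q.1.asIdeal ≤ p.asIdeal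
        intro x hx
        rw [← IsLocalization.AtPrime.to_map_mem_maximal_iff (Localization.AtPrime p.asIdeal)
          p.asIdeal x]
        exact IsLocalRing.le_maximalIdeal Q.1.2.ne_top (Ideal.mem_comap.mp hx)⟩
    refine Order.krullDim_le_of_strictMono g ?_
    intro Q Q' h
    have h' : Q.1.asIdeal < Q'.1.asIdeal := h
    show Ideal.comap (algebraMap A (Localization.AtPrime p.asIdeal)) Q.1.asIdeal <
      Ideal.comap (algebraMap A (Localization.AtPrime p.asIdeal)) Q'.1.asIdeal
    refine lt_of_le_not_ge (Ideal.comap_mono h'.le) (fun hge => h'.not_ge ?_)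
    rw [← IsLocalization.map_under p.asIdeal.primeCompl (Localization.AtPrime p.asIdeal)
      Q'.1.asIdeal, ← IsLocalization.map_under p.asIdeal.primeCompl
      (Localization.AtPrime p.asIdeal) Q.1.asIdeal]
    exact Ideal.map_mono hge
  · rw [ringKrullDim_quotient]
    let f : PrimeSpectrum.zeroLocus (p.asIdeal : Set A) → Set.Ici a := fun q =>
      ⟨⟨q.1, Module.mem_support_mono (show p ≤ q.1 from (PrimeSpectrum.mem_zeroLocus q.1 _).mp q.2)
        hp⟩, by
        rw [Set.mem_Ici]
        exact (show p ≤ q.1 from (PrimeSpectrum.mem_zeroLocus q.1 _).mp q.2)⟩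
    exact Order.krullDim_le_of_strictMono f (fun q q' h => h)

end Loc

section CMLoc

variable (A : Type u) [CommRing A] [IsLocalRing A] [IsNoetherianRing A]
  (M : Type u) [AddCommGroup M] [Module A M] [Module.Finite A M]

omit [IsLocalRing A] [IsNoetherianRing A] in
theorem le_depth_localizedModule (p : PrimeSpectrum A) (hp : p ∈ Module.support A M)
    (xs : List A) (hmem : ∀ x ∈ xs, x ∈ p.asIdeal) (hreg : IsWeaklyRegular M xs) :
    (xs.length : ℕ∞) ≤ LocCoh.depth (Localization.AtPrime p.asIdeal)
      (LocalizedModule p.asIdeal.primeCompl M) := by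
  have : Nontrivial (LocalizedModule p.asIdeal.primeCompl M) := Module.mem_support_iff.mp hp
  have hI := maximalIdeal_smul_top_ne_top (Localization.AtPrime p.asIdeal)
    (LocalizedModule p.asIdeal.primeCompl M)
  refine (le_idealDepth_iff _ _ hI xs.length).mpr
    ⟨xs.map (algebraMap A (Localization.AtPrime p.asIdeal)), by simp, ?_, ?_⟩
  · exact hreg.of_isLocalizedModule (Localization.AtPrime p.asIdeal) p.asIdeal.primeCompl
      (LocalizedModule.mkLinearMap p.asIdeal.primeCompl M)
  · intro r hr
    obtain ⟨x, hx, rfl⟩ := List.mem_map.mp hr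
    exact (IsLocalization.AtPrime.to_map_mem_maximal_iff (Localization.AtPrime p.asIdeal)
      p.asIdeal x).mpr (hmem x hx)

/-- For a Cohen–Macaulay module `M` and `p ∈ Supp M`: `M_p` is Cohen–Macaulay and
`dim M = dim A/p + dim M_p`. -/
theorem isCohenMacaulayModule_localizedModule_and_dim (hM : LocCoh.IsCohenMacaulayModule A M)
    (p : PrimeSpectrum A) (hp : p ∈ Module.support A M) :
    LocCoh.IsCohenMacaulayModule (Localization.AtPrime p.asIdeal)
        (LocalizedModule p.asIdeal.primeCompl M) ∧
      Module.supportDim A M = ringKrullDim (A ⧸ p.asIdeal) +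
        Module.supportDim (Localization.AtPrime p.asIdeal)
          (LocalizedModule p.asIdeal.primeCompl M) := by
  have hnt := IsCohenMacaulayModule.nontrivial A hM
  have : Nontrivial (LocalizedModule p.asIdeal.primeCompl M) := Module.mem_support_iff.mp hp
  obtain ⟨a, ha⟩ := withBot_exists_natCast (ringKrullDim_quotient_ne_bot A p.asIdeal)
    (ringKrullDim_quotient_ne_top A p.asIdeal)
  obtain ⟨d, hd⟩ := withBot_exists_natCast (Module.supportDim_ne_bot_of_nontrivial A M)
    (supportDim_lt_top A M).ne
  obtain ⟨c, hc⟩ := withBot_exists_natCast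
    (Module.supportDim_ne_bot_of_nontrivial (Localization.AtPrime p.asIdeal)
      (LocalizedModule p.asIdeal.primeCompl M))
    (supportDim_lt_top (Localization.AtPrime p.asIdeal)
      (LocalizedModule p.asIdeal.primeCompl M)).ne
  have h2 := supportDim_localizedModule_add_le A M p hp
  rw [hc, ha, hd, ← withBot_natCast_add] at h2
  have e2 : c + a ≤ d := withBot_natCast_le.mp h2
  obtain ⟨xs, hlen, hmem, hreg⟩ := exists_isWeaklyRegular_in_prime A M hM p (d - a) (d - a) le_rfl
    (by rw [ha, hd, ← withBot_natCast_add]; congr 1; omega)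
  have h3 := le_depth_localizedModule A M p hp xs hmem hreg
  have h4 := depth_le_supportDim (Localization.AtPrime p.asIdeal)
    (LocalizedModule p.asIdeal.primeCompl M)
  rw [hc, ← WithBot.coe_natCast, WithBot.coe_le_coe] at h4
  have h5 : ((d - a : ℕ) : ℕ∞) ≤ (c : ℕ∞) := by
    rw [← hlen]
    exact h3.trans h4
  rw [Nat.cast_le] at h5
  have hcr : c = d - a := by omega
  have hdepth : LocCoh.depth (Localization.AtPrime p.asIdeal)
      (LocalizedModule p.asIdeal.primeCompl M) = (c : ℕ∞) := by
    apply le_antisymm h4
    rw [hcr, ← hlen]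
    exact h3
  refine ⟨?_, ?_⟩
  · unfold LocCoh.IsCohenMacaulayModule
    rw [hc, hdepth]
    exact (WithBot.coe_natCast c).symm
  · rw [ha, hd, hc, ← withBot_natCast_add]
    congr 1
    omega

end CMLoc

end Groth.Agent.H29
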