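import Mathlib
import Groth.Prelude.Def_CAlg
import Groth.Agent.H29.CMLoc

/-!
# More on depth (helper29)

* `le_idealDepth_iff_ext'`, `idealDepth_eq_iff_ext` : Rees with `R ⧸ I` (no `Shrink`).
* `idealDepth_quotient_ofList_add_length` : `depth_I(M/(xs)M) + |xs| = depth_I M`.
* `supportDim_eq_add_idealDepth_of_CM` : `dim M = dim M/IM + depth_I M` for `M` Cohen–Macaulay.
-/

set_option autoImplicit false
universe u v

namespace Groth.Agent.H29

open RingTheory.Sequence CategoryTheory Abelian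
open scoped Pointwise

section ExtIso

variable {C : Type u} [Category.{v} C] [Abelian C] [HasExt C]

theorem subsingleton_ext_of_iso {X Y : C} (e : X ≅ Y) (Z : C) (n : ℕ)
    (h : Subsingleton (Ext X Z n)) : Subsingleton (Ext Y Z n) := by
  refine ⟨fun a b => ?_⟩
  have key : ∀ α : Ext Y Z n,
      (Ext.mk₀ e.inv).comp ((Ext.mk₀ e.hom).comp α (zero_add n)) (zero_add n) = α := by
    intro α
    rw [Ext.mk₀_comp_mk₀_assoc, e.inv_hom_id, Ext.mk₀_id_comp]
  rw [← key a, ← key b, Subsingleton.elim ((Ext.mk₀ e.hom).comp a (zero_add n))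
    ((Ext.mk₀ e.hom).comp b (zero_add n))]

theorem subsingleton_ext_iff_of_iso {X Y : C} (e : X ≅ Y) (Z : C) (n : ℕ) :
    Subsingleton (Ext X Z n) ↔ Subsingleton (Ext Y Z n) :=
  ⟨subsingleton_ext_of_iso e Z n, subsingleton_ext_of_iso e.symm Z n⟩

end ExtIso

section General

variable {R : Type u} [CommRing R]

/-- Rees: depth via vanishing of `Ext(R/I, M)`, without `Shrink`. -/
theorem le_idealDepth_iff_ext' [IsNoetherianRing R] (I : Ideal R) (M : Type u) [AddCommGroup M]
    [Module R M] [Module.Finite R M] (hI : I • (⊤ : Submodule R M) ≠ ⊤) (n : ℕ) :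
    (n : ℕ∞) ≤ LocCoh.idealDepth I M ↔
      ∀ i < n, Subsingleton (Ext (ModuleCat.of R (R ⧸ I)) (ModuleCat.of R M) i) := by
  rw [le_idealDepth_iff_ext I M hI n]
  have e : ModuleCat.of R (Shrink.{u} (R ⧸ I)) ≅ ModuleCat.of R (R ⧸ I) :=
    (Shrink.linearEquiv R (R ⧸ I)).toModuleIso
  constructor
  · intro h i hi
    exact (subsingleton_ext_iff_of_iso e _ i).mp (h i hi)
  · intro h i hi
    exact (subsingleton_ext_iff_of_iso e _ i).mpr (h i hi)

theorem idealDepth_eq_iff_ext [IsNoetherianRing R] (I : Ideal R) (M : Type u) [AddCommGroup M]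
    [Module R M] [Module.Finite R M] (hI : I • (⊤ : Submodule R M) ≠ ⊤) (n : ℕ) :
    LocCoh.idealDepth I M = n ↔
      ((∀ i : ℕ, i < n → Subsingleton (Ext (ModuleCat.of R (R ⧸ I)) (ModuleCat.of R M) i)) ∧
        Nontrivial (Ext (ModuleCat.of R (R ⧸ I)) (ModuleCat.of R M) n)) := by
  have h1 := le_idealDepth_iff_ext' I M hI n
  have h2 := le_idealDepth_iff_ext' I M hI (n + 1)
  constructor
  · intro h
    refine ⟨h1.mp h.ge, ?_⟩
    by_contra hnt
    rw [not_nontrivial_iff_subsingleton] at hnt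
    have h3 : ((n + 1 : ℕ) : ℕ∞) ≤ LocCoh.idealDepth I M := by
      refine h2.mpr (fun i hi => ?_)
      rcases Nat.lt_succ_iff_lt_or_eq.mp hi with hi | rfl
      · exact h1.mp h.ge i hi
      · exact hnt
    rw [h, Nat.cast_le] at h3
    omega
  · rintro ⟨hv, hnt⟩
    apply le_antisymm
    · by_contra hlt
      rw [not_le] at hlt
      have h3 : ((n + 1 : ℕ) : ℕ∞) ≤ LocCoh.idealDepth I M := by
        rw [Nat.cast_add, Nat.cast_one]
        exact Order.add_one_le_of_lt hlt
      have := h2.mp h3 n (Nat.lt_succ_self n)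
      exact not_subsingleton _ this
    · exact h1.mpr hv

theorem idealDepth_quotient_ofList_add_length [IsNoetherianRing R] (I : Ideal R) (xs : List R) :
    ∀ (M : Type u) [AddCommGroup M] [Module R M] [Module.Finite R M],
      I • (⊤ : Submodule R M) ≠ ⊤ → (∀ x ∈ xs, x ∈ I) → IsWeaklyRegular M xs →
      LocCoh.idealDepth I (M ⧸ Ideal.ofList xs • (⊤ : Submodule R M)) + xs.length =
        LocCoh.idealDepth I M := by
  induction xs with
  | nil =>
    intro M _ _ _ _ _ _
    rw [List.length_nil, Nat.cast_zero, add_zero]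
    exact idealDepth_congr I (Submodule.quotEquivOfEqBot _
      (by rw [Ideal.ofList_nil, Submodule.bot_smul]))
  | cons x xs ih =>
    intro M _ _ _ hI hmem hreg
    obtain ⟨hx, hxs⟩ := (isWeaklyRegular_cons_iff M x xs).mp hreg
    have hxI := hmem x (List.mem_cons_self ..)
    have hI' := smul_top_quotSMulTop_ne_top I M hI x hxI
    have h1 := ih (QuotSMulTop x M) hI' (fun y hy => hmem y (List.mem_cons_of_mem _ hy)) hxs
    have h2 := idealDepth_quotSMulTop_add_one I M hI x hxI hx
    have h3 := idealDepth_congr I (Submodule.quotOfListConsSMulTopEquivQuotSMulTopInner M x xs)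
    rw [h3, List.length_cons, Nat.cast_succ, ← add_assoc, h1, h2]

theorem idealDepth_mono {I J : Ideal R} (hIJ : I ≤ J) (M : Type v) [AddCommGroup M] [Module R M]
    (hJ : J • (⊤ : Submodule R M) ≠ ⊤) : LocCoh.idealDepth I M ≤ LocCoh.idealDepth J M := by
  have hI : I • (⊤ : Submodule R M) ≠ ⊤ := fun h =>
    hJ (top_le_iff.mp (h.ge.trans (Submodule.smul_mono_left hIJ)))
  refine ENat.forall_natCast_le_iff_le.mp (fun n hn => ?_)
  obtain ⟨rs, hlen, hreg, hmem⟩ := (le_idealDepth_iff I M hI n).mp hn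
  exact (le_idealDepth_iff J M hJ n).mpr ⟨rs, hlen, hreg, fun r hr => hIJ (hmem r hr)⟩

end General

section CM

variable (R : Type u) [CommRing R] [IsLocalRing R] [IsNoetherianRing R]

theorem depth_ne_top (M : Type u) [AddCommGroup M] [Module R M] [Module.Finite R M]
    [Nontrivial M] : LocCoh.depth R M ≠ ⊤ := by
  intro h
  have h1 := depth_le_supportDim R M
  rw [h] at h1
  exact (supportDim_lt_top R M).ne (top_le_iff.mp h1)

/-- For a Cohen–Macaulay module `M` and a proper ideal `I`: `dim M = dim M/IM + depth_I M`. -/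
theorem supportDim_eq_add_idealDepth_of_CM (I : Ideal R) (hI : I ≠ ⊤) (M : Type u)
    [AddCommGroup M] [Module R M] [Module.Finite R M] (hM : LocCoh.IsCohenMacaulayModule R M) :
    Module.supportDim R M = Module.supportDim R (M ⧸ (I • (⊤ : Submodule R M))) +
      ((LocCoh.idealDepth I M : ℕ∞) : WithBot ℕ∞) := by
  have hnt := IsCohenMacaulayModule.nontrivial R hM
  have hIm : I ≤ IsLocalRing.maximalIdeal R := IsLocalRing.le_maximalIdeal hI
  have hmM := maximalIdeal_smul_top_ne_top R M
  have hIM : I • (⊤ : Submodule R M) ≠ ⊤ := fun h =>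
    hmM (top_le_iff.mp (h.ge.trans (Submodule.smul_mono_left hIm)))
  have hle : LocCoh.idealDepth I M ≤ LocCoh.depth R M := idealDepth_mono hIm M hmM
  have hfin : LocCoh.idealDepth I M ≠ ⊤ := fun h =>
    depth_ne_top R M (top_le_iff.mp (h.ge.trans hle))
  obtain ⟨n, hn⟩ := ENat.ne_top_iff_exists.mp hfin
  obtain ⟨xs, hlen, hreg, hmem⟩ := (le_idealDepth_iff I M hIM n).mp hn.le
  have hmemm : ∀ x ∈ xs, x ∈ IsLocalRing.maximalIdeal R := fun x hx => hIm (hmem x hx)
  have hN := isCohenMacaulayModule_quotient_of_isWeaklyRegular R xs M hM hmemm hreg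
  have hntN := IsCohenMacaulayModule.nontrivial R hN
  have hNdim := supportDim_quotient_add_length_of_isWeaklyRegular R M xs hmemm hreg
  have hmN := maximalIdeal_smul_top_ne_top R (M ⧸ Ideal.ofList xs • (⊤ : Submodule R M))
  have hIN : I • (⊤ : Submodule R (M ⧸ Ideal.ofList xs • (⊤ : Submodule R M))) ≠ ⊤ := fun h =>
    hmN (top_le_iff.mp (h.ge.trans (Submodule.smul_mono_left hIm)))
  have h3 := idealDepth_quotient_ofList_add_length I xs M hIM hmem hreg
  have hd0 : LocCoh.idealDepth I (M ⧸ Ideal.ofList xs • (⊤ : Submodule R M)) = 0 := by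
    have h4 : LocCoh.idealDepth I (M ⧸ Ideal.ofList xs • (⊤ : Submodule R M)) + (n : ℕ∞) ≤
        0 + (n : ℕ∞) := by
      rw [zero_add, ← hlen, h3, hlen, hn]
    exact le_antisymm ((ENat.add_le_add_iff_right (ENat.natCast_ne_top n)).mp h4) (by simp)
  have hnoreg := (idealDepth_eq_zero_iff I _ hIN).mp hd0
  obtain ⟨q, hq, hIq⟩ : ∃ q ∈ associatedPrimes R (M ⧸ Ideal.ofList xs • (⊤ : Submodule R M)),
      I ≤ q := by
    by_contra hcon
    obtain ⟨x, hxI, hxreg⟩ := exists_isSMulRegular_mem_of_forall_not_le R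
      (M ⧸ Ideal.ofList xs • (⊤ : Submodule R M)) I (fun q hq hIq => hcon ⟨q, hq, hIq⟩)
    exact hnoreg x hxI hxreg
  have hqprime : q.IsPrime := (AssociatedPrimes.mem_iff.mp hq).isPrime
  have hqdim := ringKrullDim_quotient_eq_supportDim_of_isCohenMacaulayModule R _ hN q hq
  have hqsupp : (⟨q, hqprime⟩ : PrimeSpectrum R) ∈
      Module.support R (M ⧸ (I • (⊤ : Submodule R M))) := by
    rw [Module.support_quotient]
    refine ⟨Module.support_subset_of_surjective _
      (Submodule.mkQ_surjective (Ideal.ofList xs • (⊤ : Submodule R M)))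
      (Module.mem_support_iff_of_finite.mpr (annihilator_le_of_mem_associatedPrimes R _ q hq)), ?_⟩
    rw [PrimeSpectrum.mem_zeroLocus]
    exact SetLike.coe_subset_coe.mpr hIq
  have h5 := ringKrullDim_quotient_le_supportDim_of_mem_support R _ ⟨q, hqprime⟩ hqsupp
  have hsub : Ideal.ofList xs • (⊤ : Submodule R M) ≤ I • (⊤ : Submodule R M) :=
    Submodule.smul_mono_left (Ideal.span_le.mpr (fun r hr => hmem r hr))
  have h6 : Module.supportDim R (M ⧸ (I • (⊤ : Submodule R M))) ≤
      Module.supportDim R (M ⧸ Ideal.ofList xs • (⊤ : Submodule R M)) :=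
    Module.supportDim_le_of_surjective (Submodule.factor hsub) (Submodule.factor_surjective hsub)
  have h7 : Module.supportDim R (M ⧸ (I • (⊤ : Submodule R M))) =
      Module.supportDim R (M ⧸ Ideal.ofList xs • (⊤ : Submodule R M)) :=
    le_antisymm h6 (by
      rw [← hqdim]
      exact h5)
  rw [h7, ← hn, WithBot.coe_natCast, ← hlen, hNdim]

end CM

end Groth.Agent.H29
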