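import Mathlib
import Groth.Prelude.Def_CAlg
import Groth.Agent.H29.DepthMore

/-!
# Depth and change of rings (helper29)

* `idealDepth_eq_idealDepth_map` : for Noetherian rings `A → B` and a `B`-module `M` finite over
  `A`: `depth_a(M)` over `A` equals `depth_{aB}(M)` over `B`.
* `depth_eq_depth_of_isLocalHom` : for a local homomorphism of Noetherian local rings and `M` finite
  over `A`: `depth_A M = depth_B M`.
-/

set_option autoImplicit false
universe u v

namespace Groth.Agent.H29

open RingTheory.Sequence
open scoped Pointwise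

section ChangeOfRings

variable (A B : Type u) [CommRing A] [CommRing B] [Algebra A B]

/-- `M/xM` computed over `A` or over `B`. -/
noncomputable def quotSMulTopEquivAlgebraMap (M : Type v) [AddCommGroup M] [Module B M]
    [Module A M] [IsScalarTower A B M] (x : A) :
    QuotSMulTop x M ≃ₗ[A] QuotSMulTop (algebraMap A B x) M :=
  (Submodule.quotEquivOfEq (x • (⊤ : Submodule A M))
    ((algebraMap A B x • (⊤ : Submodule B M)).restrictScalars A) (by
      ext m
      rw [Submodule.restrictScalars_mem, Submodule.mem_smul_pointwise_iff_exists,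
        Submodule.mem_smul_pointwise_iff_exists]
      constructor
      · rintro ⟨y, -, rfl⟩
        exact ⟨y, trivial, algebraMap_smul B x y⟩
      · rintro ⟨y, -, rfl⟩
        exact ⟨y, trivial, (algebraMap_smul B x y).symm⟩)).trans
    (Submodule.Quotient.restrictScalarsEquiv A (algebraMap A B x • (⊤ : Submodule B M)))

theorem smul_top_eq_top_iff_map (M : Type v) [AddCommGroup M] [Module B M]
    [Module A M] [IsScalarTower A B M] (a : Ideal A) :
    a • (⊤ : Submodule A M) = ⊤ ↔ (a.map (algebraMap A B)) • (⊤ : Submodule B M) = ⊤ := by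
  rw [← Submodule.restrictScalars_eq_top_iff A B M, Ideal.smul_restrictScalars,
    Submodule.restrictScalars_top]

variable [IsNoetherianRing A] [IsNoetherianRing B]

theorem le_idealDepth_of_le_idealDepth_map (a : Ideal A) (n : ℕ) :
    ∀ (M : Type u) [AddCommGroup M] [Module B M] [Module A M] [IsScalarTower A B M]
      [Module.Finite A M], a • (⊤ : Submodule A M) ≠ ⊤ →
      (n : ℕ∞) ≤ LocCoh.idealDepth (a.map (algebraMap A B)) M → (n : ℕ∞) ≤ LocCoh.idealDepth a M := by
  induction n with
  | zero =>
    intro M _ _ _ _ _ _ _
    simp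
  | succ n ih =>
    intro M _ _ _ _ _ hA hn
    have hB : (a.map (algebraMap A B)) • (⊤ : Submodule B M) ≠ ⊤ :=
      fun h => hA ((smul_top_eq_top_iff_map A B M a).mpr h)
    have hfinB : Module.Finite B M := Module.Finite.of_restrictScalars_finite A B M
    obtain ⟨x, hxa, hxreg⟩ : ∃ x ∈ a, IsSMulRegular M x := by
      apply exists_isSMulRegular_mem_of_forall_not_le A M a
      intro q hq haq
      obtain ⟨-, z, hz⟩ := isAssociatedPrime_iff.mp hq
      have hz0 : z ≠ 0 := by
        rintro rfl
        have hqprime : q.IsPrime := (AssociatedPrimes.mem_iff.mp hq).isPrime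
        apply hqprime.ne_top
        rw [hz]
        ext y
        simp [Submodule.mem_colon_singleton]
      have hkill : ∀ y ∈ a.map (algebraMap A B), y • z = 0 := by
        have hle : a.map (algebraMap A B) ≤
            LinearMap.ker (LinearMap.toSpanSingleton B M z) := by
          rw [Ideal.map_le_iff_le_comap]
          intro r hr
          have hrq : r ∈ (⊥ : Submodule A M).colon {z} := hz ▸ haq hr
          rw [Submodule.mem_colon_singleton, Submodule.mem_bot] at hrq
          rw [Ideal.mem_comap, LinearMap.mem_ker, LinearMap.toSpanSingleton_apply,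
            algebraMap_smul]
          exact hrq
        intro y hy
        have := hle hy
        rwa [LinearMap.mem_ker, LinearMap.toSpanSingleton_apply] at this
      have h0 : LocCoh.idealDepth (a.map (algebraMap A B)) M = 0 := by
        rw [idealDepth_eq_zero_iff _ M hB]
        intro y hy hreg
        exact hz0 (hreg (by simpa using hkill y hy))
      rw [h0] at hn
      simp at hn
    have hxregB : IsSMulRegular M (algebraMap A B x) := (isSMulRegular_algebraMap_iff B).mpr hxreg
    have hxB : algebraMap A B x ∈ a.map (algebraMap A B) := Ideal.mem_map_of_mem _ hxa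
    have h1 := le_idealDepth_quotSMulTop (a.map (algebraMap A B)) M hB (algebraMap A B x) hxB
      hxregB n hn
    have hfin' : Module.Finite A (QuotSMulTop (algebraMap A B x) M) :=
      Module.Finite.of_surjective
        ((Submodule.mkQ (algebraMap A B x • (⊤ : Submodule B M))).restrictScalars A)
        (Submodule.mkQ_surjective _)
    have hB' := smul_top_quotSMulTop_ne_top (a.map (algebraMap A B)) M hB (algebraMap A B x) hxB
    have hA' : a • (⊤ : Submodule A (QuotSMulTop (algebraMap A B x) M)) ≠ ⊤ :=
      fun h => hB' ((smul_top_eq_top_iff_map A B _ a).mp h)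
    have h2 := ih (QuotSMulTop (algebraMap A B x) M) hA' h1
    rw [← idealDepth_congr a (quotSMulTopEquivAlgebraMap A B M x)] at h2
    exact le_idealDepth_of_le_quotSMulTop a M hA x hxa hxreg n h2

/-- Depth with respect to `a` over `A` equals depth with respect to `aB` over `B`. -/
theorem idealDepth_eq_idealDepth_map (a : Ideal A) (M : Type u) [AddCommGroup M] [Module B M]
    [Module A M] [IsScalarTower A B M] [Module.Finite A M] :
    LocCoh.idealDepth a M = LocCoh.idealDepth (a.map (algebraMap A B)) M := by
  classical
  by_cases hA : a • (⊤ : Submodule A M) = ⊤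
  · have hB := (smul_top_eq_top_iff_map A B M a).mp hA
    unfold LocCoh.idealDepth
    rw [if_pos hA, if_pos hB]
  · have hB : (a.map (algebraMap A B)) • (⊤ : Submodule B M) ≠ ⊤ :=
      fun h => hA ((smul_top_eq_top_iff_map A B M a).mpr h)
    apply ENat.eq_of_forall_natCast_le_iff
    intro n
    constructor
    · intro hn
      obtain ⟨rs, hlen, hreg, hmem⟩ := (le_idealDepth_iff a M hA n).mp hn
      refine (le_idealDepth_iff _ M hB n).mpr ⟨rs.map (algebraMap A B), by simp [hlen],
        (isWeaklyRegular_map_algebraMap_iff B M rs).mpr hreg, ?_⟩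
      intro r hr
      obtain ⟨x, hx, rfl⟩ := List.mem_map.mp hr
      exact Ideal.mem_map_of_mem _ (hmem x hx)
    · exact le_idealDepth_of_le_idealDepth_map A B a n M hA

end ChangeOfRings

section LocalHom

variable (A B : Type u) [CommRing A] [CommRing B] [IsLocalRing A] [IsLocalRing B]
  [IsNoetherianRing A] [IsNoetherianRing B] [Algebra A B] [IsLocalHom (algebraMap A B)]

omit [IsNoetherianRing A] [IsNoetherianRing B] in
theorem algebraMap_mem_maximalIdeal {x : A} (hx : x ∈ IsLocalRing.maximalIdeal A) :
    algebraMap A B x ∈ IsLocalRing.maximalIdeal B := by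
  rw [IsLocalRing.mem_maximalIdeal, mem_nonunits_iff] at hx ⊢
  exact fun h => hx (isUnit_of_map_unit (algebraMap A B) x h)

omit [IsLocalHom (algebraMap A B)] in
/-- If the maximal ideal of `A` is associated to `M` over `A`, then the maximal ideal of `B` is
associated to `M` over `B`. -/
theorem maximalIdeal_mem_associatedPrimes_of_isLocalHom (M : Type u) [AddCommGroup M]
    [Module B M] [Module A M] [IsScalarTower A B M] [Module.Finite A M]
    (h : IsLocalRing.maximalIdeal A ∈ associatedPrimes A M) :
    IsLocalRing.maximalIdeal B ∈ associatedPrimes B M := by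
  have hfinB : Module.Finite B M := Module.Finite.of_restrictScalars_finite A B M
  obtain ⟨-, z, hz⟩ := isAssociatedPrime_iff.mp h
  have hz0 : z ≠ 0 := by
    rintro rfl
    apply (IsLocalRing.maximalIdeal.isMaximal A).ne_top
    rw [hz]
    ext y
    simp [Submodule.mem_colon_singleton]
  let N : Submodule B M :=
    Submodule.torsionBySet B M ((algebraMap A B) '' (IsLocalRing.maximalIdeal A : Set A))
  have hzN : z ∈ N := by
    rw [Submodule.mem_torsionBySet_iff]
    rintro ⟨b, a, ha, rfl⟩
    have : a ∈ (⊥ : Submodule A M).colon {z} := hz ▸ ha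
    rw [Submodule.mem_colon_singleton, Submodule.mem_bot] at this
    show algebraMap A B a • z = 0
    rw [algebraMap_smul]
    exact this
  have hNnt : Nontrivial N := ⟨⟨⟨z, hzN⟩, 0, fun h => hz0 (congrArg Subtype.val h)⟩⟩
  obtain ⟨q, hq⟩ := associatedPrimes.nonempty B N
  obtain ⟨hqprime, w, hqw⟩ := isAssociatedPrime_iff.mp hq
  have hqM : q ∈ associatedPrimes B M :=
    associatedPrimes.subset_of_injective (f := N.subtype) N.injective_subtype hq
  have hmemq : ∀ b : B, b ∈ q ↔ b • (w : M) = 0 := by
    intro b
    rw [hqw, Submodule.mem_colon_singleton, Submodule.mem_bot]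
    constructor
    · intro h
      simpa using congrArg Subtype.val h
    · intro h
      ext
      simpa using h
  -- every element of `B` is integral over `A` modulo `q`
  let ψ : B →ₐ[A] Module.End A M := Algebra.lsmul A A M
  let f : A →+* B ⧸ q := (Ideal.Quotient.mk q).comp (algebraMap A B)
  have hf : f.IsIntegral := by
    intro y
    obtain ⟨b, rfl⟩ := Ideal.Quotient.mk_surjective y
    obtain ⟨p, hmonic, hp⟩ := LinearMap.exists_monic_and_aeval_eq_zero A (ψ b)
    refine ⟨p, hmonic, ?_⟩
    rw [Polynomial.aeval_algHom_apply] at hp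
    have hkill : (Polynomial.aeval b p) • (w : M) = 0 := by
      have := DFunLike.congr_fun hp (w : M)
      simpa [ψ] using this
    have hmem : Polynomial.aeval b p ∈ q := (hmemq _).mpr hkill
    rw [Polynomial.aeval_def] at hmem
    rw [← Polynomial.hom_eval₂, Ideal.Quotient.eq_zero_iff_mem]
    exact hmem
  have hcomap : (Ideal.comap f (⊥ : Ideal (B ⧸ q))) = IsLocalRing.maximalIdeal A := by
    symm
    apply (IsLocalRing.maximalIdeal.isMaximal A).eq_of_le
    · exact Ideal.comap_ne_top f (Ideal.IsPrime.ne_top inferInstance)
    · intro a ha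
      rw [Ideal.mem_comap, Ideal.mem_bot]
      show Ideal.Quotient.mk q (algebraMap A B a) = 0
      rw [Ideal.Quotient.eq_zero_iff_mem, hmemq]
      have := (Submodule.mem_torsionBySet_iff (R := B) (M := M)
        (s := (algebraMap A B) '' (IsLocalRing.maximalIdeal A : Set A)) (w : M)).mp w.2
        ⟨algebraMap A B a, a, ha, rfl⟩
      exact this
  have hmax : (⊥ : Ideal (B ⧸ q)).IsMaximal :=
    Ideal.isMaximal_of_isIntegral_of_isMaximal_comap' f hf ⊥
      (hcomap ▸ IsLocalRing.maximalIdeal.isMaximal A)
  have hqmax : q.IsMaximal := (Ideal.bot_quotient_isMaximal_iff q).mp hmax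
  rw [← IsLocalRing.eq_maximalIdeal hqmax]
  exact hqM

theorem le_depth_of_le_depth_of_isLocalHom (n : ℕ) :
    ∀ (M : Type u) [AddCommGroup M] [Module B M] [Module A M] [IsScalarTower A B M]
      [Module.Finite A M] [Nontrivial M],
      (n : ℕ∞) ≤ LocCoh.depth B M → (n : ℕ∞) ≤ LocCoh.depth A M := by
  induction n with
  | zero =>
    intro M _ _ _ _ _ _ _
    simp
  | succ n ih =>
    intro M _ _ _ _ _ _ hn
    have hfinB : Module.Finite B M := Module.Finite.of_restrictScalars_finite A B M
    have hA := maximalIdeal_smul_top_ne_top A M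
    have hB := maximalIdeal_smul_top_ne_top B M
    obtain ⟨x, hxm, hxreg⟩ : ∃ x ∈ IsLocalRing.maximalIdeal A, IsSMulRegular M x := by
      by_contra hcon
      have hmA := (forall_not_regular_iff_mem_ass A M).mp (fun x hx hr => hcon ⟨x, hx, hr⟩)
      have hmB := maximalIdeal_mem_associatedPrimes_of_isLocalHom A B M hmA
      rw [(depth_eq_zero_iff_mem_ass B M).mpr hmB] at hn
      simp at hn
    have hxregB : IsSMulRegular M (algebraMap A B x) := (isSMulRegular_algebraMap_iff B).mpr hxreg
    have hxB := algebraMap_mem_maximalIdeal A B hxm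
    have h1 : (n : ℕ∞) ≤ LocCoh.depth B (QuotSMulTop (algebraMap A B x) M) :=
      le_idealDepth_quotSMulTop _ M hB (algebraMap A B x) hxB hxregB n hn
    have hfin' : Module.Finite A (QuotSMulTop (algebraMap A B x) M) :=
      Module.Finite.of_surjective
        ((Submodule.mkQ (algebraMap A B x • (⊤ : Submodule B M))).restrictScalars A)
        (Submodule.mkQ_surjective _)
    have hnt' : Nontrivial (QuotSMulTop (algebraMap A B x) M) :=
      nontrivial_quotSMulTop_of_mem_maximalIdeal M hxB
    have h2 := ih (QuotSMulTop (algebraMap A B x) M) h1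
    have h3 : (n : ℕ∞) ≤ LocCoh.idealDepth (IsLocalRing.maximalIdeal A) (QuotSMulTop x M) := by
      rw [idealDepth_congr _ (quotSMulTopEquivAlgebraMap A B M x)]
      exact h2
    exact le_idealDepth_of_le_quotSMulTop _ M hA x hxm hxreg n h3

/-- EGA 0_IV 16.4.8: the depth does not depend on the local ring over which the module is finite. -/
theorem depth_eq_depth_of_isLocalHom (M : Type u) [AddCommGroup M] [Module B M] [Module A M]
    [IsScalarTower A B M] [Module.Finite A M] : LocCoh.depth A M = LocCoh.depth B M := by
  rcases subsingleton_or_nontrivial M with hM | hM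
  · rw [depth_eq_top_of_subsingleton, depth_eq_top_of_subsingleton]
  · have hfinB : Module.Finite B M := Module.Finite.of_restrictScalars_finite A B M
    have hA := maximalIdeal_smul_top_ne_top A M
    have hB := maximalIdeal_smul_top_ne_top B M
    apply ENat.eq_of_forall_natCast_le_iff
    intro n
    constructor
    · intro hn
      obtain ⟨rs, hlen, hreg, hmem⟩ := (le_idealDepth_iff _ M hA n).mp hn
      refine (le_idealDepth_iff _ M hB n).mpr ⟨rs.map (algebraMap A B), by simp [hlen],
        (isWeaklyRegular_map_algebraMap_iff B M rs).mpr hreg, ?_⟩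
      intro r hr
      obtain ⟨x, hx, rfl⟩ := List.mem_map.mp hr
      exact algebraMap_mem_maximalIdeal A B (hmem x hx)
    · exact le_depth_of_le_depth_of_isLocalHom A B n M

end LocalHom

end Groth.Agent.H29
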