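import Mathlib
import Groth.Agent.H29.CMLib

/-!
# Regular local rings: small lemmas (helper29)
-/

set_option autoImplicit false
universe u v

namespace Groth.Agent.H29

open IsLocalRing

theorem height_add_ringKrullDim_quotient_le (A : Type u) [CommRing A] (p : Ideal A)
    [hp : p.IsPrime] : ((p.height : ℕ∞) : WithBot ℕ∞) + ringKrullDim (A ⧸ p) ≤ ringKrullDim A := by
  let a : PrimeSpectrum A := ⟨p, hp⟩
  have : Nonempty (PrimeSpectrum A) := ⟨a⟩
  have h0 : ((Order.height a + Order.coheight a : ℕ∞) : WithBot ℕ∞) ≤ ringKrullDim A := by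
    rw [ringKrullDim, Order.krullDim_eq_iSup_height_add_coheight_of_nonempty, WithBot.coe_le_coe]
    exact le_iSup (fun a : PrimeSpectrum A => Order.height a + Order.coheight a) a
  rw [WithBot.coe_add, Order.coheight_eq_krullDim_Ici] at h0
  have h1 : p.height = Order.height a := PrimeSpectrum.height_eq_orderHeight a
  have h2 : ringKrullDim (A ⧸ p) = Order.krullDim (Set.Ici a) := by
    rw [ringKrullDim_quotient]
    have : PrimeSpectrum.zeroLocus (p : Set A) = Set.Ici a := by
      ext q
      rfl
    rw [this]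
  rw [h1, h2]
  exact h0

/-- If `A/p` is regular and `p` is generated by `ht p` elements then `A` is regular. -/
theorem isRegularLocalRing_of_quotient_of_spanFinrank_eq_height (A : Type u)
    [CommRing A] [IsLocalRing A] [IsNoetherianRing A] (p : Ideal A) [p.IsPrime]
    [IsRegularLocalRing (A ⧸ p)]
    (hgen : (Submodule.spanFinrank p : ℕ∞) = p.height) : IsRegularLocalRing A := by
  classical
  apply IsRegularLocalRing.of_spanFinrank_maximalIdeal_le
  have hpfg : p.FG := IsNoetherian.noetherian p
  obtain ⟨T, hTcard, hTspan⟩ := Submodule.FG.exists_span_finset_card_eq_spanFinrank hpfg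
  have hmBfg : (maximalIdeal (A ⧸ p)).FG := IsNoetherian.noetherian _
  obtain ⟨S, hScard, hSspan⟩ := Submodule.FG.exists_span_finset_card_eq_spanFinrank hmBfg
  let σ : A ⧸ p → A := Function.surjInv Ideal.Quotient.mk_surjective
  have hσ : ∀ y, Ideal.Quotient.mk p (σ y) = y := Function.surjInv_eq _
  have h1 : (maximalIdeal (A ⧸ p)).comap (Ideal.Quotient.mk p) = maximalIdeal A :=
    IsLocalRing.eq_maximalIdeal (Ideal.comap_isMaximal_of_surjective (Ideal.Quotient.mk p)
      Ideal.Quotient.mk_surjective (K := maximalIdeal (A ⧸ p)))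
  have h2 : Ideal.map (Ideal.Quotient.mk p) (Ideal.span ((S.image σ : Finset A) : Set A)) =
      maximalIdeal (A ⧸ p) := by
    rw [Ideal.map_span, ← hSspan]
    congr 1
    ext y
    simp only [Finset.coe_image, Set.mem_image, Finset.mem_coe]
    constructor
    · rintro ⟨x, ⟨z, hz, rfl⟩, rfl⟩
      rw [hσ]
      exact hz
    · intro hy
      exact ⟨σ y, ⟨y, hy, rfl⟩, hσ y⟩
  have hm : maximalIdeal A = Ideal.span (((S.image σ ∪ T : Finset A)) : Set A) := by
    rw [← h1, ← h2, Ideal.comap_map_of_surjective _ Ideal.Quotient.mk_surjective,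
      ← RingHom.ker_eq_comap_bot, Ideal.mk_ker, Finset.coe_union, Ideal.span_union]
    congr 1
    exact hTspan.symm
  have hle : (maximalIdeal A).spanFinrank ≤ (maximalIdeal (A ⧸ p)).spanFinrank + p.spanFinrank := by
    calc (maximalIdeal A).spanFinrank
        = (Ideal.span (((S.image σ ∪ T : Finset A)) : Set A)).spanFinrank := by rw [← hm]
      _ ≤ (((S.image σ ∪ T : Finset A)) : Set A).ncard :=
          Submodule.spanFinrank_span_le_ncard_of_finite (Finset.finite_toSet _)
      _ = (S.image σ ∪ T).card := Set.ncard_coe_finset _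
      _ ≤ (S.image σ).card + T.card := Finset.card_union_le _ _
      _ ≤ S.card + T.card := Nat.add_le_add_right Finset.card_image_le _
      _ = _ := by rw [hScard, hTcard]
  calc ((maximalIdeal A).spanFinrank : WithBot ℕ∞)
      ≤ (((maximalIdeal (A ⧸ p)).spanFinrank + p.spanFinrank : ℕ) : WithBot ℕ∞) :=
        withBot_natCast_le.mpr hle
    _ = ((maximalIdeal (A ⧸ p)).spanFinrank : WithBot ℕ∞) + (p.spanFinrank : WithBot ℕ∞) :=
        Nat.cast_add _ _
    _ = ringKrullDim (A ⧸ p) + ((p.height : ℕ∞) : WithBot ℕ∞) := by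
        rw [IsRegularLocalRing.spanFinrank_maximalIdeal, ← hgen, WithBot.coe_natCast]
    _ ≤ ringKrullDim A := by
        rw [add_comm]
        exact height_add_ringKrullDim_quotient_le A p

end Groth.Agent.H29
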