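import Mathlib
import Groth.Agent.H29.RegLocal
import Groth.Agent.H29.DepthFinite

/-!
# Regular local rings: basics (helper29)

* `spanFinrank_maximalIdeal_le_add` : generators of `m_A` from generators of `m_{A/J}` and of `J`.
* `isRegularLocalRing_quotient_span_singleton` : `A/(x)` is regular of dimension `dim A - 1` for
  `x ∈ m \ m²`.
* `isDomain_of_isRegularLocalRing` : a regular local ring is a domain.
* `isRegularLocalRing_of_quotient_span_singleton` : regular mod a nonzerodivisor ⇒ regular.
* `depth_self_of_isRegularLocalRing`, `isCohenMacaulayModule_self_of_isRegularLocalRing`,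
  `isCohenMacaulayLocalRing_of_isRegularLocalRing` : regular ⇒ Cohen–Macaulay.
* `isRegular_ofFn_of_span_eq_maximalIdeal` : a regular system of parameters is a regular sequence.
* `free_of_depth_eq_ringKrullDim` : maximal Cohen–Macaulay modules over regular local rings are free.
-/

set_option autoImplicit false
universe u v

namespace Groth.Agent.H29

open IsLocalRing RingTheory.Sequence
open scoped Pointwise

theorem withBot_le_of_add_one_le_add_one {a b : WithBot ℕ∞} (h : a + 1 ≤ b + 1) : a ≤ b := by
  induction a using WithBot.recBotCoe with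
  | bot => exact bot_le
  | coe a =>
    induction b using WithBot.recBotCoe with
    | bot =>
      rw [WithBot.bot_add] at h
      exact absurd (le_bot_iff.mp h) (by
        rw [← WithBot.coe_one, ← WithBot.coe_add]
        exact WithBot.coe_ne_bot)
    | coe b =>
      rw [← WithBot.coe_one, ← WithBot.coe_add, ← WithBot.coe_add, WithBot.coe_le_coe] at h
      exact WithBot.coe_le_coe.mpr ((ENat.add_le_add_iff_right ENat.one_ne_top).mp h)

section Generators

variable (A : Type u) [CommRing A] [IsLocalRing A] [IsNoetherianRing A]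

omit [IsNoetherianRing A] in
theorem map_mk_maximalIdeal (J : Ideal A) [IsLocalRing (A ⧸ J)] :
    (maximalIdeal A).map (Ideal.Quotient.mk J) = maximalIdeal (A ⧸ J) := by
  have h1 : (maximalIdeal (A ⧸ J)).comap (Ideal.Quotient.mk J) = maximalIdeal A :=
    IsLocalRing.eq_maximalIdeal (Ideal.comap_isMaximal_of_surjective (Ideal.Quotient.mk J)
      Ideal.Quotient.mk_surjective (K := maximalIdeal (A ⧸ J)))
  rw [← h1, Ideal.map_comap_of_surjective _ Ideal.Quotient.mk_surjective]

theorem spanFinrank_maximalIdeal_le_add (J : Ideal A) [IsLocalRing (A ⧸ J)] :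
    (maximalIdeal A).spanFinrank ≤ (maximalIdeal (A ⧸ J)).spanFinrank + J.spanFinrank := by
  classical
  have hpfg : J.FG := IsNoetherian.noetherian J
  obtain ⟨T, hTcard, hTspan⟩ := Submodule.FG.exists_span_finset_card_eq_spanFinrank hpfg
  have hmBfg : (maximalIdeal (A ⧸ J)).FG := IsNoetherian.noetherian _
  obtain ⟨S, hScard, hSspan⟩ := Submodule.FG.exists_span_finset_card_eq_spanFinrank hmBfg
  let σ : A ⧸ J → A := Function.surjInv Ideal.Quotient.mk_surjective
  have hσ : ∀ y, Ideal.Quotient.mk J (σ y) = y := Function.surjInv_eq _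
  have h1 : (maximalIdeal (A ⧸ J)).comap (Ideal.Quotient.mk J) = maximalIdeal A :=
    IsLocalRing.eq_maximalIdeal (Ideal.comap_isMaximal_of_surjective (Ideal.Quotient.mk J)
      Ideal.Quotient.mk_surjective (K := maximalIdeal (A ⧸ J)))
  have h2 : Ideal.map (Ideal.Quotient.mk J) (Ideal.span ((S.image σ : Finset A) : Set A)) =
      maximalIdeal (A ⧸ J) := by
    rw [Ideal.map_span, ← hSspan]
    congr 1
    ext y
    simp only [Finset.coe_image, Set.mem_image, Finset.mem_coe]
    constructor
    · rintro ⟨x, ⟨z, hz, rfl⟩, rfl⟩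
      rw [hσ]
      exact hz
    · intro hy
      exact ⟨σ y, ⟨y, hy, rfl⟩, hσ y⟩
  have hm : maximalIdeal A = Ideal.span (((S.image σ ∪ T : Finset A)) : Set A) := by
    rw [← h1, ← h2, Ideal.comap_map_of_surjective _ Ideal.Quotient.mk_surjective,
      ← RingHom.ker_eq_comap_bot, Ideal.mk_ker, Finset.coe_union, Ideal.span_union]
    congr 1
    exact hTspan.symm
  calc (maximalIdeal A).spanFinrank
      = (Ideal.span (((S.image σ ∪ T : Finset A)) : Set A)).spanFinrank := by rw [← hm]
    _ ≤ (((S.image σ ∪ T : Finset A)) : Set A).ncard :=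
        Submodule.spanFinrank_span_le_ncard_of_finite (Finset.finite_toSet _)
    _ = (S.image σ ∪ T).card := Set.ncard_coe_finset _
    _ ≤ (S.image σ).card + T.card := Finset.card_union_le _ _
    _ ≤ S.card + T.card := Nat.add_le_add_right Finset.card_image_le _
    _ = _ := by rw [hScard, hTcard]

omit [IsLocalRing A] [IsNoetherianRing A] in
theorem spanFinrank_span_singleton_le_one (x : A) : (Ideal.span {x}).spanFinrank ≤ 1 := by
  have := Submodule.spanFinrank_span_le_ncard_of_finite (R := A) (Set.finite_singleton x)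
  rwa [Set.ncard_singleton] at this

/-- An element of `m \ m²` is part of a minimal system of generators: the embedding dimension drops
modulo it. -/
theorem spanFinrank_maximalIdeal_quotient_add_one_le (x : A) (hx : x ∈ maximalIdeal A)
    (hx2 : x ∉ maximalIdeal A ^ 2) [IsLocalRing (A ⧸ Ideal.span {x})] :
    (maximalIdeal (A ⧸ Ideal.span {x})).spanFinrank + 1 ≤ (maximalIdeal A).spanFinrank := by
  classical
  have hmfg : (maximalIdeal A).FG := IsNoetherian.noetherian _
  obtain ⟨T, hTcard, hTspan⟩ := Submodule.FG.exists_span_finset_card_eq_spanFinrank hmfg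
  have hxT : x ∈ Submodule.span A (T : Set A) := hTspan ▸ hx
  obtain ⟨f, hf⟩ := Submodule.mem_span_finset'.mp hxT
  -- some coefficient is a unit
  obtain ⟨y0, hy0⟩ : ∃ y0 : T, IsUnit (f y0) := by
    by_contra hcon
    apply hx2
    rw [← hf, pow_two]
    refine Ideal.sum_mem _ (fun y _ => ?_)
    have h1 : f y ∈ maximalIdeal A := by
      rw [IsLocalRing.mem_maximalIdeal, mem_nonunits_iff]
      exact fun hu => hcon ⟨y, hu⟩
    have h2 : (y : A) ∈ maximalIdeal A := hTspan ▸ Submodule.subset_span y.2
    exact Ideal.mul_mem_mul h1 h2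
  -- the new generating set
  have hy0T : (y0 : A) ∈ T := y0.2
  have hgen : maximalIdeal A ≤ Ideal.span (insert x ((T.erase y0 : Finset A) : Set A)) := by
    rw [← hTspan]
    apply Submodule.span_le.mpr
    intro y hy
    by_cases hyy : y = (y0 : A)
    · -- y0 is a combination of x and the others
      obtain ⟨u, hu⟩ := hy0
      have hsum : f y0 • (y0 : A) + ∑ a ∈ (Finset.univ.erase y0 : Finset T), f a • (a : A) =
          ∑ a : T, f a • (a : A) :=
        Finset.add_sum_erase Finset.univ (fun a : T => f a • (a : A)) (Finset.mem_univ y0)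
      have hrest : (∑ a ∈ (Finset.univ.erase y0 : Finset T), f a • (a : A)) ∈
          Ideal.span (insert x ((T.erase y0 : Finset A) : Set A)) := by
        refine Ideal.sum_mem _ (fun a ha => ?_)
        refine Ideal.mul_mem_left _ _ (Ideal.subset_span (Set.mem_insert_of_mem _ ?_))
        rw [Finset.mem_coe, Finset.mem_erase]
        refine ⟨fun h => (Finset.mem_erase.mp ha).1 (Subtype.ext h), a.2⟩
      have hxmem : x ∈ Ideal.span (insert x ((T.erase y0 : Finset A) : Set A)) :=
        Ideal.subset_span (Set.mem_insert _ _)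
      have hfy : f y0 • (y0 : A) ∈ Ideal.span (insert x ((T.erase y0 : Finset A) : Set A)) := by
        have : f y0 • (y0 : A) =
            x - ∑ a ∈ (Finset.univ.erase y0 : Finset T), f a • (a : A) := by
          rw [← hf, ← hsum]
          abel
        rw [this]
        exact Ideal.sub_mem _ hxmem hrest
      have hy0mem : (y0 : A) ∈ Ideal.span (insert x ((T.erase y0 : Finset A) : Set A)) := by
        have h := Ideal.mul_mem_left _ (↑u⁻¹ : A) hfy
        rwa [smul_eq_mul, ← mul_assoc, ← hu, Units.inv_mul, one_mul] at h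
      rw [hyy]
      exact hy0mem
    · exact Ideal.subset_span (Set.mem_insert_of_mem _
        (Finset.mem_coe.mpr (Finset.mem_erase.mpr ⟨hyy, hy⟩)))
  -- pass to the quotient
  have hmap : maximalIdeal (A ⧸ Ideal.span {x}) =
      Ideal.span ((Ideal.Quotient.mk (Ideal.span {x})) '' ((T.erase y0 : Finset A) : Set A)) := by
    apply le_antisymm
    · rw [← map_mk_maximalIdeal A (Ideal.span {x})]
      refine (Ideal.map_mono hgen).trans ?_
      rw [Ideal.map_span, Set.image_insert_eq]
      apply Ideal.span_le.mpr
      intro z hz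
      rcases hz with rfl | hz
      · have : Ideal.Quotient.mk (Ideal.span {x}) x = 0 :=
          Ideal.Quotient.eq_zero_iff_mem.mpr (Ideal.subset_span (Set.mem_singleton x))
        rw [this]
        exact Ideal.zero_mem _
      · exact Ideal.subset_span hz
    · apply Ideal.span_le.mpr
      rintro _ ⟨y, hy, rfl⟩
      rw [← map_mk_maximalIdeal A (Ideal.span {x})]
      apply Ideal.mem_map_of_mem
      rw [← hTspan]
      exact Submodule.subset_span (Finset.mem_of_mem_erase (Finset.mem_coe.mp hy))
  have hcard : (maximalIdeal (A ⧸ Ideal.span {x})).spanFinrank ≤ (T.erase y0).card := by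
    rw [hmap]
    refine (Submodule.spanFinrank_span_le_ncard_of_finite
      ((Finset.finite_toSet _).image _)).trans ?_
    refine (Set.ncard_image_le (Finset.finite_toSet _)).trans ?_
    rw [Set.ncard_coe_finset]
  rw [Finset.card_erase_of_mem hy0T] at hcard
  have hpos : 0 < T.card := Finset.card_pos.mpr ⟨y0, hy0T⟩
  omega

end Generators

section RLR

/-- In a regular local ring of positive dimension there are elements of `m \ m²`. -/
theorem exists_mem_maximalIdeal_notMem_sq (A : Type u) [CommRing A] [IsLocalRing A]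
    [IsNoetherianRing A] (h : ¬ IsField A) :
    ∃ x ∈ maximalIdeal A, x ∉ maximalIdeal A ^ 2 := by
  by_contra hcon
  apply h
  rw [IsLocalRing.isField_iff_maximalIdeal_eq]
  have hle : maximalIdeal A ≤ maximalIdeal A • maximalIdeal A := by
    intro x hx
    by_contra hx2
    exact hcon ⟨x, hx, by rwa [pow_two]⟩
  exact Submodule.eq_bot_of_le_smul_of_le_jacobson_bot (maximalIdeal A) (maximalIdeal A)
    (IsNoetherian.noetherian _) hle (IsLocalRing.maximalIdeal_le_jacobson ⊥)

theorem isField_of_ringKrullDim_eq_zero (A : Type u) [CommRing A] [IsRegularLocalRing A]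
    (h : ringKrullDim A = 0) : IsField A := by
  rw [IsLocalRing.isField_iff_maximalIdeal_eq]
  have h1 := IsRegularLocalRing.spanFinrank_maximalIdeal (R := A)
  rw [h, ← Nat.cast_zero] at h1
  have h2 := withBot_natCast_inj h1
  exact (Submodule.spanFinrank_eq_zero_iff_eq_bot (IsNoetherian.noetherian _)).mp h2

theorem not_isField_of_ringKrullDim_eq_succ (A : Type u) [CommRing A] (d : ℕ)
    (h : ringKrullDim A = ((d + 1 : ℕ) : WithBot ℕ∞)) : ¬ IsField A := by
  intro hF
  rw [ringKrullDim_eq_zero_of_isField hF, ← Nat.cast_zero] at h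
  have := withBot_natCast_inj h
  omega

/-- The quotient of a regular local ring by an element of `m \ m²` is regular of dimension one
less. -/
theorem isRegularLocalRing_quotient_span_singleton (A : Type u) [CommRing A]
    [IsRegularLocalRing A] (x : A) (hx : x ∈ maximalIdeal A) (hx2 : x ∉ maximalIdeal A ^ 2) :
    IsRegularLocalRing (A ⧸ Ideal.span {x}) ∧
      ringKrullDim (A ⧸ Ideal.span {x}) + 1 = ringKrullDim A := by
  have hne : Ideal.span {x} ≠ ⊤ := fun h =>
    (maximalIdeal.isMaximal A).ne_top (top_le_iff.mp (h.ge.trans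
      ((Ideal.span_singleton_le_iff_mem _).mpr hx)))
  have : Nontrivial (A ⧸ Ideal.span {x}) := Ideal.Quotient.nontrivial_iff.mpr hne
  have : IsLocalRing (A ⧸ Ideal.span {x}) :=
    IsLocalRing.of_surjective' (Ideal.Quotient.mk _) Ideal.Quotient.mk_surjective
  have h1 := spanFinrank_maximalIdeal_quotient_add_one_le A x hx hx2
  have h2 : ringKrullDim A ≤ ringKrullDim (A ⧸ Ideal.span {x}) + 1 := by
    have := ringKrullDim_le_ringKrullDim_quotient_add_encard ({x} : Set A)
      (by rw [IsLocalRing.ringJacobson_eq_maximalIdeal]; simpa using hx)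
    simpa using this
  have h3 := IsRegularLocalRing.spanFinrank_maximalIdeal (R := A)
  have h4 : (((maximalIdeal (A ⧸ Ideal.span {x})).spanFinrank : ℕ) : WithBot ℕ∞) + 1 ≤
      ringKrullDim (A ⧸ Ideal.span {x}) + 1 := by
    refine le_trans ?_ h2
    rw [← h3, ← Nat.cast_succ]
    exact withBot_natCast_le.mpr h1
  have h5 := withBot_le_of_add_one_le_add_one h4
  have hreg : IsRegularLocalRing (A ⧸ Ideal.span {x}) :=
    IsRegularLocalRing.of_spanFinrank_maximalIdeal_le _ h5
  refine ⟨hreg, le_antisymm ?_ h2⟩
  rw [← hreg.spanFinrank_maximalIdeal, ← h3, ← Nat.cast_succ]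
  exact withBot_natCast_le.mpr h1

theorem isDomain_of_isRegularLocalRing_aux (d : ℕ) :
    ∀ (A : Type u) [CommRing A] [IsRegularLocalRing A], ringKrullDim A = d → IsDomain A := by
  induction d with
  | zero =>
    intro A _ _ h
    rw [Nat.cast_zero] at h
    exact (isField_of_ringKrullDim_eq_zero A h).isDomain
  | succ d ih =>
    intro A _ _ hdim
    classical
    have hnf := not_isField_of_ringKrullDim_eq_succ A d hdim
    have hPfin := minimalPrimes.finite_of_isNoetherianRing A
    -- prime avoidance
    obtain ⟨x, hxm, hx2, hxP⟩ : ∃ x ∈ maximalIdeal A, x ∉ maximalIdeal A ^ 2 ∧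
        ∀ p ∈ minimalPrimes A, x ∉ p := by
      by_contra hcon
      have hsub : ((maximalIdeal A : Ideal A) : Set A) ⊆
          ⋃ i ∈ ((insert (maximalIdeal A ^ 2) hPfin.toFinset : Finset (Ideal A)) : Set (Ideal A)),
            (i : Set A) := by
        intro x hx
        by_contra hx'
        apply hcon
        refine ⟨x, hx, fun h2 => hx' ?_, fun p hp hxp => hx' ?_⟩
        · exact Set.mem_biUnion (by simp) h2
        · exact Set.mem_biUnion (by simp [hp]) hxp
      rw [Ideal.subset_union_prime (R := A) (f := fun p : Ideal A => p) (maximalIdeal A ^ 2)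
        (maximalIdeal A ^ 2)] at hsub
      · obtain ⟨i, hi, hle⟩ := hsub
        rw [Finset.mem_insert] at hi
        rcases hi with rfl | hi
        · obtain ⟨y, hym, hy2⟩ := exists_mem_maximalIdeal_notMem_sq A hnf
          exact hy2 (hle hym)
        · have hiP : i ∈ minimalPrimes A := hPfin.mem_toFinset.mp hi
          have hiprime : i.IsPrime := hiP.1.1
          have him : i = maximalIdeal A :=
            ((maximalIdeal.isMaximal A).eq_of_le hiprime.ne_top hle).symm
          have h0 : (maximalIdeal A).height = 0 := by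
            rw [Ideal.height_eq_zero_iff, ← him]
            exact hiP
          have h1 := IsLocalRing.maximalIdeal_height_eq_ringKrullDim (R := A)
          rw [h0, hdim] at h1
          have h2 : ((0 : ℕ) : WithBot ℕ∞) = ((d + 1 : ℕ) : WithBot ℕ∞) := by
            rw [← h1]
            rfl
          have := withBot_natCast_inj h2
          omega
      · intro i hi hne _
        rw [Finset.mem_insert] at hi
        rcases hi with rfl | hi
        · exact absurd rfl hne
        · exact (hPfin.mem_toFinset.mp hi).1.1
    obtain ⟨hreg, hdim'⟩ := isRegularLocalRing_quotient_span_singleton A x hxm hx2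
    have hd' : ringKrullDim (A ⧸ Ideal.span {x}) = d := by
      apply withBot_add_one_cancel
      rw [hdim', hdim, Nat.cast_succ]
    have hdom := ih (A ⧸ Ideal.span {x}) hd'
    have hxprime : (Ideal.span {x}).IsPrime := (Ideal.Quotient.isDomain_iff_prime _).mp hdom
    obtain ⟨p, hp, hple⟩ := Ideal.exists_minimalPrimes_le (I := (⊥ : Ideal A))
      (J := Ideal.span {x}) bot_le
    have hpP : p ∈ minimalPrimes A := hp
    have hpprime : p.IsPrime := hp.1.1
    have hp0 : p = ⊥ := by
      apply Submodule.eq_bot_of_le_smul_of_le_jacobson_bot (maximalIdeal A) p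
        (IsNoetherian.noetherian _) _ (IsLocalRing.maximalIdeal_le_jacobson ⊥)
      intro y hy
      obtain ⟨a, rfl⟩ := Ideal.mem_span_singleton'.mp (hple hy)
      have ha : a ∈ p := (hpprime.mem_or_mem hy).resolve_right (hxP p hpP)
      rw [mul_comm]
      exact Submodule.smul_mem_smul hxm ha
    have : (⊥ : Ideal A).IsPrime := hp0 ▸ hpprime
    exact IsDomain.of_bot_isPrime A

/-- A regular local ring is a domain. -/
theorem isDomain_of_isRegularLocalRing (A : Type u) [CommRing A] [IsRegularLocalRing A] :
    IsDomain A := by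
  obtain ⟨d, hd⟩ := withBot_exists_natCast
    (a := ringKrullDim A) (fun h => by
      have h0 : (0 : WithBot ℕ∞) ≤ ringKrullDim A := ringKrullDim_nonneg_of_nontrivial
      rw [h] at h0
      exact absurd (le_bot_iff.mp h0) (by simp)) ringKrullDim_lt_top.ne
  exact isDomain_of_isRegularLocalRing_aux d A hd

/-- If `R/(x)` is regular for a nonzerodivisor `x ∈ m`, then `R` is regular. -/
theorem isRegularLocalRing_of_quotient_span_singleton (R : Type u) [CommRing R] [IsLocalRing R]
    [IsNoetherianRing R] (x : R) (hx : x ∈ maximalIdeal R) (hreg : x ∈ nonZeroDivisors R)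
    [IsRegularLocalRing (R ⧸ Ideal.span ({x} : Set R))] : IsRegularLocalRing R := by
  apply IsRegularLocalRing.of_spanFinrank_maximalIdeal_le
  have h1 := ringKrullDim_quotient_span_singleton_succ_eq_ringKrullDim_of_mem_nonZeroDivisors hreg hx
  have h2 := spanFinrank_maximalIdeal_le_add R (Ideal.span {x})
  have h3 := spanFinrank_span_singleton_le_one R x
  have h4 : (maximalIdeal R).spanFinrank ≤
      (maximalIdeal (R ⧸ Ideal.span {x})).spanFinrank + 1 := by omega
  rw [← h1, ← IsRegularLocalRing.spanFinrank_maximalIdeal, ← Nat.cast_succ]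
  exact withBot_natCast_le.mpr h4

end RLR

end Groth.Agent.H29
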