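import Mathlib
import Groth.Prelude.Def_CAlg
import Groth.Agent.H29.RegLocal2
import Groth.Agent.H29.DepthFinite
import Groth.Agent.H29.CMLib
import Groth.Agent.H29.IntegralDim

/-!
# Regular local rings are Cohen–Macaulay; maximal Cohen–Macaulay modules are free (helper29)

* `depth_self_eq_ringKrullDim_of_isRegularLocalRing` : `depth A = dim A` for a regular local ring.
* `isCohenMacaulayLocalRing_of_isRegularLocalRing`.
* `isRegular_ofFn_of_span_eq_maximalIdeal` : a regular system of parameters is a regular sequence.
* `free_of_depth_eq_ringKrullDim` : MCM modules over a regular local ring are free.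
-/

set_option autoImplicit false
set_option linter.style.haveILetI false
universe u v

namespace Groth.Agent.H29

open RingTheory.Sequence IsLocalRing
open scoped Pointwise

/-- `A/xA` as `QuotSMulTop` or as a quotient ring. -/
noncomputable def quotSMulTopEquivQuotientSpan (A : Type u) [CommRing A] (x : A) :
    QuotSMulTop x A ≃ₗ[A] (A ⧸ Ideal.span {x}) :=
  Submodule.quotEquivOfEq _ _ (by
    rw [← Submodule.ideal_span_singleton_smul, smul_eq_mul, Ideal.mul_top])

theorem ringKrullDim_eq_natCast_of_isLocalRing (A : Type u) [CommRing A] [IsLocalRing A]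
    [IsNoetherianRing A] : ∃ d : ℕ, ringKrullDim A = d :=
  withBot_exists_natCast
    (a := ringKrullDim A) (fun h => by
      have h0 : (0 : WithBot ℕ∞) ≤ ringKrullDim A := ringKrullDim_nonneg_of_nontrivial
      rw [h] at h0
      exact absurd (le_bot_iff.mp h0) (by simp)) ringKrullDim_lt_top.ne

theorem ringKrullDim_quotient_eq_of_succ (A : Type u) [CommRing A] (I : Ideal A) (d : ℕ)
    (h : ringKrullDim A = ((d + 1 : ℕ) : WithBot ℕ∞))
    (hdim : ringKrullDim (A ⧸ I) + 1 = ringKrullDim A) : ringKrullDim (A ⧸ I) = d := by
  rw [h, Nat.cast_succ] at hdim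
  exact withBot_add_one_cancel hdim

theorem depth_self_eq_ringKrullDim_of_isRegularLocalRing_aux (d : ℕ) :
    ∀ (A : Type u) [CommRing A] [IsRegularLocalRing A], ringKrullDim A = d →
      LocCoh.depth A A = d := by
  induction d with
  | zero =>
    intro A _ _ h
    have h1 := depth_le_supportDim A A
    rw [Module.supportDim_self_eq_ringKrullDim, h, ← WithBot.coe_natCast, WithBot.coe_le_coe] at h1
    exact le_antisymm h1 (by simp)
  | succ d ih =>
    intro A _ _ h
    have hnf := not_isField_of_ringKrullDim_eq_succ A d h
    obtain ⟨x, hx, hx2⟩ := exists_mem_maximalIdeal_notMem_sq A hnf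
    obtain ⟨hreg', hdim⟩ := isRegularLocalRing_quotient_span_singleton A x hx hx2
    haveI := hreg'
    haveI : IsDomain A := isDomain_of_isRegularLocalRing A
    have hx0 : x ≠ 0 := by
      rintro rfl
      exact hx2 (Ideal.zero_mem _)
    have hreg : IsSMulRegular A x := fun a b hab => mul_left_cancel₀ hx0 hab
    have hdim' : ringKrullDim (A ⧸ Ideal.span {x}) = d :=
      ringKrullDim_quotient_eq_of_succ A _ d h hdim
    have h1 := ih (A ⧸ Ideal.span {x}) hdim'
    haveI : IsLocalHom (algebraMap A (A ⧸ Ideal.span {x})) :=
      IsLocalHom.of_surjective _ Ideal.Quotient.mk_surjective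
    have h2 := depth_eq_depth_of_isLocalHom A (A ⧸ Ideal.span {x}) (A ⧸ Ideal.span {x})
    have h3 := depth_quotSMulTop_add_one A A x hx hreg
    have h4 : LocCoh.depth A (QuotSMulTop x A) = LocCoh.depth A (A ⧸ Ideal.span {x}) :=
      idealDepth_congr _ (quotSMulTopEquivQuotientSpan A x)
    rw [← h3, h4, h2, h1, Nat.cast_succ]

/-- A regular local ring has depth equal to its dimension. -/
theorem depth_self_eq_ringKrullDim_of_isRegularLocalRing (A : Type u) [CommRing A]
    [IsRegularLocalRing A] : ((LocCoh.depth A A : ℕ∞) : WithBot ℕ∞) = ringKrullDim A := by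
  obtain ⟨d, hd⟩ := ringKrullDim_eq_natCast_of_isLocalRing A
  rw [depth_self_eq_ringKrullDim_of_isRegularLocalRing_aux d A hd, hd]
  rfl

theorem isCohenMacaulayModule_self_of_isRegularLocalRing (A : Type u) [CommRing A]
    [IsRegularLocalRing A] : LocCoh.IsCohenMacaulayModule A A := by
  show Module.supportDim A A = _
  rw [Module.supportDim_self_eq_ringKrullDim, depth_self_eq_ringKrullDim_of_isRegularLocalRing]

/-- A regular local ring is Cohen–Macaulay. -/
theorem isCohenMacaulayLocalRing_of_isRegularLocalRing (A : Type u) [CommRing A]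
    [IsRegularLocalRing A] : LocCoh.IsCohenMacaulayLocalRing A where
  supportDim_eq_depth := isCohenMacaulayModule_self_of_isRegularLocalRing A

/-- In a regular local ring of dimension `d`, `d` generators of the maximal ideal form a regular
sequence. -/
theorem isRegular_ofFn_of_span_eq_maximalIdeal (R : Type u) [CommRing R]
    [IsRegularLocalRing R] (d : ℕ) (hd : ringKrullDim R = d) (x : Fin d → R)
    (hx : Ideal.span (Set.range x) = IsLocalRing.maximalIdeal R) :
    RingTheory.Sequence.IsRegular R (List.ofFn x) := by
  have hCM : LocCoh.IsCohenMacaulayModule R R := isCohenMacaulayModule_self_of_isRegularLocalRing R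
  have hmem : ∀ y ∈ List.ofFn x, y ∈ maximalIdeal R := by
    intro y hy
    rw [List.mem_ofFn] at hy
    rw [← hx]
    exact Ideal.subset_span hy
  have hof : Ideal.ofList (List.ofFn x) = maximalIdeal R := by
    rw [Ideal.ofList, ← hx]
    congr 1
    ext y
    simp [List.mem_ofFn]
  apply IsRegular.of_isWeaklyRegular_of_mem_maximalIdeal R hmem
  apply isWeaklyRegular_of_supportDim_quotient_add_length R _ R hCM hmem
  rw [hof, List.length_ofFn, Module.supportDim_self_eq_ringKrullDim, hd]
  have h1 := supportDim_quotient_smul_top_eq_ringKrullDim_quotient R R (IsLocalRing.closedPoint R)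
    (IsLocalRing.closedPoint_mem_support R R)
  have h2 : (IsLocalRing.closedPoint R).asIdeal = maximalIdeal R := rfl
  rw [h2] at h1
  rw [h1, ringKrullDim_quotient_maximalIdeal, zero_add]

theorem free_of_depth_eq_ringKrullDim_aux (d : ℕ) :
    ∀ (R : Type u) [CommRing R] [IsRegularLocalRing R] (M : Type u) [AddCommGroup M] [Module R M]
      [Module.Finite R M], ringKrullDim R = d →
      ((LocCoh.depth R M : ℕ∞) : WithBot ℕ∞) = ringKrullDim R → Module.Free R M := by
  induction d with
  | zero =>
    intro R _ _ M _ _ _ hd _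
    have hF := isField_of_ringKrullDim_eq_zero R (by rw [hd]; rfl)
    letI := hF.toField
    exact Module.Free.of_divisionRing R M
  | succ d ih =>
    intro R _ _ M _ _ _ hd hdepth
    rcases subsingleton_or_nontrivial M with hM | hM
    · exact Module.Free.of_subsingleton R M
    have hnf := not_isField_of_ringKrullDim_eq_succ R d hd
    obtain ⟨x, hx, hx2⟩ := exists_mem_maximalIdeal_notMem_sq R hnf
    obtain ⟨hreg', hdim⟩ := isRegularLocalRing_quotient_span_singleton R x hx hx2
    haveI := hreg'
    haveI : IsDomain R := isDomain_of_isRegularLocalRing R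
    have hx0 : x ≠ 0 := by
      rintro rfl
      exact hx2 (Ideal.zero_mem _)
    have hsd : Module.supportDim R M = ringKrullDim R :=
      le_antisymm (Module.supportDim_le_ringKrullDim R M) (hdepth ▸ depth_le_supportDim R M)
    have hCM : LocCoh.IsCohenMacaulayModule R M := by
      show Module.supportDim R M = _
      rw [hsd, hdepth]
    have hregM : IsSMulRegular M x := by
      by_contra hnr
      have hmemU : x ∈ ⋃ p ∈ associatedPrimes R M, (p : Set R) := by
        rw [biUnion_associatedPrimes_eq_compl_regular]
        exact hnr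
      obtain ⟨p, hp, hxp⟩ := Set.mem_iUnion₂.mp hmemU
      have hpdim := ringKrullDim_quotient_eq_supportDim_of_isCohenMacaulayModule R M hCM p hp
      haveI : p.IsPrime := hp.isPrime
      have h1 := ringKrullDim_quotient_succ_le_of_lt R (⊥ : Ideal R) p bot_le x hxp
        (by simpa using hx0)
      rw [ringKrullDim_eq_of_ringEquiv (RingEquiv.quotientBot R), hpdim, hsd] at h1
      exact withBot_not_add_one_le (by rw [hd]; exact WithBot.coe_ne_bot)
        ringKrullDim_lt_top.ne h1
    have hdim' : ringKrullDim (R ⧸ Ideal.span {x}) = d :=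
      ringKrullDim_quotient_eq_of_succ R _ d hd hdim
    haveI : IsLocalHom (algebraMap R (R ⧸ Ideal.span {x})) :=
      IsLocalHom.of_surjective _ Ideal.Quotient.mk_surjective
    haveI : Module.Finite (R ⧸ Ideal.span {x}) (QuotSMulTop x M) :=
      Module.Finite.of_restrictScalars_finite R (R ⧸ Ideal.span {x}) _
    have h2 := depth_eq_depth_of_isLocalHom R (R ⧸ Ideal.span {x}) (QuotSMulTop x M)
    have h3 := depth_quotSMulTop_add_one R M x hx hregM
    have h4 : ((LocCoh.depth (R ⧸ Ideal.span {x}) (QuotSMulTop x M) : ℕ∞) : WithBot ℕ∞) =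
        ringKrullDim (R ⧸ Ideal.span {x}) := by
      rw [← h2, hdim']
      rw [hd, ← h3, WithBot.coe_add, WithBot.coe_one, Nat.cast_succ] at hdepth
      exact withBot_add_one_cancel hdepth
    have hfree' : Module.Free (R ⧸ Ideal.span {x}) (QuotSMulTop x M) :=
      ih (R ⧸ Ideal.span {x}) (QuotSMulTop x M) hdim' h4
    haveI : Module.FinitePresentation R M := Module.finitePresentation_of_finite R M
    exact (Module.free_quotSMulTop_iff_free R M
      (by rw [IsLocalRing.jacobson_eq_maximalIdeal ⊥ bot_ne_top]; exact hx) hregM).mp hfree'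

/-- Over a regular local ring, a finite module with `depth M = dim R` is free. -/
theorem free_of_depth_eq_ringKrullDim (R : Type u) [CommRing R]
    [IsRegularLocalRing R] (M : Type u) [AddCommGroup M] [Module R M] [Module.Finite R M]
    (h : ((LocCoh.depth R M : ℕ∞) : WithBot ℕ∞) = ringKrullDim R) : Module.Free R M := by
  obtain ⟨d, hd⟩ := ringKrullDim_eq_natCast_of_isLocalRing R
  exact free_of_depth_eq_ringKrullDim_aux d R M hd h

end Groth.Agent.H29
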