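import Mathlib
import Groth.Prelude.Def_CAlg
import Groth.Agent.H29.RegLocal3

/-!
# Ischebeck's theorem (helper29)

* `depth_le_idealDepth_add_ringKrullDim_quotient` : `depth M ≤ depth_I M + dim A/I`.
* `subsingleton_ext_of_add_supportDim_lt_depth` : `Ext^i(N, M) = 0` for `i < depth M - dim N`.
* `subsingleton_ext_of_supportDim_add_le` : over a regular local ring `Ext^i(M, A) = 0` for
  `i < dim A - dim M`.
-/

set_option autoImplicit false
set_option linter.style.haveILetI false
universe u v

namespace Groth.Agent.H29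

open RingTheory.Sequence CategoryTheory Abelian IsLocalRing
open scoped Pointwise

section ExtZero

variable {C : Type u} [Category.{v} C] [Abelian C] [HasExt C]

theorem subsingleton_ext_of_isZero_left {X : C} (hX : Limits.IsZero X) (Y : C) (i : ℕ) :
    Subsingleton (Ext X Y i) := by
  have key : ∀ e : Ext X Y i, e = 0 := fun e => by
    rw [← Ext.mk₀_id_comp e, hX.eq_of_src (𝟙 X) 0, Ext.mk₀_zero, Ext.zero_comp]
  exact ⟨fun a b => by rw [key a, key b]⟩

end ExtZero

section General

variable {R : Type u} [CommRing R] [IsNoetherianRing R]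

/-- If `depth_I M = 0` (and `IM ≠ M`) then `I` is contained in an associated prime of `M`. -/
theorem exists_mem_associatedPrimes_le_of_idealDepth_eq_zero (M : Type v) [AddCommGroup M]
    [Module R M] [Module.Finite R M] (I : Ideal R) (hIM : I • (⊤ : Submodule R M) ≠ ⊤)
    (h : LocCoh.idealDepth I M = 0) : ∃ p ∈ associatedPrimes R M, I ≤ p := by
  by_contra hcon
  push Not at hcon
  obtain ⟨x, hxI, hreg⟩ := exists_isSMulRegular_mem_of_forall_not_le R M I hcon
  have h1 : ((1 : ℕ) : ℕ∞) ≤ LocCoh.idealDepth I M :=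
    (le_idealDepth_iff I M hIM 1).mpr ⟨[x], rfl,
      (isWeaklyRegular_cons_iff M x []).mpr ⟨hreg, IsWeaklyRegular.nil R _⟩, by simpa using hxI⟩
  rw [h] at h1
  simp at h1

omit [IsNoetherianRing R] in
/-- If `1 ≤ depth_I M` then `I` contains an `M`-regular element. -/
theorem exists_isSMulRegular_mem_of_one_le_idealDepth (M : Type v) [AddCommGroup M]
    [Module R M] (I : Ideal R) (hIM : I • (⊤ : Submodule R M) ≠ ⊤)
    (h : (1 : ℕ∞) ≤ LocCoh.idealDepth I M) : ∃ x ∈ I, IsSMulRegular M x := by
  obtain ⟨rs, hlen, hreg, hmem⟩ := (le_idealDepth_iff I M hIM 1).mp (by exact_mod_cast h)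
  match rs, hlen, hreg, hmem with
  | [x], _, hreg, hmem =>
    exact ⟨x, hmem x (List.mem_singleton.mpr rfl), ((isWeaklyRegular_cons_iff M x []).mp hreg).1⟩

end General

section Local

variable (A : Type u) [CommRing A] [IsLocalRing A] [IsNoetherianRing A]

omit [IsNoetherianRing A] in
theorem smul_top_ne_top_of_ne_top (M : Type v) [AddCommGroup M] [Module A M] [Module.Finite A M]
    [Nontrivial M] (I : Ideal A) (hI : I ≠ ⊤) : I • (⊤ : Submodule A M) ≠ ⊤ := fun h =>
  maximalIdeal_smul_top_ne_top A M (top_le_iff.mp (h.ge.trans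
    (Submodule.smul_mono_left (IsLocalRing.le_maximalIdeal hI))))

theorem depth_le_idealDepth_add_ringKrullDim_quotient_aux (n : ℕ) :
    ∀ (M : Type u) [AddCommGroup M] [Module A M] [Module.Finite A M] [Nontrivial M] (I : Ideal A),
      I ≠ ⊤ → LocCoh.idealDepth I M = n →
      ((LocCoh.depth A M : ℕ∞) : WithBot ℕ∞) ≤ (n : WithBot ℕ∞) + ringKrullDim (A ⧸ I) := by
  induction n with
  | zero =>
    intro M _ _ _ _ I hI h
    rw [Nat.cast_zero] at h
    obtain ⟨p, hp, hIp⟩ := exists_mem_associatedPrimes_le_of_idealDepth_eq_zero M I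
      (smul_top_ne_top_of_ne_top A M I hI) h
    rw [Nat.cast_zero, zero_add]
    exact (depth_le_ringKrullDim_quotient_of_mem_associatedPrimes A M p hp).trans
      (ringKrullDim_quotient_le_of_le A I p hIp)
  | succ n ih =>
    intro M _ _ _ _ I hI h
    have hIM := smul_top_ne_top_of_ne_top A M I hI
    obtain ⟨x, hxI, hregx⟩ := exists_isSMulRegular_mem_of_one_le_idealDepth M I hIM
      (by rw [h]; exact_mod_cast Nat.succ_le_succ (Nat.zero_le n))
    have hxm : x ∈ maximalIdeal A := IsLocalRing.le_maximalIdeal hI hxI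
    have h1 := idealDepth_quotSMulTop_add_one I M hIM x hxI hregx
    have h2 := depth_quotSMulTop_add_one A M x hxm hregx
    have hIM' := smul_top_quotSMulTop_ne_top I M hIM x hxI
    haveI : Nontrivial (QuotSMulTop x M) := by
      by_contra hnt
      rw [not_nontrivial_iff_subsingleton] at hnt
      exact hIM' (Subsingleton.elim _ _)
    have h3 : LocCoh.idealDepth I (QuotSMulTop x M) = n := by
      rw [h, Nat.cast_succ] at h1
      exact le_antisymm ((ENat.add_le_add_iff_right ENat.one_ne_top).mp h1.le)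
        ((ENat.add_le_add_iff_right ENat.one_ne_top).mp h1.ge)
    have h4 := ih (QuotSMulTop x M) I hI h3
    rw [← h2, WithBot.coe_add, WithBot.coe_one, Nat.cast_succ, add_right_comm]
    exact add_le_add h4 le_rfl

/-- `depth M ≤ depth_I M + dim A/I` for a proper ideal `I` of a Noetherian local ring. -/
theorem depth_le_idealDepth_add_ringKrullDim_quotient (M : Type u) [AddCommGroup M] [Module A M]
    [Module.Finite A M] [Nontrivial M] (I : Ideal A) (hI : I ≠ ⊤) :
    ((LocCoh.depth A M : ℕ∞) : WithBot ℕ∞) ≤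
      ((LocCoh.idealDepth I M : ℕ∞) : WithBot ℕ∞) + ringKrullDim (A ⧸ I) := by
  have hle : LocCoh.idealDepth I M ≤ LocCoh.depth A M :=
    idealDepth_mono (IsLocalRing.le_maximalIdeal hI) M (maximalIdeal_smul_top_ne_top A M)
  have hne : LocCoh.idealDepth I M ≠ ⊤ := fun h =>
    depth_ne_top A M (top_le_iff.mp (h ▸ hle))
  obtain ⟨n, hn⟩ := ENat.ne_top_iff_exists.mp hne
  have := depth_le_idealDepth_add_ringKrullDim_quotient_aux A n M I hI hn.symm
  rwa [← hn, WithBot.coe_natCast]

/-- **Ischebeck's theorem**: `Ext^i(N, M) = 0` for `i < depth M - dim N`. -/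
theorem subsingleton_ext_of_add_supportDim_lt_depth (M N : Type u) [AddCommGroup M] [Module A M]
    [AddCommGroup N] [Module A N] [Module.Finite A M] [Module.Finite A N] [Nontrivial M]
    [Nontrivial N] (d r i : ℕ) (hd : LocCoh.depth A M = d) (hr : Module.supportDim A N = r)
    (hi : i + r < d) : Subsingleton (Ext (ModuleCat.of A N) (ModuleCat.of A M) i) := by
  have hI : Module.annihilator A N ≠ ⊤ := by
    intro h
    have h1 : (1 : A) ∈ Module.annihilator A N := h ▸ Submodule.mem_top
    obtain ⟨x, hx⟩ := exists_ne (0 : N)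
    exact hx (by simpa using Module.mem_annihilator.mp h1 x)
  have hIM := smul_top_ne_top_of_ne_top A M _ hI
  have h1 := depth_le_idealDepth_add_ringKrullDim_quotient A M _ hI
  have hle : LocCoh.idealDepth (Module.annihilator A N) M ≤ LocCoh.depth A M :=
    idealDepth_mono (IsLocalRing.le_maximalIdeal hI) M (maximalIdeal_smul_top_ne_top A M)
  have hne : LocCoh.idealDepth (Module.annihilator A N) M ≠ ⊤ := fun h =>
    depth_ne_top A M (top_le_iff.mp (h ▸ hle))
  obtain ⟨g, hg⟩ := ENat.ne_top_iff_exists.mp hne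
  rw [← Module.supportDim_eq_ringKrullDim_quotient_annihilator, hr, hd, ← hg,
    WithBot.coe_natCast, WithBot.coe_natCast, ← withBot_natCast_add, withBot_natCast_le] at h1
  obtain ⟨rs, hlen, hreg, hmem⟩ := (le_idealDepth_iff _ M hIM g).mp hg.le
  have hR := isRegular_of_isWeaklyRegular_of_mem _ M hIM rs hreg hmem
  have : Module.Finite A (ModuleCat.of A M) := inferInstanceAs (Module.Finite A M)
  have htfae := ModuleCat.exists_isRegular_tfae (Module.annihilator A N) g (ModuleCat.of A M)
    (lt_top_iff_ne_top.mpr hIM)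
  have h41 := htfae.out 3 0
  exact h41.mp ⟨rs, hlen, hmem, hR⟩ (ModuleCat.of A N) ‹Nontrivial N› ‹Module.Finite A N›
    (by rw [Module.support_eq_zeroLocus]) i (by omega)

end Local

/-- Over a regular local ring `A`, `Ext^i(M, A) = 0` for `i < dim A - dim M`. -/
theorem subsingleton_ext_of_supportDim_add_le (A : Type u) [CommRing A] [IsRegularLocalRing A]
    (M : Type u) [AddCommGroup M] [Module A M] [Module.Finite A M] (p : ℕ)
    (hdim : Module.supportDim A M + p ≤ ringKrullDim A) (i : ℕ) (hi : i < p) :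
    Subsingleton (Ext (ModuleCat.of A M) (ModuleCat.of A A) i) := by
  rcases subsingleton_or_nontrivial M with hM | hM
  · exact subsingleton_ext_of_isZero_left (ModuleCat.isZero_of_subsingleton _) _ i
  obtain ⟨n, hn⟩ := ringKrullDim_eq_natCast_of_isLocalRing A
  have hdep := depth_self_eq_ringKrullDim_of_isRegularLocalRing_aux n A hn
  obtain ⟨r, hr⟩ := withBot_exists_natCast (Module.supportDim_ne_bot_of_nontrivial A M)
    (supportDim_lt_top A M).ne
  rw [hr, hn, ← withBot_natCast_add, withBot_natCast_le] at hdim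
  exact subsingleton_ext_of_add_supportDim_lt_depth A A M n r i hdep hr (by omega)

end Groth.Agent.H29
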