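import Mathlib
import Groth.Prelude.Def_CAlg
import Groth.Agent.H29.Ischebeck

/-!
# Depth and flat base change (helper29)

* `idealDepth_le_idealDepth_tensor` : `depth_I M ≤ depth_{IB}(B ⊗ M)` for `B` flat over `A`.
* `idealDepth_tensor_eq` : equality for `B` faithfully flat (Noetherian rings, `M` finite).
-/

set_option autoImplicit false
set_option linter.style.haveILetI false
universe u v

namespace Groth.Agent.H29

open RingTheory.Sequence TensorProduct
open scoped Pointwise

section

variable {R : Type u} [CommRing R]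

theorem idealDepth_eq_top_of_smul_top_eq_top (I : Ideal R) (M : Type v) [AddCommGroup M]
    [Module R M] (h : I • (⊤ : Submodule R M) = ⊤) : LocCoh.idealDepth I M = ⊤ := by
  classical
  unfold LocCoh.idealDepth
  rw [if_pos h]

end

variable (A B : Type u) [CommRing A] [CommRing B] [Algebra A B]

theorem map_smul_top_tensor_eq_top (I : Ideal A) (M : Type v) [AddCommGroup M] [Module A M]
    (h : I • (⊤ : Submodule A M) = ⊤) :
    I.map (algebraMap A B) • (⊤ : Submodule B (B ⊗[A] M)) = ⊤ := by
  rw [eq_top_iff]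
  rintro t -
  induction t using TensorProduct.induction_on with
  | zero => exact Submodule.zero_mem _
  | tmul b m =>
    have hm : m ∈ I • (⊤ : Submodule A M) := by rw [h]; exact Submodule.mem_top
    refine Submodule.smul_induction_on hm ?_ ?_
    · intro a ha m' _
      have : b ⊗ₜ[A] (a • m') = algebraMap A B a • (b ⊗ₜ[A] m') := by
        rw [algebraMap_smul, TensorProduct.tmul_smul]
      rw [this]
      exact Submodule.smul_mem_smul (Ideal.mem_map_of_mem _ ha) Submodule.mem_top
    · intro x y hx hy
      rw [TensorProduct.tmul_add]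
      exact Submodule.add_mem _ hx hy
  | add x y hx hy => exact Submodule.add_mem _ hx hy

theorem idealDepth_le_idealDepth_tensor [Module.Flat A B] (I : Ideal A) (M : Type v)
    [AddCommGroup M] [Module A M] :
    LocCoh.idealDepth I M ≤ LocCoh.idealDepth (I.map (algebraMap A B)) (B ⊗[A] M) := by
  by_cases hIM : I • (⊤ : Submodule A M) = ⊤
  · rw [idealDepth_eq_top_of_smul_top_eq_top I M hIM,
      idealDepth_eq_top_of_smul_top_eq_top _ _ (map_smul_top_tensor_eq_top A B I M hIM)]
  by_cases hIB : I.map (algebraMap A B) • (⊤ : Submodule B (B ⊗[A] M)) = ⊤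
  · rw [idealDepth_eq_top_of_smul_top_eq_top _ _ hIB]
    exact le_top
  refine ENat.forall_natCast_le_iff_le.mp (fun n hn => ?_)
  obtain ⟨rs, hlen, hreg, hmem⟩ := (le_idealDepth_iff I M hIM n).mp hn
  refine (le_idealDepth_iff _ _ hIB n).mpr ⟨rs.map (algebraMap A B), by simp [hlen],
    hreg.of_flat_of_isBaseChange (TensorProduct.isBaseChange A M B), ?_⟩
  intro r hr
  obtain ⟨x, hx, rfl⟩ := List.mem_map.mp hr
  exact Ideal.mem_map_of_mem _ (hmem x hx)

theorem le_idealDepth_of_le_idealDepth_tensor [IsNoetherianRing A] [IsNoetherianRing B]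
    [Module.FaithfullyFlat A B] (I : Ideal A) (n : ℕ) :
    ∀ (M : Type u) [AddCommGroup M] [Module A M] [Module.Finite A M],
      I • (⊤ : Submodule A M) ≠ ⊤ →
      (n : ℕ∞) ≤ LocCoh.idealDepth (I.map (algebraMap A B)) (B ⊗[A] M) →
      (n : ℕ∞) ≤ LocCoh.idealDepth I M := by
  induction n with
  | zero =>
    intro M _ _ _ _ _
    simp
  | succ n ih =>
    intro M _ _ _ hIM h
    have hIB : I.map (algebraMap A B) • (⊤ : Submodule B (B ⊗[A] M)) ≠ ⊤ :=
      ((TensorProduct.isBaseChange A M B).map_smul_top_ne_top_iff_of_faithfullyFlat A M I).mpr hIM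
    have hex : ∃ x ∈ I, IsSMulRegular M x := by
      by_contra hcon
      have hnall : ¬ ∀ q ∈ associatedPrimes A M, ¬ I ≤ q := fun hall =>
        hcon (exists_isSMulRegular_mem_of_forall_not_le A M I hall)
      push Not at hnall
      obtain ⟨p, hp, hIp⟩ := hnall
      obtain ⟨hpp, m, hm⟩ := isAssociatedPrime_iff.mp hp
      have hm0 : m ≠ 0 := by
        rintro rfl
        apply hpp.ne_top
        rw [hm]
        ext y
        simp [Submodule.mem_colon_singleton]
      have hkill : ∀ a ∈ I, a • m = 0 := by
        intro a ha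
        have : a ∈ (⊥ : Submodule A M).colon {m} := hm ▸ hIp ha
        rwa [Submodule.mem_colon_singleton, Submodule.mem_bot] at this
      have hne : (1 : B) ⊗ₜ[A] m ≠ 0 := fun h0 =>
        hm0 ((Module.FaithfullyFlat.one_tmul_eq_zero_iff A M m).mp h0)
      have hle : I.map (algebraMap A B) ≤
          LinearMap.ker (LinearMap.toSpanSingleton B (B ⊗[A] M) ((1 : B) ⊗ₜ[A] m)) := by
        rw [Ideal.map_le_iff_le_comap]
        intro a ha
        rw [Ideal.mem_comap, LinearMap.mem_ker, LinearMap.toSpanSingleton_apply, algebraMap_smul,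
          ← TensorProduct.tmul_smul, hkill a ha, TensorProduct.tmul_zero]
      obtain ⟨y, hyI, hyreg⟩ := exists_isSMulRegular_mem_of_one_le_idealDepth (B ⊗[A] M)
        (I.map (algebraMap A B)) hIB
        (le_trans (by exact_mod_cast Nat.succ_le_succ (Nat.zero_le n)) h)
      have hy0 : y • ((1 : B) ⊗ₜ[A] m) = 0 := by
        have := hle hyI
        rwa [LinearMap.mem_ker, LinearMap.toSpanSingleton_apply] at this
      exact hne (hyreg (by simp only [hy0, smul_zero]))
    obtain ⟨x, hxI, hreg⟩ := hex
    have hregB : IsSMulRegular (B ⊗[A] M) (algebraMap A B x) :=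
      hreg.of_flat_of_isBaseChange (TensorProduct.isBaseChange A M B)
    have hxIB : algebraMap A B x ∈ I.map (algebraMap A B) := Ideal.mem_map_of_mem _ hxI
    have h1 := idealDepth_quotSMulTop_add_one (I.map (algebraMap A B)) (B ⊗[A] M) hIB _ hxIB hregB
    have h2 : (n : ℕ∞) ≤ LocCoh.idealDepth (I.map (algebraMap A B))
        (QuotSMulTop (algebraMap A B x) (B ⊗[A] M)) := by
      rw [← h1, Nat.cast_succ] at h
      exact (ENat.add_le_add_iff_right ENat.one_ne_top).mp h
    rw [idealDepth_congr _ (QuotSMulTop.algebraMapTensorEquivTensorQuotSMulTop x M B)] at h2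
    have h3 := ih (QuotSMulTop x M) (smul_top_quotSMulTop_ne_top I M hIM x hxI) h2
    exact le_idealDepth_of_le_quotSMulTop I M hIM x hxI hreg n h3

theorem idealDepth_tensor_eq [IsNoetherianRing A] [IsNoetherianRing B]
    [Module.FaithfullyFlat A B] (I : Ideal A) (M : Type u) [AddCommGroup M] [Module A M]
    [Module.Finite A M] :
    LocCoh.idealDepth (I.map (algebraMap A B)) (B ⊗[A] M) = LocCoh.idealDepth I M := by
  apply le_antisymm _ (idealDepth_le_idealDepth_tensor A B I M)
  by_cases hIM : I • (⊤ : Submodule A M) = ⊤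
  · rw [idealDepth_eq_top_of_smul_top_eq_top I M hIM]
    exact le_top
  · exact ENat.forall_natCast_le_iff_le.mp
      (fun n hn => le_idealDepth_of_le_idealDepth_tensor A B I n M hIM hn)

end Groth.Agent.H29
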