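import Mathlib
import Groth.Prelude.Def_CAlg
import Groth.Agent.H29.DepthFlat

/-!
# Depth and localization (helper29)

* `depth_localizedModule_eq_zero_of_mem_associatedPrimes` : `depth M_p = 0` for `p ∈ Ass M`.
* `idealDepth_eq_iInf_depth_localizedModule` : `depth_I M = inf_{p ⊇ I} depth M_p`.
-/

set_option autoImplicit false
set_option linter.style.haveILetI false
universe u v

namespace Groth.Agent.H29

open RingTheory.Sequence IsLocalRing TensorProduct
open scoped Pointwise

section

variable (A : Type u) [CommRing A] [IsNoetherianRing A]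

/-- `depth M_p = 0` for an associated prime `p` of `M`. -/
theorem depth_localizedModule_eq_zero_of_mem_associatedPrimes (M : Type u) [AddCommGroup M]
    [Module A M] [Module.Finite A M] (p : Ideal A) [p.IsPrime]
    (hp : p ∈ associatedPrimes A M) :
    LocCoh.depth (Localization.AtPrime p) (LocalizedModule p.primeCompl M) = 0 := by
  obtain ⟨-, m, hm⟩ := isAssociatedPrime_iff.mp hp
  have hmem : ∀ a : A, a ∈ p ↔ a • m = 0 := by
    intro a
    rw [hm, Submodule.mem_colon_singleton, Submodule.mem_bot]
  have hne : LocalizedModule.mk m (1 : p.primeCompl) ≠ 0 := by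
    intro h0
    rw [← LocalizedModule.mkLinearMap_apply] at h0
    obtain ⟨s, hs⟩ := (IsLocalizedModule.eq_zero_iff p.primeCompl
      (LocalizedModule.mkLinearMap p.primeCompl M)).mp h0
    exact s.2 ((hmem s).mpr hs)
  haveI : Nontrivial (LocalizedModule p.primeCompl M) := ⟨⟨_, 0, hne⟩⟩
  rw [depth_eq_zero_iff]
  intro x hx hreg
  obtain ⟨a, s, rfl⟩ := IsLocalization.exists_mk'_eq p.primeCompl x
  rw [IsLocalization.AtPrime.mk'_mem_maximal_iff (Localization.AtPrime p) p] at hx
  have h0 : IsLocalization.mk' (Localization.AtPrime p) a s •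
      LocalizedModule.mk m (1 : p.primeCompl) = 0 := by
    rw [← Localization.mk_eq_mk'_apply, LocalizedModule.mk_smul_mk, (hmem a).mp hx,
      LocalizedModule.zero_mk]
  exact hne (hreg (by simp only [h0, smul_zero]))

theorem exists_prime_depth_localizedModule_le (I : Ideal A) (n : ℕ) :
    ∀ (M : Type u) [AddCommGroup M] [Module A M] [Module.Finite A M],
      I • (⊤ : Submodule A M) ≠ ⊤ → LocCoh.idealDepth I M = n →
      ∃ p : PrimeSpectrum A, I ≤ p.asIdeal ∧
        LocCoh.depth (Localization.AtPrime p.asIdeal) (LocalizedModule p.asIdeal.primeCompl M) ≤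
          n := by
  induction n with
  | zero =>
    intro M _ _ _ hIM h
    rw [Nat.cast_zero] at h
    obtain ⟨q, hq, hIq⟩ := exists_mem_associatedPrimes_le_of_idealDepth_eq_zero M I hIM h
    haveI : q.IsPrime := hq.isPrime
    refine ⟨⟨q, inferInstance⟩, hIq, ?_⟩
    rw [depth_localizedModule_eq_zero_of_mem_associatedPrimes A M q hq]
    simp
  | succ n ih =>
    intro M _ _ _ hIM h
    obtain ⟨x, hxI, hreg⟩ := exists_isSMulRegular_mem_of_one_le_idealDepth M I hIM
      (by rw [h]; exact_mod_cast Nat.succ_le_succ (Nat.zero_le n))
    have h1 := idealDepth_quotSMulTop_add_one I M hIM x hxI hreg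
    have hIM' := smul_top_quotSMulTop_ne_top I M hIM x hxI
    have h3 : LocCoh.idealDepth I (QuotSMulTop x M) = n := by
      rw [h, Nat.cast_succ] at h1
      exact le_antisymm ((ENat.add_le_add_iff_right ENat.one_ne_top).mp h1.le)
        ((ENat.add_le_add_iff_right ENat.one_ne_top).mp h1.ge)
    obtain ⟨p, hIp, hp⟩ := ih (QuotSMulTop x M) hIM' h3
    refine ⟨p, hIp, ?_⟩
    have hnt' : Nontrivial (LocalizedModule p.asIdeal.primeCompl (QuotSMulTop x M)) := by
      by_contra hnt
      rw [not_nontrivial_iff_subsingleton] at hnt
      rw [depth_eq_top_of_subsingleton] at hp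
      simp at hp
    haveI : Module.Flat A (Localization.AtPrime p.asIdeal) :=
      IsLocalization.flat (Localization.AtPrime p.asIdeal) p.asIdeal.primeCompl
    have hbc1 := IsLocalizedModule.isBaseChange p.asIdeal.primeCompl
      (Localization.AtPrime p.asIdeal) (LocalizedModule.mkLinearMap p.asIdeal.primeCompl M)
    have hbc2 := IsLocalizedModule.isBaseChange p.asIdeal.primeCompl
      (Localization.AtPrime p.asIdeal)
      (LocalizedModule.mkLinearMap p.asIdeal.primeCompl (QuotSMulTop x M))
    let e : QuotSMulTop (algebraMap A (Localization.AtPrime p.asIdeal) x)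
        (LocalizedModule p.asIdeal.primeCompl M) ≃ₗ[Localization.AtPrime p.asIdeal]
        LocalizedModule p.asIdeal.primeCompl (QuotSMulTop x M) :=
      (QuotSMulTop.congr (algebraMap A (Localization.AtPrime p.asIdeal) x) hbc1.equiv.symm).trans
        ((QuotSMulTop.algebraMapTensorEquivTensorQuotSMulTop x M
          (Localization.AtPrime p.asIdeal)).trans hbc2.equiv)
    have hregp : IsSMulRegular (LocalizedModule p.asIdeal.primeCompl M)
        (algebraMap A (Localization.AtPrime p.asIdeal) x) := hreg.of_flat_of_isBaseChange hbc1
    have hxm : algebraMap A (Localization.AtPrime p.asIdeal) x ∈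
        maximalIdeal (Localization.AtPrime p.asIdeal) :=
      (IsLocalization.AtPrime.to_map_mem_maximal_iff (Localization.AtPrime p.asIdeal)
        p.asIdeal x).mpr (hIp hxI)
    haveI : Nontrivial (LocalizedModule p.asIdeal.primeCompl M) := by
      by_contra hnt
      rw [not_nontrivial_iff_subsingleton] at hnt
      haveI : Subsingleton (QuotSMulTop (algebraMap A (Localization.AtPrime p.asIdeal) x)
          (LocalizedModule p.asIdeal.primeCompl M)) :=
        ⟨fun a b => by
          obtain ⟨a, rfl⟩ := Submodule.Quotient.mk_surjective _ a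
          obtain ⟨b, rfl⟩ := Submodule.Quotient.mk_surjective _ b
          rw [Subsingleton.elim a b]⟩
      haveI : Subsingleton (LocalizedModule p.asIdeal.primeCompl (QuotSMulTop x M)) :=
        e.symm.injective.subsingleton
      exact not_subsingleton _ ‹_›
    have h4 := depth_quotSMulTop_add_one (Localization.AtPrime p.asIdeal)
      (LocalizedModule p.asIdeal.primeCompl M) _ hxm hregp
    have h5 : LocCoh.depth (Localization.AtPrime p.asIdeal)
        (QuotSMulTop (algebraMap A (Localization.AtPrime p.asIdeal) x)
          (LocalizedModule p.asIdeal.primeCompl M)) =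
        LocCoh.depth (Localization.AtPrime p.asIdeal)
          (LocalizedModule p.asIdeal.primeCompl (QuotSMulTop x M)) := idealDepth_congr _ e
    rw [← h4, h5, Nat.cast_succ]
    exact add_le_add hp le_rfl

/-- `depth_I M` is the infimum of `depth M_p` over the primes `p ⊇ I`. -/
theorem idealDepth_eq_iInf_depth_localizedModule (I : Ideal A) (M : Type u) [AddCommGroup M]
    [Module A M] [Module.Finite A M] :
    LocCoh.idealDepth I M = ⨅ (p : PrimeSpectrum A) (_ : I ≤ p.asIdeal),
      LocCoh.depth (Localization.AtPrime p.asIdeal) (LocalizedModule p.asIdeal.primeCompl M) := by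
  apply le_antisymm
  · refine le_iInf₂ (fun p hIp => ?_)
    by_cases hp : p ∈ Module.support A M
    · have hIM : I • (⊤ : Submodule A M) ≠ ⊤ := by
        intro h
        have h1 : p ∈ Module.support A (M ⧸ I • (⊤ : Submodule A M)) := by
          rw [Module.support_quotient]
          exact ⟨hp, (PrimeSpectrum.mem_zeroLocus _ _).mpr hIp⟩
        haveI : Subsingleton (M ⧸ I • (⊤ : Submodule A M)) := by
          rw [Submodule.Quotient.subsingleton_iff]
          exact h
        rw [Module.support_eq_empty] at h1
        exact h1
      refine ENat.forall_natCast_le_iff_le.mp (fun n hn => ?_)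
      obtain ⟨rs, hlen, hreg, hmem⟩ := (le_idealDepth_iff I M hIM n).mp hn
      rw [← hlen]
      exact le_depth_localizedModule A M p hp rs (fun x hx => hIp (hmem x hx)) hreg
    · haveI : Subsingleton (LocalizedModule p.asIdeal.primeCompl M) := by
        rw [Module.mem_support_iff, not_nontrivial_iff_subsingleton] at hp
        exact hp
      rw [depth_eq_top_of_subsingleton]
      exact le_top
  · by_cases hIM : I • (⊤ : Submodule A M) = ⊤
    · rw [idealDepth_eq_top_of_smul_top_eq_top I M hIM]
      exact le_top
    · rcases eq_or_ne (LocCoh.idealDepth I M) ⊤ with h | h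
      · rw [h]
        exact le_top
      · obtain ⟨n, hn⟩ := ENat.ne_top_iff_exists.mp h
        obtain ⟨p, hIp, hp⟩ := exists_prime_depth_localizedModule_le A I n M hIM hn.symm
        rw [← hn]
        exact (iInf₂_le p hIp).trans hp

end

section CMRing

variable (R : Type u) [CommRing R] [IsNoetherianRing R]

omit [IsNoetherianRing R] in
theorem depth_localizedModule_self (p : Ideal R) [p.IsPrime] :
    LocCoh.depth (Localization.AtPrime p) (LocalizedModule p.primeCompl R) =
      LocCoh.depth (Localization.AtPrime p) (Localization.AtPrime p) :=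
  idealDepth_congr _
    ((IsLocalizedModule.linearEquiv p.primeCompl (LocalizedModule.mkLinearMap p.primeCompl R)
      (Algebra.linearMap R (Localization.AtPrime p))).extendScalarsOfIsLocalization p.primeCompl
        (Localization.AtPrime p))

omit [IsNoetherianRing R] in
/-- In a Cohen–Macaulay local ring `R_p`, `depth R_p = ht p`. -/
theorem depth_localization_eq_height_of_isCohenMacaulayLocalRing (p : Ideal R) [p.IsPrime]
    (hCM : LocCoh.IsCohenMacaulayLocalRing (Localization.AtPrime p)) :
    LocCoh.depth (Localization.AtPrime p) (Localization.AtPrime p) = p.height := by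
  have h1 := hCM.supportDim_eq_depth
  rw [Module.supportDim_self_eq_ringKrullDim,
    IsLocalization.AtPrime.ringKrullDim_eq_height p (Localization.AtPrime p),
    WithBot.coe_inj] at h1
  exact h1.symm

omit [IsNoetherianRing R] in
theorem iInf_height_eq_height (a : Ideal R) :
    ⨅ (p : PrimeSpectrum R) (_ : a ≤ p.asIdeal), p.asIdeal.height = a.height := by
  apply le_antisymm
  · rw [Ideal.height_eq_inf_minimalPrimes]
    exact le_iInf₂ fun J hJ => iInf₂_le_of_le ⟨J, hJ.1.1⟩ hJ.1.2 le_rfl
  · exact le_iInf₂ fun p hp => Ideal.height_mono hp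

/-- A Noetherian ring is Cohen–Macaulay iff `depth_a R = ht a` for all proper ideals `a`. -/
theorem isCohenMacaulayRing_iff_idealDepth_eq_height :
    LocCoh.IsCohenMacaulayRing R ↔
      ∀ a : Ideal R, a ≠ ⊤ → LocCoh.idealDepth a R = a.height := by
  constructor
  · intro hCM a _
    rw [idealDepth_eq_iInf_depth_localizedModule R a R, ← iInf_height_eq_height R a]
    refine iInf_congr fun p => iInf_congr fun _ => ?_
    rw [depth_localizedModule_self]
    exact depth_localization_eq_height_of_isCohenMacaulayLocalRing R p.asIdeal
      (hCM.isCohenMacaulayLocalRing_localization p.asIdeal)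
  · intro h
    refine { isCohenMacaulayLocalRing_localization := fun p _ => ?_ }
    have hp := h p (Ideal.IsPrime.ne_top ‹_›)
    have h1 : p.height ≤ LocCoh.depth (Localization.AtPrime p) (Localization.AtPrime p) := by
      rw [← hp, idealDepth_eq_iInf_depth_localizedModule R p R, ← depth_localizedModule_self]
      exact iInf₂_le (⟨p, inferInstance⟩ : PrimeSpectrum R) (le_refl p)
    have h2 := depth_le_supportDim (Localization.AtPrime p) (Localization.AtPrime p)
    rw [Module.supportDim_self_eq_ringKrullDim,
      IsLocalization.AtPrime.ringKrullDim_eq_height p (Localization.AtPrime p),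
      WithBot.coe_le_coe] at h2
    exact { supportDim_eq_depth := by
              rw [Module.supportDim_self_eq_ringKrullDim,
                IsLocalization.AtPrime.ringKrullDim_eq_height p (Localization.AtPrime p),
                le_antisymm h1 h2] }

end CMRing

end Groth.Agent.H29
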