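import Mathlib
import Groth.Prelude.Def_CAlg
import Groth.Agent.H29.DepthLocal
import Groth.Agent.H29.RegLocal2

/-!
# Reduced ⟺ (R₀) + (S₁)  (helper29)
-/

set_option autoImplicit false
set_option linter.style.haveILetI false
set_option linter.unusedSectionVars false
universe u

namespace Groth.Agent.H29

open IsLocalRing

/-- A reduced Noetherian local ring of depth zero is a field. -/
theorem maximalIdeal_eq_bot_of_isReduced_of_depth_eq_zero (A : Type u) [CommRing A] [IsLocalRing A]
    [IsNoetherianRing A] [IsReduced A] (h : LocCoh.depth A A = 0) : maximalIdeal A = ⊥ := by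
  have hass := (depth_eq_zero_iff_mem_ass A A).mp h
  obtain ⟨-, a, ha⟩ := isAssociatedPrime_iff.mp hass
  have hmem : ∀ y : A, y ∈ maximalIdeal A ↔ y * a = 0 := by
    intro y
    rw [ha, Submodule.mem_colon_singleton, Submodule.mem_bot, smul_eq_mul]
  have ha0 : a ≠ 0 := by
    intro h0
    have : (1 : A) ∈ maximalIdeal A := (hmem 1).mpr (by rw [h0, mul_zero])
    exact (Ideal.ne_top_iff_one _).mp (maximalIdeal.isMaximal A).ne_top this
  have hnil : ¬ IsNilpotent a := fun hn => ha0 hn.eq_zero
  rw [nilpotent_iff_mem_prime] at hnil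
  push Not at hnil
  obtain ⟨P, hP, haP⟩ := hnil
  have hmP : maximalIdeal A ≤ P := by
    intro y hy
    have : y * a ∈ P := by rw [(hmem y).mp hy]; exact P.zero_mem
    exact (hP.mem_or_mem this).resolve_right haP
  have hPm : P = maximalIdeal A :=
    le_antisymm (le_maximalIdeal hP.ne_top) hmP
  have hunit : IsUnit a := by
    by_contra hnu
    exact haP (hPm ▸ (mem_maximalIdeal a).mpr hnu)
  rw [eq_bot_iff]
  intro y hy
  have := (hmem y).mp hy
  exact (hunit.mul_left_eq_zero).mp this

variable (R : Type u) [CommRing R] [IsNoetherianRing R]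

theorem supportDim_localizedModule_self (p : Ideal R) [p.IsPrime] :
    Module.supportDim (Localization.AtPrime p) (LocalizedModule p.primeCompl R) =
      ringKrullDim (Localization.AtPrime p) := by
  rw [← Module.supportDim_self_eq_ringKrullDim]

theorem hasRk_zero_of_isReduced [IsReduced R] : LocCoh.HasRk 0 R := by
  intro p _ hp
  have hdim : ringKrullDim (Localization.AtPrime p) = 0 := by
    rw [IsLocalization.AtPrime.ringKrullDim_eq_height p]
    have : p.height = 0 := le_antisymm (by simpa using hp) (by simp)
    rw [this]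
    rfl
  have hdepth : LocCoh.depth (Localization.AtPrime p) (Localization.AtPrime p) = 0 := by
    have h1 := depth_le_supportDim (Localization.AtPrime p) (Localization.AtPrime p)
    rw [Module.supportDim_self_eq_ringKrullDim, hdim] at h1
    have h2 : LocCoh.depth (Localization.AtPrime p) (Localization.AtPrime p) ≤ 0 := by
      exact_mod_cast h1
    exact le_antisymm h2 (by simp)
  have hm := maximalIdeal_eq_bot_of_isReduced_of_depth_eq_zero (Localization.AtPrime p) hdepth
  apply IsRegularLocalRing.of_spanFinrank_maximalIdeal_le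
  rw [hm, hdim]
  simp

theorem hasSk_one_of_isReduced [IsReduced R] : LocCoh.HasSk 1 R R := by
  intro p _
  rw [supportDim_localizedModule_self, depth_localizedModule_self]
  by_cases h : LocCoh.depth (Localization.AtPrime p) (Localization.AtPrime p) = 0
  · have hm := maximalIdeal_eq_bot_of_isReduced_of_depth_eq_zero (Localization.AtPrime p) h
    have hF : IsField (Localization.AtPrime p) := (isField_iff_maximalIdeal_eq).mpr hm
    rw [ringKrullDim_eq_zero_of_isField hF, h]
    exact min_le_right _ _
  · have h1 : (1 : ℕ∞) ≤ LocCoh.depth (Localization.AtPrime p) (Localization.AtPrime p) :=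
      Order.one_le_iff_ne_zero.mpr h
    refine (min_le_left _ _).trans ?_
    exact_mod_cast WithBot.coe_le_coe.mpr h1

theorem isReduced_of_hasRk_zero_of_hasSk_one (h0 : LocCoh.HasRk 0 R) (h1 : LocCoh.HasSk 1 R R) :
    IsReduced R := by
  refine ⟨fun x hx => ?_⟩
  by_contra hx0
  obtain ⟨p, hp, hle⟩ := exists_le_isAssociatedPrime_of_isNoetherianRing R x hx0
  haveI : p.IsPrime := hp.isPrime
  have hdepth := depth_localizedModule_eq_zero_of_mem_associatedPrimes R R p hp
  have hS := h1 p
  rw [supportDim_localizedModule_self, hdepth] at hS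
  have hS' : min (1 : WithBot ℕ∞) (ringKrullDim (Localization.AtPrime p)) ≤ 0 := by
    simpa using hS
  have hdim : ringKrullDim (Localization.AtPrime p) ≤ 0 := by
    rcases le_total (1 : WithBot ℕ∞) (ringKrullDim (Localization.AtPrime p)) with h | h
    · rw [min_eq_left h] at hS'
      exact absurd hS' (by
        intro hcon
        have h2 : ((1 : ℕ∞) : WithBot ℕ∞) ≤ ((0 : ℕ∞) : WithBot ℕ∞) := hcon
        rw [WithBot.coe_le_coe] at h2
        simp at h2)
    · rw [min_eq_right h] at hS'
      exact hS'
  have hht : p.height ≤ ((0 : ℕ) : ℕ∞) := by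
    rw [IsLocalization.AtPrime.ringKrullDim_eq_height p] at hdim
    exact_mod_cast hdim
  haveI := h0 p hht
  haveI := isDomain_of_isRegularLocalRing (Localization.AtPrime p)
  have hx' : IsNilpotent (algebraMap R (Localization.AtPrime p) x) := hx.map _
  have hz : algebraMap R (Localization.AtPrime p) x = 0 := hx'.eq_zero
  rw [IsLocalization.map_eq_zero_iff p.primeCompl] at hz
  obtain ⟨⟨s, hs⟩, hsx⟩ := hz
  apply hs
  apply hle
  rw [Submodule.mem_colon_singleton, Submodule.mem_bot, smul_eq_mul]
  exact hsx

end Groth.Agent.H29
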