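import Mathlib
import Groth.Prelude.Def_CAlg
import Groth.Agent.H29.RegLocal3

/-!
# Regular systems of parameters (helper29)

For a Noetherian local ring `(A, m, k)` and elements `x i ∈ m`:
* `exists_extension_generators` : if the classes of the `x i` in `m/m²` are linearly independent
  they extend to a minimal system of generators of `m`.
* `spanFinrank_maximalIdeal_quotient_add_le` : then `embdim (A/(x)) + r ≤ embdim A`.
* `spanFinrank_maximalIdeal_le_quotient_add_finrank` :
  `embdim A ≤ embdim (A/(x)) + dim_k span(x̄ i)` for any family.
* `isRegularLocalRing_quotient_of_linearIndependent`, `..._iff`.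
-/

set_option autoImplicit false
set_option linter.style.haveILetI false
set_option linter.overlappingInstances false
universe u v

namespace Groth.Agent.H29

open IsLocalRing

theorem ncard_range_le_card {ι α : Type*} [Fintype ι] (f : ι → α) :
    (Set.range f).ncard ≤ Fintype.card ι := by
  classical
  rw [← Set.image_univ, ← Finset.coe_univ, ← Finset.coe_image, Set.ncard_coe_finset]
  exact Finset.card_image_le

section

variable (A : Type u) [CommRing A] [IsLocalRing A] [IsNoetherianRing A]

/-- Nakayama: elements of `m` whose classes span `m/m²` generate `m`. -/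
theorem span_eq_maximalIdeal_of_span_toCotangent_eq_top {ι : Type*} (y : ι → maximalIdeal A)
    (h : Submodule.span (ResidueField A)
      (Set.range fun i => (maximalIdeal A).toCotangent (y i)) = ⊤) :
    Ideal.span (Set.range fun i => (y i : A)) = maximalIdeal A := by
  have h1 : Submodule.span A (Set.range y) = ⊤ := by
    rw [← CotangentSpace.span_image_eq_top_iff, ← Set.range_comp]
    exact h
  have h2 := congrArg (Submodule.map (maximalIdeal A).subtype) h1
  rw [Submodule.map_span, Submodule.map_top, Submodule.range_subtype, ← Set.range_comp] at h2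
  exact h2

omit [IsNoetherianRing A] in
/-- The class in `m/m²` of an element of `m ∩ (g)` lies in the span of the classes of the `g i`. -/
theorem toCotangent_mem_span_of_mem_span {t : ℕ} (g : Fin t → maximalIdeal A)
    (w : maximalIdeal A) (hw : (w : A) ∈ Ideal.span (Set.range fun i => (g i : A))) :
    (maximalIdeal A).toCotangent w ∈ Submodule.span (ResidueField A)
      (Set.range fun i => (maximalIdeal A).toCotangent (g i)) := by
  obtain ⟨a, ha⟩ := Ideal.mem_span_range_iff_exists_fun.mp hw
  have hw' : w = ∑ i, a i • g i := by
    apply Subtype.ext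
    rw [← ha]
    simp
  rw [hw', map_sum]
  refine Submodule.sum_mem _ fun i _ => ?_
  rw [map_smul, ← algebraMap_smul (ResidueField A) (a i)]
  exact Submodule.smul_mem _ _ (Submodule.subset_span ⟨i, rfl⟩)

/-- Linearly independent classes in `m/m²` extend to a minimal system of generators of `m`. -/
theorem exists_extension_generators {r : ℕ} (x : Fin r → maximalIdeal A)
    (hli : LinearIndependent (ResidueField A) (fun i => (maximalIdeal A).toCotangent (x i))) :
    ∃ (s : ℕ) (y : Fin s → maximalIdeal A), r + s = (maximalIdeal A).spanFinrank ∧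
      Ideal.span (Set.range (fun i => (x i : A)) ∪ Set.range (fun j => (y j : A))) =
        maximalIdeal A := by
  obtain ⟨W', hW'⟩ := Submodule.exists_isCompl (Submodule.span (ResidueField A)
    (Set.range fun i => (maximalIdeal A).toCotangent (x i)))
  have hfr : Module.finrank (ResidueField A) (Submodule.span (ResidueField A)
      (Set.range fun i => (maximalIdeal A).toCotangent (x i))) = r := by
    rw [finrank_span_eq_card hli, Fintype.card_fin]
  have hsum := Submodule.finrank_add_eq_of_isCompl hW'
  let b : Module.Basis (Fin (Module.finrank (ResidueField A) W')) (ResidueField A) W' :=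
    Module.finBasis (ResidueField A) W'
  choose y hy using fun j => (maximalIdeal A).toCotangent_surjective (b j : CotangentSpace A)
  refine ⟨Module.finrank (ResidueField A) W', y, ?_, ?_⟩
  · rw [spanFinrank_maximalIdeal_eq_finrank_cotangentSpace, ← hsum, hfr]
  · have hW'span : Submodule.span (ResidueField A)
        (Set.range fun j => (maximalIdeal A).toCotangent (y j)) = W' := by
      have h1 : (fun j => (maximalIdeal A).toCotangent (y j)) = W'.subtype ∘ b := funext hy
      rw [h1, Set.range_comp, ← Submodule.map_span, b.span_eq, Submodule.map_top,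
        Submodule.range_subtype]
    have key := span_eq_maximalIdeal_of_span_toCotangent_eq_top A (Sum.elim x y) (by
      have hr : (Set.range fun i => (maximalIdeal A).toCotangent (Sum.elim x y i)) =
          Set.range (fun i => (maximalIdeal A).toCotangent (x i)) ∪
            Set.range (fun j => (maximalIdeal A).toCotangent (y j)) := by
        ext v
        simp [Sum.exists]
      rw [hr, Submodule.span_union, hW'span]
      exact hW'.sup_eq_top)
    have hset : (Set.range (fun i => (x i : A)) ∪ Set.range (fun j => (y j : A))) =
        Set.range fun i => ((Sum.elim x y i : maximalIdeal A) : A) := by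
      ext a
      simp [Sum.exists]
    rw [hset]
    exact key

theorem spanFinrank_maximalIdeal_quotient_add_le {r : ℕ} (x : Fin r → maximalIdeal A)
    (hli : LinearIndependent (ResidueField A) (fun i => (maximalIdeal A).toCotangent (x i)))
    [IsLocalRing (A ⧸ Ideal.span (Set.range fun i => (x i : A)))] :
    (maximalIdeal (A ⧸ Ideal.span (Set.range fun i => (x i : A)))).spanFinrank + r ≤
      (maximalIdeal A).spanFinrank := by
  obtain ⟨s, y, hrs, hspan⟩ := exists_extension_generators A x hli
  have h1 : maximalIdeal (A ⧸ Ideal.span (Set.range fun i => (x i : A))) =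
      Ideal.span (Set.range fun j =>
        Ideal.Quotient.mk (Ideal.span (Set.range fun i => (x i : A))) (y j : A)) := by
    have h1a : Ideal.map (Ideal.Quotient.mk (Ideal.span (Set.range fun i => (x i : A))))
        (maximalIdeal A) = Ideal.map (Ideal.Quotient.mk (Ideal.span (Set.range fun i => (x i : A))))
        (Ideal.span (Set.range (fun i => (x i : A)) ∪ Set.range (fun j => (y j : A)))) := by
      rw [hspan]
    rw [← map_mk_maximalIdeal A (Ideal.span (Set.range fun i => (x i : A))), h1a,
      Ideal.map_span, Set.image_union]
    apply le_antisymm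
    · rw [Ideal.span_le]
      rintro _ (⟨_, ⟨i, rfl⟩, rfl⟩ | ⟨_, ⟨j, rfl⟩, rfl⟩)
      · have h0 : Ideal.Quotient.mk (Ideal.span (Set.range fun i => (x i : A))) (x i : A) = 0 :=
          Ideal.Quotient.eq_zero_iff_mem.mpr (Ideal.subset_span ⟨i, rfl⟩)
        rw [h0]
        exact Ideal.zero_mem _
      · exact Ideal.subset_span ⟨j, rfl⟩
    · apply Ideal.span_mono
      rintro _ ⟨j, rfl⟩
      exact Or.inr ⟨_, ⟨j, rfl⟩, rfl⟩
  have h2 : (maximalIdeal (A ⧸ Ideal.span (Set.range fun i => (x i : A)))).spanFinrank ≤ s := by
    rw [h1]
    refine (Submodule.spanFinrank_span_le_ncard_of_finite (Set.finite_range _)).trans ?_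
    exact (ncard_range_le_card _).trans (by simp)
  omega

theorem spanFinrank_maximalIdeal_le_quotient_add_finrank {t : ℕ} (g : Fin t → maximalIdeal A)
    [IsLocalRing (A ⧸ Ideal.span (Set.range fun i => (g i : A)))] :
    (maximalIdeal A).spanFinrank ≤
      (maximalIdeal (A ⧸ Ideal.span (Set.range fun i => (g i : A)))).spanFinrank +
        Module.finrank (ResidueField A) (Submodule.span (ResidueField A)
          (Set.range fun i => (maximalIdeal A).toCotangent (g i))) := by
  classical
  obtain ⟨T, hTcard, hTspan⟩ := Submodule.FG.exists_span_finset_card_eq_spanFinrank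
    (IsNoetherian.noetherian (maximalIdeal (A ⧸ Ideal.span (Set.range fun i => (g i : A)))))
  have hlift : ∀ τ : T, ∃ z : maximalIdeal A,
      Ideal.Quotient.mk (Ideal.span (Set.range fun i => (g i : A))) (z : A) = (τ : A ⧸ _) := by
    intro τ
    have ht : (τ : A ⧸ Ideal.span (Set.range fun i => (g i : A))) ∈
        maximalIdeal (A ⧸ Ideal.span (Set.range fun i => (g i : A))) := by
      rw [← hTspan]
      exact Submodule.subset_span τ.2
    rw [← map_mk_maximalIdeal A (Ideal.span (Set.range fun i => (g i : A)))] at ht
    obtain ⟨z, hz, hzt⟩ := (Ideal.mem_map_iff_of_surjective _ Ideal.Quotient.mk_surjective).mp ht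
    exact ⟨⟨z, hz⟩, hzt⟩
  choose z hz using hlift
  have htop : Submodule.span (ResidueField A)
      (Set.range fun τ : T => (maximalIdeal A).toCotangent (z τ)) ⊔
      Submodule.span (ResidueField A)
        (Set.range fun i => (maximalIdeal A).toCotangent (g i)) = ⊤ := by
    rw [eq_top_iff]
    rintro v -
    obtain ⟨u, rfl⟩ := (maximalIdeal A).toCotangent_surjective v
    have hu : Ideal.Quotient.mk (Ideal.span (Set.range fun i => (g i : A))) (u : A) ∈
        Submodule.span (A ⧸ Ideal.span (Set.range fun i => (g i : A)))
          (Set.range fun τ : T => (τ : A ⧸ Ideal.span (Set.range fun i => (g i : A)))) := by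
      rw [Subtype.range_coe_subtype, Finset.setOf_mem, hTspan,
        ← map_mk_maximalIdeal A (Ideal.span (Set.range fun i => (g i : A)))]
      exact Ideal.mem_map_of_mem _ u.2
    obtain ⟨c, hc⟩ := (Submodule.mem_span_range_iff_exists_fun _).mp hu
    choose a ha using fun τ => Ideal.Quotient.mk_surjective (c τ)
    have hwJ : ((u - ∑ τ, a τ • z τ : maximalIdeal A) : A) ∈
        Ideal.span (Set.range fun i => (g i : A)) := by
      rw [← Ideal.Quotient.eq_zero_iff_mem]
      simp only [Submodule.coe_sub, Submodule.coe_sum, Submodule.coe_smul, smul_eq_mul, map_sub,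
        map_sum, map_mul, ha, hz]
      rw [← hc]
      simp [smul_eq_mul]
    have hw := toCotangent_mem_span_of_mem_span A g _ hwJ
    have hsplit : (maximalIdeal A).toCotangent u =
        (∑ τ, a τ • (maximalIdeal A).toCotangent (z τ)) +
          (maximalIdeal A).toCotangent (u - ∑ τ, a τ • z τ) := by
      simp [map_sub, map_sum]
    rw [hsplit]
    refine Submodule.add_mem_sup (Submodule.sum_mem _ fun τ _ => ?_) hw
    rw [← algebraMap_smul (ResidueField A) (a τ)]
    exact Submodule.smul_mem _ _ (Submodule.subset_span ⟨τ, rfl⟩)
  calc (maximalIdeal A).spanFinrank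
      = Module.finrank (ResidueField A) (CotangentSpace A) :=
        spanFinrank_maximalIdeal_eq_finrank_cotangentSpace A
    _ = Module.finrank (ResidueField A) (⊤ : Submodule (ResidueField A) (CotangentSpace A)) :=
        (finrank_top _ _).symm
    _ = Module.finrank (ResidueField A) ↥(Submodule.span (ResidueField A)
          (Set.range fun τ : T => (maximalIdeal A).toCotangent (z τ)) ⊔
          Submodule.span (ResidueField A)
            (Set.range fun i => (maximalIdeal A).toCotangent (g i))) := by rw [htop]
    _ ≤ Module.finrank (ResidueField A) (Submodule.span (ResidueField A)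
          (Set.range fun τ : T => (maximalIdeal A).toCotangent (z τ))) +
        Module.finrank (ResidueField A) (Submodule.span (ResidueField A)
          (Set.range fun i => (maximalIdeal A).toCotangent (g i))) :=
        Submodule.finrank_add_le_finrank_add_finrank _ _
    _ ≤ T.card + Module.finrank (ResidueField A) (Submodule.span (ResidueField A)
          (Set.range fun i => (maximalIdeal A).toCotangent (g i))) := by
        gcongr
        exact (finrank_range_le_card _).trans (by simp)
    _ = _ := by rw [hTcard]

end

section Main

variable (A : Type u) [CommRing A] [IsLocalRing A] [IsNoetherianRing A]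

theorem withBot_le_of_add_natCast_le {a b : WithBot ℕ∞} (n : ℕ) (h : a + n ≤ b + n) : a ≤ b := by
  induction n with
  | zero => simpa using h
  | succ n ih =>
    apply ih
    apply withBot_le_of_add_one_le_add_one
    rwa [add_assoc, add_assoc, ← Nat.cast_succ]

omit [IsNoetherianRing A] in
theorem isLocalRing_quotient_of_ne_top (J : Ideal A) (hJ : J ≠ ⊤) : IsLocalRing (A ⧸ J) := by
  have : Nontrivial (A ⧸ J) := Ideal.Quotient.nontrivial_iff.mpr hJ
  exact IsLocalRing.of_surjective' (Ideal.Quotient.mk _) Ideal.Quotient.mk_surjective

omit [IsNoetherianRing A] in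
theorem span_range_ne_top {r : ℕ} (x : Fin r → maximalIdeal A) :
    Ideal.span (Set.range fun i => (x i : A)) ≠ ⊤ := fun h =>
  (maximalIdeal.isMaximal A).ne_top (top_le_iff.mp (h.ge.trans
    (Ideal.span_le.mpr (by rintro _ ⟨i, rfl⟩; exact (x i).2))))

theorem ringKrullDim_le_quotient_span_range_add {r : ℕ} (x : Fin r → maximalIdeal A) :
    ringKrullDim A ≤ ringKrullDim (A ⧸ Ideal.span (Set.range fun i => (x i : A))) + r := by
  have h1 := ringKrullDim_le_ringKrullDim_quotient_add_spanFinrank
    (Ideal.span (Set.range fun i => (x i : A)))
    (by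
      rw [IsLocalRing.ringJacobson_eq_maximalIdeal]
      exact Ideal.span_le.mpr (by rintro _ ⟨i, rfl⟩; exact (x i).2))
  have h2 : (Ideal.span (Set.range fun i => (x i : A))).spanFinrank ≤ r :=
    (Submodule.spanFinrank_span_le_ncard_of_finite (Set.finite_range _)).trans
      ((ncard_range_le_card _).trans (by simp))
  exact h1.trans (add_le_add le_rfl (withBot_natCast_le.mpr h2))

/-- Quotient of a regular local ring by part of a regular system of parameters. -/
theorem isRegularLocalRing_quotient_of_linearIndependent [hA : IsRegularLocalRing A] {r : ℕ}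
    (x : Fin r → maximalIdeal A)
    (hli : LinearIndependent (ResidueField A) (fun i => (maximalIdeal A).toCotangent (x i))) :
    ringKrullDim (A ⧸ Ideal.span (Set.range fun i => (x i : A))) + r = ringKrullDim A ∧
      IsRegularLocalRing (A ⧸ Ideal.span (Set.range fun i => (x i : A))) := by
  haveI : IsLocalRing (A ⧸ Ideal.span (Set.range fun i => (x i : A))) :=
    isLocalRing_quotient_of_ne_top A _ (span_range_ne_top A x)
  have h1 := spanFinrank_maximalIdeal_quotient_add_le A x hli
  have h2 := ringKrullDim_le_quotient_span_range_add A x
  have h3 := IsRegularLocalRing.spanFinrank_maximalIdeal (R := A)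
  have h4 : (((maximalIdeal (A ⧸ Ideal.span (Set.range fun i => (x i : A)))).spanFinrank : ℕ) :
      WithBot ℕ∞) + r ≤ ringKrullDim (A ⧸ Ideal.span (Set.range fun i => (x i : A))) + r := by
    refine le_trans ?_ h2
    rw [← h3, ← Nat.cast_add]
    exact withBot_natCast_le.mpr h1
  have h5 := withBot_le_of_add_natCast_le r h4
  have hreg : IsRegularLocalRing (A ⧸ Ideal.span (Set.range fun i => (x i : A))) :=
    IsRegularLocalRing.of_spanFinrank_maximalIdeal_le _ h5
  refine ⟨le_antisymm ?_ h2, hreg⟩
  rw [← hreg.spanFinrank_maximalIdeal, ← h3, ← Nat.cast_add]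
  exact withBot_natCast_le.mpr h1

/-- Converse: if `A/(x)` is regular of dimension `dim A - r` then `A` is regular and the classes of
the `x i` are linearly independent in `m/m²`. -/
theorem isRegularLocalRing_of_quotient_span_range {r : ℕ} (x : Fin r → maximalIdeal A)
    (hdim : ringKrullDim (A ⧸ Ideal.span (Set.range fun i => (x i : A))) + r = ringKrullDim A)
    (hB : IsRegularLocalRing (A ⧸ Ideal.span (Set.range fun i => (x i : A)))) :
    IsRegularLocalRing A ∧
      LinearIndependent (ResidueField A) (fun i => (maximalIdeal A).toCotangent (x i)) := by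
  have h1 := spanFinrank_maximalIdeal_le_quotient_add_finrank A x
  have hf : Module.finrank (ResidueField A) (Submodule.span (ResidueField A)
      (Set.range fun i => (maximalIdeal A).toCotangent (x i))) ≤ r :=
    (finrank_range_le_card _).trans (by simp)
  have h3 := hB.spanFinrank_maximalIdeal
  have h4 := ringKrullDim_le_spanFinrank_maximalIdeal A
  rw [← hdim, ← h3, ← Nat.cast_add, withBot_natCast_le] at h4
  constructor
  · apply IsRegularLocalRing.of_spanFinrank_maximalIdeal_le
    rw [← hdim, ← h3, ← Nat.cast_add, withBot_natCast_le]
    omega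
  · rw [linearIndependent_iff_card_eq_finrank_span, Fintype.card_fin]
    have : Set.finrank (ResidueField A)
        (Set.range fun i => (maximalIdeal A).toCotangent (x i)) =
        Module.finrank (ResidueField A) (Submodule.span (ResidueField A)
          (Set.range fun i => (maximalIdeal A).toCotangent (x i))) := rfl
    omega

/-- If `A` and `A/I` are regular local rings then `I` is generated by part of a regular system of
parameters. -/
theorem exists_linearIndependent_generators [IsRegularLocalRing A] (I : Ideal A)
    [hI : IsRegularLocalRing (A ⧸ I)] :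
    ∃ (c : ℕ) (x : Fin c → maximalIdeal A),
      LinearIndependent (ResidueField A) (fun i => (maximalIdeal A).toCotangent (x i)) ∧
        I = Ideal.span (Set.range fun i => (x i : A)) := by
  have hne : I ≠ ⊤ := Ideal.Quotient.nontrivial_iff.mp inferInstance
  have hIm : I ≤ maximalIdeal A := IsLocalRing.le_maximalIdeal hne
  obtain ⟨t, g, hg⟩ := Submodule.fg_iff_exists_fin_generating_family.mp
    (IsNoetherian.noetherian I)
  subst hg
  let g' : Fin t → maximalIdeal A := fun i => ⟨g i, hIm (Submodule.subset_span ⟨i, rfl⟩)⟩
  obtain ⟨κ, a, ha, hspan, hli⟩ := exists_linearIndependent' (ResidueField A)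
    (fun i => (maximalIdeal A).toCotangent (g' i))
  haveI : Finite κ := Finite.of_injective a ha
  haveI : Fintype κ := Fintype.ofFinite κ
  let e : Fin (Fintype.card κ) ≃ κ := (Fintype.equivFin κ).symm
  let x : Fin (Fintype.card κ) → maximalIdeal A := fun j => g' (a (e j))
  have hlix : LinearIndependent (ResidueField A)
      (fun j => (maximalIdeal A).toCotangent (x j)) := hli.comp e e.injective
  have hspanx : Submodule.span (ResidueField A)
      (Set.range fun j => (maximalIdeal A).toCotangent (x j)) =
      Submodule.span (ResidueField A)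
        (Set.range fun i => (maximalIdeal A).toCotangent (g' i)) := by
    rw [← hspan]
    congr 1
    exact e.surjective.range_comp ((fun i => (maximalIdeal A).toCotangent (g' i)) ∘ a)
  refine ⟨Fintype.card κ, x, hlix, ?_⟩
  have hJI : Ideal.span (Set.range fun j => (x j : A)) ≤ Submodule.span A (Set.range g) :=
    Ideal.span_le.mpr (by rintro _ ⟨j, rfl⟩; exact Submodule.subset_span ⟨a (e j), rfl⟩)
  obtain ⟨hdimJ, hregJ⟩ := isRegularLocalRing_quotient_of_linearIndependent A x hlix
  by_contra hne'
  have hlt : Ideal.span (Set.range fun j => (x j : A)) < Submodule.span A (Set.range g) :=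
    lt_of_le_of_ne hJI (fun h => hne' h.symm)
  obtain ⟨u, huI, huJ⟩ := SetLike.exists_of_lt hlt
  haveI := isDomain_of_isRegularLocalRing (A ⧸ Ideal.span (Set.range fun j => (x j : A)))
  haveI : (Ideal.span (Set.range fun j => (x j : A))).IsPrime :=
    (Ideal.Quotient.isDomain_iff_prime _).mp inferInstance
  have h1 := ringKrullDim_quotient_succ_le_of_lt A _ _ hJI u huI huJ
  have h2 := spanFinrank_maximalIdeal_le_quotient_add_finrank A g'
  rw [← hspanx, finrank_span_eq_card hlix, Fintype.card_fin] at h2
  have h3 := IsRegularLocalRing.spanFinrank_maximalIdeal (R := A)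
  have h4 := hI.spanFinrank_maximalIdeal
  obtain ⟨n1, hn1⟩ := ringKrullDim_eq_natCast_of_isLocalRing (A ⧸ Submodule.span A (Set.range g))
  obtain ⟨n2, hn2⟩ := ringKrullDim_eq_natCast_of_isLocalRing
    (A ⧸ Ideal.span (Set.range fun j => (x j : A)))
  rw [hn1, hn2, ← Nat.cast_one, ← Nat.cast_add, withBot_natCast_le] at h1
  rw [hn2, ← h3, ← Nat.cast_add] at hdimJ
  have hdimJ' := withBot_natCast_inj hdimJ
  rw [hn1] at h4
  have h4' := withBot_natCast_inj h4
  have h2' : (maximalIdeal A).spanFinrank ≤
      (maximalIdeal (A ⧸ Submodule.span A (Set.range g))).spanFinrank + Fintype.card κ := h2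
  omega

end Main

end Groth.Agent.H29
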