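import Mathlib
import Groth.Prelude.Def_CAlg
import Groth.Agent.H29.Ischebeck

/-!
# Depth along short exact sequences (helper29)

* `subsingleton_ext_X₁/X₂/X₃` : vanishing of `Ext` along a short exact sequence in the second
  variable.
* `subsingleton_ext_of_smul_top_eq_top` : `IN = N` (finite) implies `Ext^i(R/I, N) = 0`.
* `natCast_le_idealDepth_iff_ext` : Rees' characterization without the hypothesis `IN ≠ N`.
* `idealDepth_X₁_ge`, `idealDepth_X₂_ge`, `idealDepth_X₃_ge` : the depth lemma.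
-/

set_option autoImplicit false
set_option linter.style.haveILetI false
set_option linter.unusedSectionVars false
universe u v

namespace Groth.Agent.H29

open RingTheory.Sequence CategoryTheory Abelian IsLocalRing
open scoped Pointwise

section ExtSES

variable {C : Type u} [Category.{v} C] [Abelian C] [HasExt C]

theorem subsingleton_ext_of_isZero_right (X : C) {Y : C} (hY : Limits.IsZero Y) (i : ℕ) :
    Subsingleton (Ext X Y i) := by
  have key : ∀ e : Ext X Y i, e = 0 := fun e => by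
    rw [← Ext.comp_mk₀_id e, hY.eq_of_src (𝟙 Y) 0, Ext.mk₀_zero, Ext.comp_zero]
  exact ⟨fun a b => by rw [key a, key b]⟩

theorem subsingleton_of_forall_eq_zero {G : Type*} [Zero G] (h : ∀ e : G, e = 0) :
    Subsingleton G := ⟨fun a b => by rw [h a, h b]⟩

variable {S : ShortComplex C} (hS : S.ShortExact) (X : C)
include hS

theorem subsingleton_ext_X₂ (i : ℕ) (h₁ : Subsingleton (Ext X S.X₁ i))
    (h₃ : Subsingleton (Ext X S.X₃ i)) : Subsingleton (Ext X S.X₂ i) := by
  refine subsingleton_of_forall_eq_zero fun x₂ => ?_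
  obtain ⟨x₁, rfl⟩ := Ext.covariant_sequence_exact₂ X hS x₂ (Subsingleton.elim _ _)
  rw [Subsingleton.elim x₁ 0, Ext.zero_comp]

theorem subsingleton_ext_X₃ (i : ℕ) (h₂ : Subsingleton (Ext X S.X₂ i))
    (h₁ : Subsingleton (Ext X S.X₁ (i + 1))) : Subsingleton (Ext X S.X₃ i) := by
  refine subsingleton_of_forall_eq_zero fun x₃ => ?_
  obtain ⟨x₂, rfl⟩ := Ext.covariant_sequence_exact₃ X hS x₃ rfl (Subsingleton.elim _ _)
  rw [Subsingleton.elim x₂ 0, Ext.zero_comp]

theorem subsingleton_ext_X₁_succ (i : ℕ) (h₃ : Subsingleton (Ext X S.X₃ i))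
    (h₂ : Subsingleton (Ext X S.X₂ (i + 1))) : Subsingleton (Ext X S.X₁ (i + 1)) := by
  refine subsingleton_of_forall_eq_zero fun x₁ => ?_
  obtain ⟨x₃, rfl⟩ := Ext.covariant_sequence_exact₁ X hS x₁ (Subsingleton.elim _ _) rfl
  rw [Subsingleton.elim x₃ 0, Ext.zero_comp]

theorem subsingleton_ext_X₁_zero (h₂ : Subsingleton (Ext X S.X₂ 0)) :
    Subsingleton (Ext X S.X₁ 0) := by
  haveI := hS.mono_f
  refine subsingleton_of_forall_eq_zero fun x₁ => ?_
  apply Ext.postcomp_mk₀_injective_of_mono X S.f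
  exact Subsingleton.elim _ _

theorem subsingleton_ext_X₁ (i : ℕ) (h₃ : ∀ j, j + 1 = i → Subsingleton (Ext X S.X₃ j))
    (h₂ : Subsingleton (Ext X S.X₂ i)) : Subsingleton (Ext X S.X₁ i) := by
  rcases i with _ | i
  · exact subsingleton_ext_X₁_zero hS X h₂
  · exact subsingleton_ext_X₁_succ hS X i (h₃ i rfl) h₂

end ExtSES

section Rees

variable {R : Type u} [CommRing R]

/-- If `IN = N` for a finite module `N`, then all `Ext^i(R/I, N)` vanish. -/
theorem subsingleton_ext_of_smul_top_eq_top (I : Ideal R) (N : Type u) [AddCommGroup N]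
    [Module R N] [Module.Finite R N] (hI : I • (⊤ : Submodule R N) = ⊤) (i : ℕ) :
    Subsingleton (Ext (ModuleCat.of R (Shrink.{u} (R ⧸ I))) (ModuleCat.of R N) i) := by
  obtain ⟨r, hr, hrN⟩ := Submodule.exists_sub_one_mem_and_smul_eq_zero_of_fg_of_le_smul I
    (⊤ : Submodule R N) Module.Finite.fg_top hI.ge
  set X := ModuleCat.of R (Shrink.{u} (R ⧸ I))
  set Y := ModuleCat.of R N
  have hX : (1 - r) • 𝟙 X = 0 := by
    refine ModuleCat.hom_ext (LinearMap.ext fun x => ?_)
    obtain ⟨y, rfl⟩ := (Shrink.linearEquiv R (R ⧸ I)).symm.surjective x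
    obtain ⟨z, rfl⟩ := Ideal.Quotient.mk_surjective y
    have h0 : (1 - r) • (Ideal.Quotient.mk I z) = 0 := by
      rw [Algebra.smul_def, Ideal.Quotient.algebraMap_eq, ← map_mul,
        Ideal.Quotient.eq_zero_iff_mem]
      have : 1 - r = -(r - 1) := by ring
      rw [this]
      exact I.mul_mem_right _ (I.neg_mem hr)
    show (1 - r) • ((Shrink.linearEquiv R (R ⧸ I)).symm (Ideal.Quotient.mk I z)) = 0
    rw [← map_smul, h0, map_zero]
  have hY : r • 𝟙 Y = 0 := by
    refine ModuleCat.hom_ext (LinearMap.ext fun y => ?_)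
    exact hrN y trivial
  refine subsingleton_of_forall_eq_zero fun e => ?_
  have h1 : (1 - r) • e = 0 := by
    rw [← Ext.mk₀_id_comp e, ← Ext.smul_comp, ← Ext.mk₀_smul, hX, Ext.mk₀_zero, Ext.zero_comp]
  have h2 : r • e = 0 := by
    rw [← Ext.comp_mk₀_id e, ← Ext.comp_smul, ← Ext.mk₀_smul, hY, Ext.mk₀_zero, Ext.comp_zero]
  have : e = (1 - r) • e + r • e := by rw [← add_smul, sub_add_cancel, one_smul]
  rw [this, h1, h2, add_zero]

/-- Rees: depth via vanishing of `Ext(R/I, M)`, also when `IM = M`. -/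
theorem natCast_le_idealDepth_iff_ext [IsNoetherianRing R] (I : Ideal R) (M : Type u)
    [AddCommGroup M] [Module R M] [Module.Finite R M] (n : ℕ) :
    (n : ℕ∞) ≤ LocCoh.idealDepth I M ↔
      ∀ i < n, Subsingleton (Ext (ModuleCat.of R (Shrink.{u} (R ⧸ I))) (ModuleCat.of R M) i) := by
  by_cases hI : I • (⊤ : Submodule R M) = ⊤
  · have : LocCoh.idealDepth I M = ⊤ := by
      classical
      unfold LocCoh.idealDepth
      rw [if_pos hI]
    rw [this]
    exact ⟨fun _ i _ => subsingleton_ext_of_smul_top_eq_top I M hI i, fun _ => le_top⟩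
  · exact le_idealDepth_iff_ext I M hI n

end Rees

section DepthLemma

theorem enat_succ_le_of_le_sub_one (D : ℕ∞) (n : ℕ) (h : (n : ℕ∞) ≤ D - 1) (hpos : 1 ≤ n) :
    ((n + 1 : ℕ) : ℕ∞) ≤ D := by
  induction D using ENat.recTopCoe with
  | top => exact le_top
  | coe d =>
    norm_cast at h ⊢
    omega

theorem enat_le_of_succ_le_add_one (D : ℕ∞) (j : ℕ) (h : ((j + 1 : ℕ) : ℕ∞) ≤ D + 1) :
    (j : ℕ∞) ≤ D := by
  induction D using ENat.recTopCoe with
  | top => exact le_top
  | coe d =>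
    norm_cast at h ⊢
    omega

variable {R : Type u} [CommRing R] [IsNoetherianRing R] (I : Ideal R)
variable {N' N N'' : Type u} [AddCommGroup N'] [Module R N'] [Module.Finite R N']
  [AddCommGroup N] [Module R N] [Module.Finite R N]
  [AddCommGroup N''] [Module R N''] [Module.Finite R N'']
  (f : N' →ₗ[R] N) (g : N →ₗ[R] N'') (hf : Function.Injective f) (hg : Function.Surjective g)
  (hfg : Function.Exact f g)
include hf hg hfg

theorem shortExact_of_exact :
    (ModuleCat.shortComplexOfCompEqZero f g hfg.linearMap_comp_eq_zero).ShortExact :=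
  ModuleCat.shortComplex_shortExact _ hfg hf hg

theorem idealDepth_X₂_ge :
    min (LocCoh.idealDepth I N') (LocCoh.idealDepth I N'') ≤ LocCoh.idealDepth I N := by
  rw [← ENat.forall_natCast_le_iff_le]
  intro n hn
  rw [le_min_iff] at hn
  have h' := (natCast_le_idealDepth_iff_ext I N' n).mp hn.1
  have h'' := (natCast_le_idealDepth_iff_ext I N'' n).mp hn.2
  rw [natCast_le_idealDepth_iff_ext I N n]
  intro i hi
  exact subsingleton_ext_X₂ (shortExact_of_exact f g hf hg hfg) _ i (h' i hi) (h'' i hi)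

theorem idealDepth_X₃_ge :
    min (LocCoh.idealDepth I N) (LocCoh.idealDepth I N' - 1) ≤ LocCoh.idealDepth I N'' := by
  rw [← ENat.forall_natCast_le_iff_le]
  intro n hn
  rw [le_min_iff] at hn
  have h := (natCast_le_idealDepth_iff_ext I N n).mp hn.1
  rw [natCast_le_idealDepth_iff_ext I N'' n]
  intro i hi
  have hn1 : ((n + 1 : ℕ) : ℕ∞) ≤ LocCoh.idealDepth I N' :=
    enat_succ_le_of_le_sub_one _ n hn.2 (by omega)
  have h' := (natCast_le_idealDepth_iff_ext I N' (n + 1)).mp hn1
  exact subsingleton_ext_X₃ (shortExact_of_exact f g hf hg hfg) _ i (h i hi)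
    (h' (i + 1) (by omega))

theorem idealDepth_X₁_ge :
    min (LocCoh.idealDepth I N) (LocCoh.idealDepth I N'' + 1) ≤ LocCoh.idealDepth I N' := by
  rw [← ENat.forall_natCast_le_iff_le]
  intro n hn
  rw [le_min_iff] at hn
  have h := (natCast_le_idealDepth_iff_ext I N n).mp hn.1
  rw [natCast_le_idealDepth_iff_ext I N' n]
  intro i hi
  refine subsingleton_ext_X₁ (shortExact_of_exact f g hf hg hfg) _ i (fun j hj => ?_) (h i hi)
  have hj' : ((j + 1 + 1 : ℕ) : ℕ∞) ≤ LocCoh.idealDepth I N'' + 1 := by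
    refine le_trans ?_ hn.2
    exact_mod_cast (by omega : j + 1 + 1 ≤ n)
  have h4 : ((j + 1 : ℕ) : ℕ∞) ≤ LocCoh.idealDepth I N'' :=
    enat_le_of_succ_le_add_one _ (j + 1) hj'
  exact (natCast_le_idealDepth_iff_ext I N'' (j + 1)).mp h4 j (Nat.lt_succ_self j)

end DepthLemma

end Groth.Agent.H29
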