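import Mathlib
import Groth.Prelude.Def_W4bk5brsh16IT

/-!
# Element-level API for the ideal transform `LocCoh.DT I M = colim_n Hom(I^n, M)` (helper29)
-/

set_option autoImplicit false
universe u

namespace Groth.Agent.H29

open CategoryTheory CategoryTheory.Limits Opposite LocCoh

variable {R : Type u} [CommRing R]

/-- The structure map `Hom_R(I^n, M) → D_I(M)`. -/
noncomputable def dtι (I : Ideal R) (M : Type u) [AddCommGroup M] [Module R M] (n : ℕ) :
    (↥(I ^ n) →ₗ[R] M) →ₗ[R] DT I M :=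
  ((colimit.ι (transformDiagram I) (op (op n))).app (ModuleCat.of R M)).hom ∘ₗ
    (ModuleCat.homLinearEquiv (S := R) (M := ModuleCat.of R ↥(I ^ n))
      (N := ModuleCat.of R M)).symm.toLinearMap

theorem toDT_eq (I : Ideal R) (M : Type u) [AddCommGroup M] [Module R M] (m : M) :
    toDT I M m = dtι I M 0 (((LinearMap.lsmul R M).domRestrict (I ^ 0)).flip m) := rfl

/-- Restriction of a map on `I^n` to `I^k`, `n ≤ k`. -/
def resPow (I : Ideal R) {M : Type u} [AddCommGroup M] [Module R M] {n k : ℕ} (h : n ≤ k)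
    (φ : ↥(I ^ n) →ₗ[R] M) : ↥(I ^ k) →ₗ[R] M :=
  φ ∘ₗ Submodule.inclusion (Ideal.pow_le_pow_right h)

@[simp] theorem resPow_apply (I : Ideal R) {M : Type u} [AddCommGroup M] [Module R M] {n k : ℕ}
    (h : n ≤ k) (φ : ↥(I ^ n) →ₗ[R] M) (x : ↥(I ^ k)) :
    resPow I h φ x = φ ⟨x.1, Ideal.pow_le_pow_right h x.2⟩ := rfl

theorem dtι_resPow (I : Ideal R) (M : Type u) [AddCommGroup M] [Module R M] {n k : ℕ} (h : n ≤ k)
    (φ : ↥(I ^ n) →ₗ[R] M) : dtι I M k (resPow I h φ) = dtι I M n φ := by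
  have hw := colimit.w (transformDiagram I) (homOfLE h).op.op
  have := congrArg (fun t => (t.app (ModuleCat.of R M)).hom
    ((ModuleCat.homLinearEquiv (S := R) (M := ModuleCat.of R ↥(I ^ n))
      (N := ModuleCat.of R M)).symm φ)) hw
  exact this

theorem idealTransform_map_dtι (I : Ideal R) {M N : Type u} [AddCommGroup M] [Module R M]
    [AddCommGroup N] [Module R N] (f : M →ₗ[R] N) (n : ℕ) (φ : ↥(I ^ n) →ₗ[R] M) :
    ((idealTransform I).map (ModuleCat.ofHom f)).hom (dtι I M n φ) = dtι I N n (f ∘ₗ φ) := by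
  have hn := (colimit.ι (transformDiagram I) (op (op n))).naturality (ModuleCat.ofHom f)
  have := congrArg (fun t => t.hom
    ((ModuleCat.homLinearEquiv (S := R) (M := ModuleCat.of R ↥(I ^ n))
      (N := ModuleCat.of R M)).symm φ)) hn
  exact this.symm

instance : IsFiltered ℕᵒᵖᵒᵖ := inferInstance

instance forget_preservesFilteredColimits0 :
    PreservesFilteredColimitsOfSize.{0, 0} (forget (ModuleCat.{u} R)) :=
  preservesSmallestFilteredColimits_of_preservesFilteredColimits.{u, u} _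

theorem exists_dtι_eq (I : Ideal R) (M : Type u) [AddCommGroup M] [Module R M] (z : DT I M) :
    ∃ (n : ℕ) (φ : ↥(I ^ n) →ₗ[R] M), dtι I M n φ = z := by
  let e := colimitObjIsoColimitCompEvaluation (transformDiagram I) (ModuleCat.of R M)
  obtain ⟨j, y, hy⟩ := Concrete.colimit_exists_rep
    (transformDiagram I ⋙ (evaluation _ _).obj (ModuleCat.of R M)) (e.hom.hom z)
  refine ⟨j.unop.unop, (ModuleCat.homLinearEquiv (S := R) (M := ModuleCat.of R ↥(I ^ j.unop.unop))
      (N := ModuleCat.of R M)) y, ?_⟩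
  have h1 : e.inv.hom (e.hom.hom z) = z := by
    rw [← LinearMap.comp_apply, ← ModuleCat.hom_comp, e.hom_inv_id]; rfl
  rw [← h1, ← hy]
  have h2 := colimitObjIsoColimitCompEvaluation_ι_inv (transformDiagram I) j (ModuleCat.of R M)
  have h3 := congrArg (fun t => t.hom y) h2
  exact h3.symm

theorem exists_resPow_eq_zero_of_dtι_eq_zero (I : Ideal R) (M : Type u) [AddCommGroup M]
    [Module R M] {n : ℕ} (φ : ↥(I ^ n) →ₗ[R] M) (h : dtι I M n φ = 0) :
    ∃ k, ∃ hk : n ≤ k, resPow I hk φ = 0 := by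
  let e := colimitObjIsoColimitCompEvaluation (transformDiagram I) (ModuleCat.of R M)
  let G := transformDiagram I ⋙ (evaluation _ _).obj (ModuleCat.of R M)
  let y : G.obj (op (op n)) := (ModuleCat.homLinearEquiv (S := R) (M := ModuleCat.of R ↥(I ^ n))
      (N := ModuleCat.of R M)).symm φ
  have h0 := colimitObjIsoColimitCompEvaluation_ι_app_hom (transformDiagram I) (op (op n))
    (ModuleCat.of R M)
  have h1 : (colimit.ι G (op (op n))).hom y = e.hom.hom (dtι I M n φ) :=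
    (congrArg (fun t => t.hom y) h0).symm
  have h1' : (colimit.ι G (op (op n))).hom y = 0 := by
    rw [h1, h]; exact map_zero e.hom.hom
  have h2 : (colimit.ι G (op (op n))).hom y = (colimit.ι G (op (op n))).hom 0 := by
    rw [h1', map_zero]
  obtain ⟨k, f, g, hfg⟩ := Concrete.colimit_exists_of_rep_eq G y 0 h2
  refine ⟨k.unop.unop, leOfHom f.unop.unop, ?_⟩
  have h3 : (G.map g).hom 0 = 0 := map_zero _
  have h4 : (G.map f).hom y = 0 := hfg.trans h3
  have h5 := congrArg (ModuleCat.homLinearEquiv (S := R) (M := ModuleCat.of R ↥(I ^ k.unop.unop))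
      (N := ModuleCat.of R M)) h4
  exact h5.trans (map_zero (ModuleCat.homLinearEquiv (S := R)
    (M := ModuleCat.of R ↥(I ^ k.unop.unop)) (N := ModuleCat.of R M)))

theorem dtι_eq_zero_iff (I : Ideal R) (M : Type u) [AddCommGroup M]
    [Module R M] {n : ℕ} (φ : ↥(I ^ n) →ₗ[R] M) :
    dtι I M n φ = 0 ↔ ∃ k, ∃ hk : n ≤ k, resPow I hk φ = 0 := by
  constructor
  · exact exists_resPow_eq_zero_of_dtι_eq_zero I M φ
  · rintro ⟨k, hk, h⟩
    rw [← dtι_resPow I M hk φ, h, map_zero]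

theorem toDT_eq_zero_iff (I : Ideal R) (M : Type u) [AddCommGroup M] [Module R M] (m : M) :
    toDT I M m = 0 ↔ ∃ k : ℕ, ∀ a ∈ I ^ k, a • m = 0 := by
  rw [toDT_eq, dtι_eq_zero_iff]
  constructor
  · rintro ⟨k, hk, h⟩
    refine ⟨k, fun a ha => ?_⟩
    exact LinearMap.congr_fun h ⟨a, ha⟩
  · rintro ⟨k, h⟩
    refine ⟨k, Nat.zero_le k, ?_⟩
    ext ⟨a, ha⟩
    exact h a ha

/-- A finitely generated submodule consisting of `I`-power torsion elements is killed by a single
power of `I`. -/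
theorem exists_pow_smul_eq_zero_of_fg (I : Ideal R) {M : Type u} [AddCommGroup M] [Module R M]
    (P : Submodule R M) (hP : P.FG) (hT : ∀ t ∈ P, ∃ k : ℕ, ∀ a ∈ I ^ k, a • t = 0) :
    ∃ k : ℕ, ∀ a ∈ I ^ k, ∀ t ∈ P, a • t = 0 := by
  classical
  obtain ⟨s, rfl⟩ := hP
  have h' : ∀ t ∈ s, ∃ k : ℕ, ∀ a ∈ I ^ k, a • t = 0 := fun t ht => hT t (Submodule.subset_span ht)
  choose! k hk using h'
  refine ⟨s.sup k, fun a ha t ht => ?_⟩
  induction ht using Submodule.span_induction with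
  | mem t ht => exact hk t ht a (Ideal.pow_le_pow_right (Finset.le_sup ht) ha)
  | zero => exact smul_zero a
  | add x y _ _ hx hy => rw [smul_add, hx, hy, add_zero]
  | smul c x _ hx => rw [smul_comm, hx, smul_zero]

/-- If `a • φ x = 0` for all `a ∈ I^k`, then `φ` vanishes on `I^(k+n)`. -/
theorem resPow_eq_zero_of_smul_eq_zero (I : Ideal R) {M : Type u} [AddCommGroup M] [Module R M]
    {n : ℕ} (φ : ↥(I ^ n) →ₗ[R] M) (k : ℕ) (h : ∀ a ∈ I ^ k, ∀ x, a • φ x = 0) :
    resPow I (Nat.le_add_left n k) φ = 0 := by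
  have hle : I ^ k * I ^ n ≤ I ^ n := Ideal.mul_le_right
  have key : ∀ y (hy : y ∈ I ^ k * I ^ n), φ ⟨y, hle hy⟩ = 0 := by
    intro y hy
    induction hy using Submodule.mul_induction_on' with
    | mem_mul_mem a ha x hx =>
      have : (⟨a * x, hle (Submodule.mul_mem_mul ha hx)⟩ : ↥(I ^ n)) = a • ⟨x, hx⟩ := rfl
      rw [this, map_smul]
      exact h a ha _
    | add x hx y hy ihx ihy =>
      have : (⟨x + y, hle (add_mem hx hy)⟩ : ↥(I ^ n)) = ⟨x, hle hx⟩ + ⟨y, hle hy⟩ := rfl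
      rw [this, map_add, ihx, ihy, add_zero]
  ext ⟨y, hy⟩
  rw [resPow_apply]
  have hy' : y ∈ I ^ k * I ^ n := by rwa [← pow_add]
  exact key y hy'

/-- Over a Noetherian ring, a map `I^n → M` with values in `I`-power torsion elements restricts to
zero on a higher power. -/
theorem exists_resPow_eq_zero_of_torsion [IsNoetherianRing R] (I : Ideal R) {M : Type u}
    [AddCommGroup M] [Module R M] {n : ℕ} (φ : ↥(I ^ n) →ₗ[R] M)
    (hφ : ∀ x, ∃ k : ℕ, ∀ a ∈ I ^ k, a • φ x = 0) :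
    ∃ k, ∃ hk : n ≤ k, resPow I hk φ = 0 := by
  have hfg : (LinearMap.range φ).FG := by
    rw [LinearMap.range_eq_map]
    exact (Submodule.FG.map φ (Module.Finite.fg_top))
  obtain ⟨k, hk⟩ := exists_pow_smul_eq_zero_of_fg I (LinearMap.range φ) hfg (by
    rintro t ⟨x, rfl⟩; exact hφ x)
  exact ⟨k + n, Nat.le_add_left n k,
    resPow_eq_zero_of_smul_eq_zero I φ k (fun a ha x => hk a ha _ ⟨x, rfl⟩)⟩

theorem dtι_eq_zero_of_torsion [IsNoetherianRing R] (I : Ideal R) {M : Type u}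
    [AddCommGroup M] [Module R M] {n : ℕ} (φ : ↥(I ^ n) →ₗ[R] M)
    (hφ : ∀ x, ∃ k : ℕ, ∀ a ∈ I ^ k, a • φ x = 0) : dtι I M n φ = 0 :=
  (dtι_eq_zero_iff I M φ).mpr (exists_resPow_eq_zero_of_torsion I φ hφ)

end Groth.Agent.H29
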