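import Mathlib
import Groth.Agent.H29.DT

/-!
# Lifting maps `I^k → M'` along maps with torsion kernel, via Artin–Rees (helper29)
-/

set_option autoImplicit false
universe u

namespace Groth.Agent.H29

open LocCoh Function

variable {R : Type u} [CommRing R]

/-- Over a Noetherian ring: if `e : M → M'` has `I`-power-torsion kernel and `ψ : I^k → M'` has values
in the range of `e`, then the restriction of `ψ` to a higher power of `I` lifts through `e`. -/
theorem exists_lift_resPow [IsNoetherianRing R] (I : Ideal R) {M M' : Type u} [AddCommGroup M]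
    [Module R M] [AddCommGroup M'] [Module R M'] (e : M →ₗ[R] M')
    (hker : ∀ m, e m = 0 → ∃ k : ℕ, ∀ a ∈ I ^ k, a • m = 0)
    {k : ℕ} (ψ : ↥(I ^ k) →ₗ[R] M') (hψ : ∀ y, ψ y ∈ LinearMap.range e) :
    ∃ t : ℕ, ∃ χ : ↥(I ^ (t + k)) →ₗ[R] M, e ∘ₗ χ = resPow I (Nat.le_add_left k t) ψ := by
  classical
  obtain ⟨s, π, hπ⟩ := Module.Finite.exists_fin' R ↥(I ^ k)
  choose m hm using fun i : Fin s => hψ (π (Pi.single i 1))
  let θ : (Fin s → R) →ₗ[R] M := Fintype.linearCombination R m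
  have hθ : e ∘ₗ θ = ψ ∘ₗ π := by
    apply LinearMap.pi_ext'
    intro i
    ext
    simp [θ, hm]
  let Z : Submodule R (Fin s → R) := LinearMap.ker π
  have hZfg : (Z.map θ).FG := (IsNoetherian.noetherian Z).map θ
  obtain ⟨l, hl⟩ := exists_pow_smul_eq_zero_of_fg I (Z.map θ) hZfg (by
    rintro _ ⟨z, hz, rfl⟩
    apply hker
    have h1 := LinearMap.congr_fun hθ z
    simp only [LinearMap.comp_apply] at h1
    rw [h1, LinearMap.mem_ker.mp hz, map_zero])
  obtain ⟨c, hc⟩ := Ideal.exists_pow_inf_eq_pow_smul I Z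
  let t := l + c
  let A : Submodule R (Fin s → R) := I ^ t • ⊤
  have hA : ∀ f ∈ A, ((π f : ↥(I ^ k)) : R) ∈ I ^ (t + k) := by
    intro f hf
    refine Submodule.smul_induction_on hf ?_ ?_
    · intro a ha g _
      rw [map_smul, pow_add]
      exact Ideal.mul_mem_mul ha (π g).2
    · intro x y hx hy
      rw [map_add]
      exact add_mem hx hy
  let p : A →ₗ[R] ↥(I ^ (t + k)) :=
    LinearMap.codRestrict (I ^ (t + k)) ((Submodule.subtype _) ∘ₗ π ∘ₗ A.subtype)
      (fun f => hA f.1 f.2)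
  have hp : Surjective p := by
    rintro ⟨y, hy⟩
    have hy' : y ∈ I ^ t * I ^ k := by rwa [← pow_add]
    have key : ∀ y (hy : y ∈ I ^ t * I ^ k), ∃ f : A, ((π f.1 : ↥(I ^ k)) : R) = y := by
      intro y hy
      induction hy using Submodule.mul_induction_on' with
      | mem_mul_mem a ha j hj =>
        obtain ⟨g, hg⟩ := hπ ⟨j, hj⟩
        refine ⟨⟨a • g, Submodule.smul_mem_smul ha trivial⟩, ?_⟩
        show ((π (a • g) : ↥(I ^ k)) : R) = a * j
        rw [map_smul, hg]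
        rfl
      | add x hx y hy ihx ihy =>
        obtain ⟨f1, h1⟩ := ihx
        obtain ⟨f2, h2⟩ := ihy
        refine ⟨f1 + f2, ?_⟩
        show ((π (f1.1 + f2.1) : ↥(I ^ k)) : R) = x + y
        rw [map_add, ← h1, ← h2]
        rfl
    obtain ⟨f, hf⟩ := key y hy'
    exact ⟨f, Subtype.ext hf⟩
  have hkill : LinearMap.ker p ≤ LinearMap.ker (θ ∘ₗ A.subtype) := by
    intro f hf
    have hfZ : f.1 ∈ Z := by
      rw [LinearMap.mem_ker] at hf ⊢
      have h1 : ((π f.1 : ↥(I ^ k)) : R) = 0 := congrArg Subtype.val hf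
      exact Subtype.ext h1
    have hmem : f.1 ∈ I ^ t • ⊤ ⊓ Z := ⟨f.2, hfZ⟩
    rw [hc t (Nat.le_add_left c l)] at hmem
    have htc : t - c = l := Nat.add_sub_cancel_right (n := l) (m := c)
    rw [htc] at hmem
    rw [LinearMap.mem_ker, LinearMap.comp_apply]
    show θ f.1 = 0
    refine Submodule.smul_induction_on hmem ?_ ?_
    · intro a ha z hz
      rw [map_smul]
      exact hl a ha (θ z) ⟨z, hz.2, rfl⟩
    · intro x y hx hy
      rw [map_add, hx, hy, add_zero]
  let χ : ↥(I ^ (t + k)) →ₗ[R] M :=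
    ((LinearMap.ker p).liftQ (θ ∘ₗ A.subtype) hkill) ∘ₗ
      (p.quotKerEquivOfSurjective hp).symm.toLinearMap
  refine ⟨t, χ, ?_⟩
  apply LinearMap.ext
  intro y
  obtain ⟨f, rfl⟩ := hp y
  have h1 : χ (p f) = θ f.1 := by
    show ((LinearMap.ker p).liftQ (θ ∘ₗ A.subtype) hkill)
      ((p.quotKerEquivOfSurjective hp).symm (p f)) = θ f.1
    have : (p.quotKerEquivOfSurjective hp).symm (p f) = Submodule.Quotient.mk f := by
      rw [LinearEquiv.symm_apply_eq]
      rfl
    rw [this, Submodule.liftQ_apply]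
    rfl
  rw [LinearMap.comp_apply, h1]
  have h2 := LinearMap.congr_fun hθ f.1
  simp only [LinearMap.comp_apply] at h2
  rw [h2, resPow_apply]
  rfl

/-- `D_I(e)` is bijective when `e` has `I`-power-torsion kernel and cokernel (Noetherian ring). -/
theorem idealTransform_map_bijective [IsNoetherianRing R] (I : Ideal R) {M M' : Type u}
    [AddCommGroup M] [Module R M] [AddCommGroup M'] [Module R M'] (e : M →ₗ[R] M')
    (hker : ∀ m, e m = 0 → ∃ k : ℕ, ∀ a ∈ I ^ k, a • m = 0)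
    (hcoker : ∀ m' : M', ∃ k : ℕ, ∀ a ∈ I ^ k, a • m' ∈ LinearMap.range e) :
    Function.Bijective ((idealTransform I).map (ModuleCat.ofHom e)).hom := by
  constructor
  · rw [injective_iff_map_eq_zero]
    intro z hz
    obtain ⟨n, φ, rfl⟩ := exists_dtι_eq I M z
    rw [idealTransform_map_dtι, dtι_eq_zero_iff] at hz
    obtain ⟨k, hk, h0⟩ := hz
    rw [← dtι_resPow I M hk φ]
    apply dtι_eq_zero_of_torsion
    intro x
    apply hker
    exact LinearMap.congr_fun h0 x
  · intro w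
    obtain ⟨n, ψ, rfl⟩ := exists_dtι_eq I M' w
    obtain ⟨k, hk, h0⟩ := exists_resPow_eq_zero_of_torsion I
      ((LinearMap.range e).mkQ ∘ₗ ψ) (by
        intro x
        obtain ⟨k, hk⟩ := hcoker (ψ x)
        refine ⟨k, fun a ha => ?_⟩
        rw [LinearMap.comp_apply, ← map_smul, Submodule.mkQ_apply, Submodule.Quotient.mk_eq_zero]
        exact hk a ha)
    have hrange : ∀ y, resPow I hk ψ y ∈ LinearMap.range e := by
      intro y
      have := LinearMap.congr_fun h0 y
      rw [resPow_apply, LinearMap.comp_apply, Submodule.mkQ_apply, LinearMap.zero_apply,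
        Submodule.Quotient.mk_eq_zero] at this
      exact this
    obtain ⟨t, χ, hχ⟩ := exists_lift_resPow I e hker (resPow I hk ψ) hrange
    refine ⟨dtι I M (t + k) χ, ?_⟩
    rw [idealTransform_map_dtι, hχ, dtι_resPow, dtι_resPow]

/-- `a • [φ] = η(φ a)` for `a ∈ I^n`, `φ : I^n → M`. -/
theorem smul_dtι_eq_toDT (I : Ideal R) (M : Type u) [AddCommGroup M] [Module R M] {n : ℕ}
    (φ : ↥(I ^ n) →ₗ[R] M) (a : R) (ha : a ∈ I ^ n) :
    a • dtι I M n φ = toDT I M (φ ⟨a, ha⟩) := by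
  rw [toDT_eq, ← map_smul, ← dtι_resPow I M (Nat.zero_le n)]
  congr 1
  ext ⟨r, hr⟩
  rw [resPow_apply, LinearMap.smul_apply, ← map_smul]
  show φ (a • ⟨r, hr⟩) = r • φ ⟨a, ha⟩
  rw [← map_smul]
  congr 1
  ext
  simp [mul_comm]

theorem toDT_ker_torsion (I : Ideal R) (M : Type u) [AddCommGroup M] [Module R M] (m : M)
    (hm : toDT I M m = 0) : ∃ k : ℕ, ∀ a ∈ I ^ k, a • m = 0 :=
  (toDT_eq_zero_iff I M m).mp hm

theorem toDT_coker_torsion (I : Ideal R) (M : Type u) [AddCommGroup M] [Module R M]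
    (w : DT I M) : ∃ k : ℕ, ∀ a ∈ I ^ k, a • w ∈ LinearMap.range (toDT I M) := by
  obtain ⟨n, φ, rfl⟩ := exists_dtι_eq I M w
  exact ⟨n, fun a ha => ⟨φ ⟨a, ha⟩, (smul_dtι_eq_toDT I M φ a ha).symm⟩⟩

theorem idealTransform_map_toDT (I : Ideal R) {M N : Type u} [AddCommGroup M] [Module R M]
    [AddCommGroup N] [Module R N] (f : M →ₗ[R] N) (m : M) :
    ((idealTransform I).map (ModuleCat.ofHom f)).hom (toDT I M m) = toDT I N (f m) := by
  rw [toDT_eq, toDT_eq, idealTransform_map_dtι]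
  congr 1
  ext r
  simp

/-- `D_I(K)` has no nonzero `I`-power-torsion elements (Noetherian ring). -/
theorem dt_eq_zero_of_pow_smul_eq_zero [IsNoetherianRing R] (I : Ideal R) (K : Type u)
    [AddCommGroup K] [Module R K] (w : DT I K) (k : ℕ) (hw : ∀ a ∈ I ^ k, a • w = 0) : w = 0 := by
  obtain ⟨n, φ, rfl⟩ := exists_dtι_eq I K w
  rw [← dtι_resPow I K (le_max_left n k) φ] at hw ⊢
  apply dtι_eq_zero_of_torsion
  rintro ⟨a, ha⟩
  have h1 := hw a (Ideal.pow_le_pow_right (le_max_right n k) ha)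
  rw [smul_dtι_eq_toDT I K _ a ha] at h1
  exact (toDT_eq_zero_iff I K _).mp h1

end Groth.Agent.H29
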