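import Mathlib
import Groth.Prelude.Def_EGA4c
import Groth.Prelude.Def_CAlg
import Groth.Agent.H29.DepthLocal
import Groth.Agent.H29.DepthLib

/-!
# Z-pure and Z-closed modules (helper29)

Sections of `M~` over `Spec A ∖ V(J)` are handled concretely through `structureSheafInType`.

* `injective_resU_iff` : restriction to `D(J)` is injective iff no nonzero element is killed
  locally on `D(J)`.
* `injective_iff_forall_not_le` : (Noetherian) iff no associated prime of `M` contains `J`.
* `injective_iff_one_le`, `bijective_iff_two_le` : (Noetherian, finite) iff `depth_J M ≥ 1`, `≥ 2`.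
* `isPureAlong_iff_associatedPrimes`, `isPureAlong_iff_depth`, `isClosedAlong_iff_depth`.
* `hasSk_iff_of_support_eq_univ`.
-/

set_option autoImplicit false
universe u

namespace Groth.Agent.H29.Pure

open AlgebraicGeometry CategoryTheory Opposite TopologicalSpace StructureSheaf RingTheory.Sequence
open scoped Pointwise

section Basic

variable (A : Type u) [CommRing A] (J : Ideal A) (M : Type u) [AddCommGroup M] [Module A M]

/-- Sections of `M~` over `U`, concretely. -/
abbrev Sec (U : Opens (PrimeSpectrum.Top A)) : Type u :=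
  (structureSheafInType A M).1.obj (op U)

/-- The open complement of `V(J)`. -/
abbrev UJ : Opens (PrimeSpectrum.Top A) := EGA4.openCompl A J

/-- The concrete restriction map. -/
noncomputable def resU : Sec A M ⊤ → Sec A M (UJ A J) := fun σ =>
  (structureSheafInType A M).1.map (homOfLE (le_top : UJ A J ≤ ⊤)).op σ

theorem injective_restrCompl_iff_resU :
    Function.Injective (EGA4.restrCompl A J M) ↔ Function.Injective (resU A J M) := Iff.rfl

theorem surjective_restrCompl_iff_resU :
    Function.Surjective (EGA4.restrCompl A J M) ↔ Function.Surjective (resU A J M) := Iff.rfl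

theorem mem_UJ_iff (q : PrimeSpectrum.Top A) : q ∈ UJ A J ↔ ¬ J ≤ q.asIdeal := Iff.rfl

theorem resU_toOpen_apply (m : M) (z : UJ A J) :
    (resU A J M (toOpenₗ A M ⊤ m)).1 z =
      LocalizedModule.mkLinearMap z.1.asIdeal.primeCompl M m := rfl

/-- An element killed in `M_q` for all `q ∈ D(f)` is killed by a power of `f`. -/
theorem exists_pow_smul_eq_zero (f : A) (e : M)
    (h : ∀ q : PrimeSpectrum A, f ∉ q.asIdeal → ∃ t : A, t ∉ q.asIdeal ∧ t • e = 0) :
    ∃ N : ℕ, f ^ N • e = 0 := by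
  have hf : f ∈ ((⊥ : Submodule A M).colon {e}).radical := by
    rw [Ideal.radical_eq_sInf, Ideal.mem_sInf]
    rintro P ⟨hle, hP⟩
    by_contra hfP
    obtain ⟨t, ht, hte⟩ := h ⟨P, hP⟩ hfP
    exact ht (hle (by rw [Submodule.mem_colon_singleton, Submodule.mem_bot]; exact hte))
  obtain ⟨N, hN⟩ := Ideal.mem_radical_iff.mp hf
  exact ⟨N, by rwa [Submodule.mem_colon_singleton, Submodule.mem_bot] at hN⟩

/-- The basic injectivity criterion. -/
theorem injective_resU_iff :
    Function.Injective (resU A J M) ↔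
      ∀ m : M, (∀ q : PrimeSpectrum A, ¬ J ≤ q.asIdeal →
        ∃ t : A, t ∉ q.asIdeal ∧ t • m = 0) → m = 0 := by
  constructor
  · intro hinj m hm
    have h1 : resU A J M (toOpenₗ A M ⊤ m) = resU A J M (toOpenₗ A M ⊤ 0) := by
      refine Subtype.ext (funext fun z => ?_)
      show LocalizedModule.mkLinearMap z.1.asIdeal.primeCompl M m =
        LocalizedModule.mkLinearMap z.1.asIdeal.primeCompl M 0
      rw [map_zero]
      obtain ⟨t, ht, htm⟩ := hm z.1 ((mem_UJ_iff A J z.1).mp z.2)
      exact (IsLocalizedModule.eq_zero_iff z.1.asIdeal.primeCompl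
        (LocalizedModule.mkLinearMap z.1.asIdeal.primeCompl M)).mpr ⟨⟨t, ht⟩, htm⟩
    exact (toOpenₗ_top_bijective (R := A) (M := M)).1 (hinj h1)
  · intro hcrit σ τ e
    obtain ⟨a, rfl⟩ := (toOpenₗ_top_bijective (R := A) (M := M)).2 σ
    obtain ⟨b, rfl⟩ := (toOpenₗ_top_bijective (R := A) (M := M)).2 τ
    have hab : a - b = 0 := by
      apply hcrit
      intro q hq
      have hq' : (q : PrimeSpectrum.Top A) ∈ UJ A J := (mem_UJ_iff A J q).mpr hq
      have h3 : LocalizedModule.mkLinearMap q.asIdeal.primeCompl M a =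
          LocalizedModule.mkLinearMap q.asIdeal.primeCompl M b :=
        congrArg (fun s : Sec A M (UJ A J) => s.1 ⟨q, hq'⟩) e
      obtain ⟨t, ht⟩ := (IsLocalizedModule.eq_zero_iff q.asIdeal.primeCompl
        (LocalizedModule.mkLinearMap q.asIdeal.primeCompl M)).mp
        (show LocalizedModule.mkLinearMap q.asIdeal.primeCompl M (a - b) = 0 by
          rw [map_sub, h3, sub_self])
      exact ⟨t.1, t.2, ht⟩
    rw [sub_eq_zero.mp hab]

/-- On `D(x) ⊆ U` a section is `m / x ^ n`. -/
theorem exists_pow_smul_eq (U : Opens (PrimeSpectrum.Top A)) (s : Sec A M U) (x : A)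
    (hxU : PrimeSpectrum.basicOpen x ≤ U) :
    ∃ (m : M) (n : ℕ), ∀ (q : PrimeSpectrum.Top A) (hq : q ∈ U), x ∉ q.asIdeal →
      x ^ n • s.1 ⟨q, hq⟩ = LocalizedModule.mkLinearMap q.asIdeal.primeCompl M m := by
  obtain ⟨⟨m, g⟩, hg⟩ := IsLocalizedModule.surj (Submonoid.powers x)
    (toOpenₗ A M (PrimeSpectrum.basicOpen x))
    ((structureSheafInType A M).1.map (homOfLE hxU).op s)
  obtain ⟨n, hn⟩ := (Submonoid.mem_powers_iff _ _).mp g.2
  refine ⟨m, n, fun q hq hxq => ?_⟩
  have h1 := congrArg (fun t : Sec A M (PrimeSpectrum.basicOpen x) => t.1 ⟨q, hxq⟩) hg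
  rw [hn]
  exact h1

/-- Locally a section is `f / g`. -/
theorem exists_local_smul_eq (U : Opens (PrimeSpectrum.Top A)) (s : Sec A M U)
    (q : PrimeSpectrum.Top A) (hq : q ∈ U) :
    ∃ (g : A) (f : M), g ∉ q.asIdeal ∧ PrimeSpectrum.basicOpen g ≤ U ∧
      ∀ (q' : PrimeSpectrum.Top A) (hq' : q' ∈ U), g ∉ q'.asIdeal →
        g • s.1 ⟨q', hq'⟩ = LocalizedModule.mkLinearMap q'.asIdeal.primeCompl M f := by
  obtain ⟨g, hqg, i, f, hf⟩ := StructureSheaf.exists_const U s q hq
  refine ⟨g, f, hqg, i, fun q' hq' hgq' => ?_⟩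
  have h1 := congrArg (fun t : Sec A M (PrimeSpectrum.basicOpen g) => t.1 ⟨q', hgq'⟩) hf
  have h2 : s.1 ⟨q', hq'⟩ = LocalizedModule.mk f (⟨g, hgq'⟩ : q'.asIdeal.primeCompl) := h1.symm
  rw [h2, LocalizedModule.smul'_mk]
  exact LocalizedModule.mk_cancel (⟨g, hgq'⟩ : q'.asIdeal.primeCompl) f

theorem injective_of_regular (x : A) (hx : x ∈ J) (hreg : IsSMulRegular M x) :
    Function.Injective (resU A J M) := by
  rw [injective_resU_iff]
  intro m hm
  obtain ⟨N, hN⟩ := exists_pow_smul_eq_zero A M x m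
    (fun q hxq => hm q (fun hJq => hxq (hJq hx)))
  exact (hreg.pow N) (show x ^ N • m = x ^ N • 0 by rw [hN, smul_zero])

theorem regular_elementwise (x y : A) (hy : IsSMulRegular (QuotSMulTop x M) y) (m : M)
    (h : ∃ m', y • m = x • m') : ∃ m'', m = x • m'' := by
  obtain ⟨m', hm'⟩ := h
  have h0 : y • (Submodule.Quotient.mk m : QuotSMulTop x M) = y • 0 := by
    rw [smul_zero, ← Submodule.Quotient.mk_smul, Submodule.Quotient.mk_eq_zero, hm']
    exact Submodule.smul_mem_pointwise_smul m' x ⊤ Submodule.mem_top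
  have h1 := hy h0
  rw [Submodule.Quotient.mk_eq_zero, Submodule.mem_smul_pointwise_iff_exists] at h1
  obtain ⟨b, -, hb⟩ := h1
  exact ⟨b, hb.symm⟩

theorem surjective_of_regular (x y : A) (hx : x ∈ J) (hy : y ∈ J) (hreg : IsSMulRegular M x)
    (hyreg : ∀ m : M, (∃ m', y • m = x • m') → ∃ m'', m = x • m'') :
    Function.Surjective (resU A J M) := by
  intro s
  have hDx : PrimeSpectrum.basicOpen x ≤ UJ A J := fun q hq =>
    (mem_UJ_iff A J q).mpr (fun hJq => hq (hJq hx))
  have hDy : PrimeSpectrum.basicOpen y ≤ UJ A J := fun q hq =>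
    (mem_UJ_iff A J q).mpr (fun hJq => hq (hJq hy))
  obtain ⟨m', k, hm'⟩ := exists_pow_smul_eq A M (UJ A J) s y hDy
  have hypow : ∀ (j : ℕ) (m : M), (∃ m₁, y ^ j • m = x • m₁) → ∃ m₂, m = x • m₂ := by
    intro j
    induction j with
    | zero =>
      rintro m ⟨m₁, h⟩
      exact ⟨m₁, by simpa using h⟩
    | succ j ih =>
      rintro m ⟨m₁, h⟩
      have h' : ∃ m₃, y • (y ^ j • m) = x • m₃ := ⟨m₁, by rw [← mul_smul, ← pow_succ']; exact h⟩
      obtain ⟨m₄, h4⟩ := hyreg _ h'
      exact ih m ⟨m₄, h4⟩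
  have claim1 : ∀ (n : ℕ) (m : M),
      (∀ (q : PrimeSpectrum.Top A) (hq : q ∈ UJ A J), x ∉ q.asIdeal →
        x ^ n • s.1 ⟨q, hq⟩ = LocalizedModule.mkLinearMap q.asIdeal.primeCompl M m) →
      ∃ m₀ : M, ∀ (q : PrimeSpectrum.Top A) (hq : q ∈ UJ A J), x ∉ q.asIdeal →
        s.1 ⟨q, hq⟩ = LocalizedModule.mkLinearMap q.asIdeal.primeCompl M m₀ := by
    intro n
    induction n with
    | zero =>
      intro m h
      exact ⟨m, fun q hq hxq => by simpa using h q hq hxq⟩
    | succ n ih =>
      intro m h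
      have hV : ∃ N : ℕ, (x * y) ^ N • (y ^ k • m - x ^ (n + 1) • m') = 0 := by
        apply exists_pow_smul_eq_zero A M
        intro q hxyq
        have hxq : x ∉ q.asIdeal := fun h' => hxyq (q.asIdeal.mul_mem_right y h')
        have hyq : y ∉ q.asIdeal := fun h' => hxyq (q.asIdeal.mul_mem_left x h')
        have hq : (q : PrimeSpectrum.Top A) ∈ UJ A J := hDx hxq
        have e1 := h q hq hxq
        have e2 := hm' q hq hyq
        have e3 : LocalizedModule.mkLinearMap q.asIdeal.primeCompl M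
            (y ^ k • m - x ^ (n + 1) • m') = 0 := by
          rw [map_sub, map_smul, map_smul, ← e1, ← e2, smul_comm, sub_self]
        obtain ⟨t, ht⟩ := (IsLocalizedModule.eq_zero_iff q.asIdeal.primeCompl
          (LocalizedModule.mkLinearMap q.asIdeal.primeCompl M)).mp e3
        exact ⟨t.1, t.2, ht⟩
      obtain ⟨N, hN⟩ := hV
      have h5 : y ^ N • (y ^ k • m - x ^ (n + 1) • m') = 0 := by
        apply (hreg.pow N)
        show x ^ N • (y ^ N • (y ^ k • m - x ^ (n + 1) • m')) = x ^ N • 0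
        rw [smul_zero, ← mul_smul, ← mul_pow]
        exact hN
      have h6 : y ^ (N + k) • m = x • (x ^ n • y ^ N • m') := by
        rw [smul_sub, sub_eq_zero] at h5
        calc y ^ (N + k) • m = y ^ N • y ^ k • m := by rw [pow_add, mul_smul]
          _ = y ^ N • x ^ (n + 1) • m' := h5
          _ = x • (x ^ n • y ^ N • m') := by
            simp only [smul_smul]
            congr 1
            ring
      obtain ⟨m₁, hm₁⟩ := hypow _ m ⟨_, h6⟩
      refine ih m₁ (fun q hq hxq => ?_)
      have e1 := h q hq hxq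
      apply IsLocalizedModule.smul_injective (LocalizedModule.mkLinearMap q.asIdeal.primeCompl M)
        (⟨x, hxq⟩ : q.asIdeal.primeCompl)
      show x • (x ^ n • s.1 ⟨q, hq⟩) =
        x • LocalizedModule.mkLinearMap q.asIdeal.primeCompl M m₁
      rw [← mul_smul, ← pow_succ', e1, hm₁, map_smul]
  obtain ⟨m, n, hmn⟩ := exists_pow_smul_eq A M (UJ A J) s x hDx
  obtain ⟨m₀, hm₀⟩ := claim1 n m hmn
  have claim2 : ∀ (q : PrimeSpectrum.Top A) (hq : q ∈ UJ A J),
      s.1 ⟨q, hq⟩ = LocalizedModule.mkLinearMap q.asIdeal.primeCompl M m₀ := by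
    intro q hq
    obtain ⟨g, f, hgq, hgU, hgf⟩ := exists_local_smul_eq A M (UJ A J) s q hq
    have hV : ∃ N : ℕ, (x * g) ^ N • (f - g • m₀) = 0 := by
      apply exists_pow_smul_eq_zero A M
      intro q' hxgq'
      have hxq' : x ∉ q'.asIdeal := fun h' => hxgq' (q'.asIdeal.mul_mem_right g h')
      have hgq' : g ∉ q'.asIdeal := fun h' => hxgq' (q'.asIdeal.mul_mem_left x h')
      have hq' : (q' : PrimeSpectrum.Top A) ∈ UJ A J := hgU hgq'
      have e1 := hgf q' hq' hgq'
      have e2 := hm₀ q' hq' hxq'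
      have e3 : LocalizedModule.mkLinearMap q'.asIdeal.primeCompl M (f - g • m₀) = 0 := by
        rw [map_sub, map_smul, ← e1, ← e2, sub_self]
      obtain ⟨t, ht⟩ := (IsLocalizedModule.eq_zero_iff q'.asIdeal.primeCompl
        (LocalizedModule.mkLinearMap q'.asIdeal.primeCompl M)).mp e3
      exact ⟨t.1, t.2, ht⟩
    obtain ⟨N, hN⟩ := hV
    have h5 : g ^ N • (f - g • m₀) = 0 := by
      apply (hreg.pow N)
      show x ^ N • (g ^ N • (f - g • m₀)) = x ^ N • 0
      rw [smul_zero, ← mul_smul, ← mul_pow]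
      exact hN
    have e4 : g ^ N • f = g ^ N • g • m₀ := by rwa [smul_sub, sub_eq_zero] at h5
    have e1 := hgf q hq hgq
    apply IsLocalizedModule.smul_injective (LocalizedModule.mkLinearMap q.asIdeal.primeCompl M)
      (⟨g ^ (N + 1), q.asIdeal.primeCompl.pow_mem hgq (N + 1)⟩ : q.asIdeal.primeCompl)
    show g ^ (N + 1) • s.1 ⟨q, hq⟩ =
      g ^ (N + 1) • LocalizedModule.mkLinearMap q.asIdeal.primeCompl M m₀
    calc g ^ (N + 1) • s.1 ⟨q, hq⟩ = g ^ N • (g • s.1 ⟨q, hq⟩) := by rw [pow_succ, mul_smul]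
      _ = g ^ N • LocalizedModule.mkLinearMap q.asIdeal.primeCompl M f := by rw [e1]
      _ = LocalizedModule.mkLinearMap q.asIdeal.primeCompl M (g ^ N • f) :=
        (map_smul _ _ _).symm
      _ = LocalizedModule.mkLinearMap q.asIdeal.primeCompl M (g ^ N • g • m₀) := by rw [e4]
      _ = g ^ (N + 1) • LocalizedModule.mkLinearMap q.asIdeal.primeCompl M m₀ := by
        rw [map_smul, map_smul, ← mul_smul, ← pow_succ]
  refine ⟨toOpenₗ A M ⊤ m₀, ?_⟩
  exact Subtype.ext (funext fun z => (claim2 z.1 z.2).symm)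

/-- If restriction to `D(J)` is bijective and `x` is `M`-regular, then every `m` with
`J m ⊆ x M` lies in `x M`. -/
theorem exists_eq_smul_of_bijective (hinj : Function.Injective (resU A J M))
    (hsurj : Function.Surjective (resU A J M)) (x : A) (hreg : IsSMulRegular M x) (m : M)
    (hm : ∀ g ∈ J, ∃ m', g • m = x • m') : ∃ m₀, m = x • m₀ := by
  classical
  have hex : ∀ z : UJ A J, ∃ g : A, g ∈ J ∧ g ∉ z.1.asIdeal := fun z =>
    SetLike.not_le_iff_exists.mp ((mem_UJ_iff A J z.1).mp z.2)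
  choose g hgJ hgq using hex
  have hex2 : ∀ z : UJ A J, ∃ m', g z • m = x • m' := fun z => hm (g z) (hgJ z)
  choose m' hm' using hex2
  have hcompat : ∀ z w : UJ A J, g z • m' w = g w • m' z := by
    intro z w
    have h1 : x • (g z • m' w) = x • (g w • m' z) := by
      calc x • (g z • m' w) = g z • (x • m' w) := smul_comm _ _ _
        _ = g z • (g w • m) := by rw [hm' w]
        _ = g w • (g z • m) := smul_comm _ _ _
        _ = g w • (x • m' z) := by rw [hm' z]
        _ = x • (g w • m' z) := smul_comm _ _ _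
    exact hreg h1
  let sfun : Π z : UJ A J, Localizations M z.1 := fun z =>
    LocalizedModule.mk (m' z) ⟨g z, hgq z⟩
  have hloc : (isLocallyFraction A M).pred sfun := by
    intro z
    have hVU : PrimeSpectrum.basicOpen (g z) ≤ UJ A J := fun q hq =>
      (mem_UJ_iff A J q).mpr (fun hJq => hq (hJq (hgJ z)))
    refine ⟨PrimeSpectrum.basicOpen (g z), hgq z, homOfLE hVU, m' z, g z, fun w => ⟨w.2, ?_⟩⟩
    show (LocalizedModule.mk (m' ⟨w.1, hVU w.2⟩) ⟨g ⟨w.1, hVU w.2⟩, hgq ⟨w.1, hVU w.2⟩⟩ :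
      LocalizedModule w.1.asIdeal.primeCompl M) = LocalizedModule.mk (m' z) ⟨g z, w.2⟩
    refine LocalizedModule.mk_eq.mpr ⟨1, ?_⟩
    rw [one_smul, one_smul]
    exact hcompat z ⟨w.1, hVU w.2⟩
  obtain ⟨σ₀, hσ₀⟩ := hsurj ⟨sfun, hloc⟩
  obtain ⟨m₀, rfl⟩ := (toOpenₗ_top_bijective (R := A) (M := M)).2 σ₀
  refine ⟨m₀, ?_⟩
  have h0 : x • m₀ - m = 0 := by
    apply (injective_resU_iff A J M).mp hinj
    intro q hq
    have hq' : (q : PrimeSpectrum.Top A) ∈ UJ A J := (mem_UJ_iff A J q).mpr hq
    have e1 : LocalizedModule.mkLinearMap q.asIdeal.primeCompl M m₀ =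
        LocalizedModule.mk (m' ⟨q, hq'⟩) ⟨g ⟨q, hq'⟩, hgq ⟨q, hq'⟩⟩ :=
      congrArg (fun t : Sec A M (UJ A J) => t.1 ⟨q, hq'⟩) hσ₀
    have e3 : LocalizedModule.mkLinearMap q.asIdeal.primeCompl M (x • m₀ - m) = 0 := by
      rw [map_sub, map_smul, e1, LocalizedModule.smul'_mk, ← hm' ⟨q, hq'⟩,
        LocalizedModule.mkLinearMap_apply, sub_eq_zero]
      exact LocalizedModule.mk_cancel (⟨g ⟨q, hq'⟩, hgq ⟨q, hq'⟩⟩ : q.asIdeal.primeCompl) m
    obtain ⟨t, ht⟩ := (IsLocalizedModule.eq_zero_iff q.asIdeal.primeCompl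
      (LocalizedModule.mkLinearMap q.asIdeal.primeCompl M)).mp e3
    exact ⟨t.1, t.2, ht⟩
  exact (sub_eq_zero.mp h0).symm

end Basic

section Noeth

variable (A : Type u) [CommRing A] [IsNoetherianRing A] (J : Ideal A) (M : Type u)
  [AddCommGroup M] [Module A M]

theorem not_le_of_injective (hinj : Function.Injective (resU A J M)) :
    ∀ q ∈ associatedPrimes A M, ¬ J ≤ q := by
  intro q hq hJq
  obtain ⟨hqp, m, hm⟩ := isAssociatedPrime_iff.mp hq
  have hmem : ∀ a : A, a ∈ q ↔ a • m = 0 := fun a => by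
    rw [hm, Submodule.mem_colon_singleton, Submodule.mem_bot]
  have hm0 : m = 0 := (injective_resU_iff A J M).mp hinj m (fun P hP => by
    obtain ⟨t, htq, htP⟩ := SetLike.not_le_iff_exists.mp
      (fun hle : q ≤ P.asIdeal => hP (hJq.trans hle))
    exact ⟨t, htP, (hmem t).mp htq⟩)
  exact hqp.ne_top ((Ideal.eq_top_iff_one q).mpr ((hmem 1).mpr (by rw [hm0, smul_zero])))

theorem injective_of_forall_not_le (h : ∀ q ∈ associatedPrimes A M, ¬ J ≤ q) :
    Function.Injective (resU A J M) := by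
  rw [injective_resU_iff]
  intro m hm
  by_contra hm0
  obtain ⟨P, hP, hle⟩ := exists_le_isAssociatedPrime_of_isNoetherianRing A m hm0
  have hJP : J ≤ P := by
    by_contra hJP
    obtain ⟨t, htP, htm⟩ := hm ⟨P, hP.isPrime⟩ hJP
    exact htP (hle (by rw [Submodule.mem_colon_singleton, Submodule.mem_bot]; exact htm))
  exact h P hP hJP

theorem injective_iff_forall_not_le :
    Function.Injective (EGA4.restrCompl A J M) ↔ ∀ q ∈ associatedPrimes A M, ¬ J ≤ q :=
  (injective_restrCompl_iff_resU A J M).trans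
    ⟨not_le_of_injective A J M, injective_of_forall_not_le A J M⟩

theorem zeroLocus_subset_of_mem (Z : Set (PrimeSpectrum A)) (hZ : StableUnderSpecialization Z)
    (p : PrimeSpectrum A) (hp : p ∈ Z) : PrimeSpectrum.zeroLocus (p.asIdeal : Set A) ⊆ Z := by
  intro q hq
  have hle : p ≤ q := (PrimeSpectrum.asIdeal_le_asIdeal p q).mp
    (fun a ha => (PrimeSpectrum.mem_zeroLocus _ _).mp hq ha)
  exact hZ ((PrimeSpectrum.le_iff_specializes p q).mp hle) hp

theorem isPureAlong_iff_associatedPrimes (Z : Set (PrimeSpectrum A))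
    (hZ : StableUnderSpecialization Z) :
    EGA4.IsPureAlong Z M ↔
      ∀ p : PrimeSpectrum A, p.asIdeal ∈ associatedPrimes A M → p ∉ Z := by
  constructor
  · intro h p hp hpZ
    exact (injective_iff_forall_not_le A p.asIdeal M).mp
      (h p.asIdeal (zeroLocus_subset_of_mem A Z hZ p hpZ)) p.asIdeal hp le_rfl
  · intro h J hJ
    refine (injective_iff_forall_not_le A J M).mpr (fun q hq hJq => ?_)
    exact h ⟨q, hq.isPrime⟩ hq (hJ ((PrimeSpectrum.mem_zeroLocus _ _).mpr hJq))

variable [Module.Finite A M]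

theorem exists_mem_smul_eq_self (h : J • (⊤ : Submodule A M) = ⊤) :
    ∃ a ∈ J, ∀ m : M, a • m = m := by
  obtain ⟨r, hr, hr0⟩ := Submodule.exists_sub_one_mem_and_smul_eq_zero_of_fg_of_le_smul J
    (⊤ : Submodule A M) Module.Finite.fg_top (le_of_eq h.symm)
  refine ⟨1 - r, ?_, fun m => ?_⟩
  · have h1 : 1 - r = -(r - 1) := by ring
    rw [h1]
    exact Submodule.neg_mem J hr
  · rw [sub_smul, one_smul, hr0 m Submodule.mem_top, sub_zero]

theorem one_le_idealDepth_iff :
    (1 : ℕ∞) ≤ LocCoh.idealDepth J M ↔ ∃ x ∈ J, IsSMulRegular M x := by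
  constructor
  · intro h
    by_cases hJ : J • (⊤ : Submodule A M) = ⊤
    · obtain ⟨a, haJ, ha⟩ := exists_mem_smul_eq_self A J M hJ
      refine ⟨a, haJ, fun m₁ m₂ h' => ?_⟩
      have h'' : a • m₁ = a • m₂ := h'
      rwa [ha, ha] at h''
    · obtain ⟨rs, hlen, hreg, hmem⟩ := (le_idealDepth_iff J M hJ 1).mp (by simpa using h)
      obtain ⟨x, rfl⟩ := List.length_eq_one_iff.mp hlen
      exact ⟨x, hmem x (by simp), ((isWeaklyRegular_cons_iff M x []).mp hreg).1⟩
  · rintro ⟨x, hx, hreg⟩
    by_cases hJ : J • (⊤ : Submodule A M) = ⊤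
    · rw [idealDepth_eq_top_of_smul_top_eq_top J M hJ]
      exact le_top
    · have := (le_idealDepth_iff J M hJ 1).mpr ⟨[x], rfl,
        (isWeaklyRegular_cons_iff M x []).mpr ⟨hreg, IsWeaklyRegular.nil A _⟩, by simpa using hx⟩
      simpa using this

theorem two_le_idealDepth_iff :
    (2 : ℕ∞) ≤ LocCoh.idealDepth J M ↔
      ∃ x ∈ J, ∃ y ∈ J, IsSMulRegular M x ∧ IsSMulRegular (QuotSMulTop x M) y := by
  constructor
  · intro h
    by_cases hJ : J • (⊤ : Submodule A M) = ⊤
    · obtain ⟨a, haJ, ha⟩ := exists_mem_smul_eq_self A J M hJ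
      have hsub : Subsingleton (QuotSMulTop a M) := by
        refine ⟨fun n₁ n₂ => ?_⟩
        obtain ⟨m₁, rfl⟩ := Submodule.Quotient.mk_surjective _ n₁
        obtain ⟨m₂, rfl⟩ := Submodule.Quotient.mk_surjective _ n₂
        rw [Submodule.Quotient.eq, ← ha (m₁ - m₂)]
        exact Submodule.smul_mem_pointwise_smul _ a ⊤ Submodule.mem_top
      refine ⟨a, haJ, a, haJ, fun m₁ m₂ h' => ?_, fun n₁ n₂ _ => Subsingleton.elim _ _⟩
      have h'' : a • m₁ = a • m₂ := h'
      rwa [ha, ha] at h''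
    · obtain ⟨rs, hlen, hreg, hmem⟩ := (le_idealDepth_iff J M hJ 2).mp (by simpa using h)
      obtain ⟨x, y, rfl⟩ := List.length_eq_two.mp hlen
      have h1 := (isWeaklyRegular_cons_iff M x [y]).mp hreg
      have h2 := (isWeaklyRegular_cons_iff (QuotSMulTop x M) y []).mp h1.2
      exact ⟨x, hmem x (by simp), y, hmem y (by simp), h1.1, h2.1⟩
  · rintro ⟨x, hx, y, hy, hreg, hyreg⟩
    by_cases hJ : J • (⊤ : Submodule A M) = ⊤
    · rw [idealDepth_eq_top_of_smul_top_eq_top J M hJ]
      exact le_top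
    · have := (le_idealDepth_iff J M hJ 2).mpr ⟨[x, y], rfl,
        (isWeaklyRegular_cons_iff M x [y]).mpr ⟨hreg,
          (isWeaklyRegular_cons_iff (QuotSMulTop x M) y []).mpr ⟨hyreg, IsWeaklyRegular.nil A _⟩⟩,
        by
          intro r hr
          rcases List.mem_cons.mp hr with rfl | hr
          · exact hx
          · rcases List.mem_cons.mp hr with rfl | hr
            · exact hy
            · simp at hr⟩
      simpa using this

theorem injective_iff_one_le :
    Function.Injective (EGA4.restrCompl A J M) ↔ (1 : ℕ∞) ≤ LocCoh.idealDepth J M := by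
  rw [one_le_idealDepth_iff, injective_restrCompl_iff_resU]
  constructor
  · intro hinj
    exact exists_isSMulRegular_mem_of_forall_not_le A M J (not_le_of_injective A J M hinj)
  · rintro ⟨x, hx, hreg⟩
    exact injective_of_regular A J M x hx hreg

theorem bijective_iff_two_le :
    Function.Bijective (EGA4.restrCompl A J M) ↔ (2 : ℕ∞) ≤ LocCoh.idealDepth J M := by
  rw [two_le_idealDepth_iff]
  constructor
  · rintro ⟨hinj', hsurj'⟩
    have hinj := (injective_restrCompl_iff_resU A J M).mp hinj'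
    have hsurj := (surjective_restrCompl_iff_resU A J M).mp hsurj'
    obtain ⟨x, hx, hreg⟩ := exists_isSMulRegular_mem_of_forall_not_le A M J
      (not_le_of_injective A J M hinj)
    have hQ : ∀ Q ∈ associatedPrimes A (QuotSMulTop x M), ¬ J ≤ Q := by
      intro Q hQ hJQ
      obtain ⟨hQp, n, hn⟩ := isAssociatedPrime_iff.mp hQ
      obtain ⟨m, rfl⟩ := Submodule.Quotient.mk_surjective _ n
      have hmem : ∀ a : A, a ∈ Q ↔ a • (Submodule.Quotient.mk m : QuotSMulTop x M) = 0 :=
        fun a => by rw [hn, Submodule.mem_colon_singleton, Submodule.mem_bot]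
      have hm : ∀ g ∈ J, ∃ m', g • m = x • m' := by
        intro g hg
        have h1 := (hmem g).mp (hJQ hg)
        rw [← Submodule.Quotient.mk_smul, Submodule.Quotient.mk_eq_zero,
          Submodule.mem_smul_pointwise_iff_exists] at h1
        obtain ⟨b, -, hb⟩ := h1
        exact ⟨b, hb.symm⟩
      obtain ⟨m₀, hm₀⟩ := exists_eq_smul_of_bijective A J M hinj hsurj x hreg m hm
      have h0 : (Submodule.Quotient.mk m : QuotSMulTop x M) = 0 := by
        rw [Submodule.Quotient.mk_eq_zero, hm₀]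
        exact Submodule.smul_mem_pointwise_smul m₀ x ⊤ Submodule.mem_top
      exact hQp.ne_top ((Ideal.eq_top_iff_one Q).mpr ((hmem 1).mpr (by rw [h0, smul_zero])))
    obtain ⟨y, hy, hyreg⟩ := exists_isSMulRegular_mem_of_forall_not_le A (QuotSMulTop x M) J hQ
    exact ⟨x, hx, y, hy, hreg, hyreg⟩
  · rintro ⟨x, hx, y, hy, hreg, hyreg⟩
    exact ⟨(injective_restrCompl_iff_resU A J M).mpr (injective_of_regular A J M x hx hreg),
      (surjective_restrCompl_iff_resU A J M).mpr (surjective_of_regular A J M x y hx hy hreg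
        (regular_elementwise A M x y hyreg))⟩

theorem forall_depth_iff (Z : Set (PrimeSpectrum A)) (hZ : StableUnderSpecialization Z)
    (n : ℕ∞) :
    (∀ p : PrimeSpectrum A, p ∈ Z → n ≤ LocCoh.depth (Localization.AtPrime p.asIdeal)
        (LocalizedModule p.asIdeal.primeCompl M)) ↔
      ∀ J : Ideal A, PrimeSpectrum.zeroLocus (J : Set A) ⊆ Z → n ≤ LocCoh.idealDepth J M := by
  constructor
  · intro h J hJ
    rw [idealDepth_eq_iInf_depth_localizedModule A J M]
    exact le_iInf₂ (fun p hp => h p (hJ ((PrimeSpectrum.mem_zeroLocus _ _).mpr hp)))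
  · intro h p hp
    have h1 := h p.asIdeal (zeroLocus_subset_of_mem A Z hZ p hp)
    rw [idealDepth_eq_iInf_depth_localizedModule A p.asIdeal M] at h1
    exact le_trans h1 (iInf₂_le p le_rfl)

theorem isPureAlong_iff_depth (Z : Set (PrimeSpectrum A)) (hZ : StableUnderSpecialization Z) :
    EGA4.IsPureAlong Z M ↔
      ∀ p : PrimeSpectrum A, p ∈ Z → (1 : ℕ∞) ≤ LocCoh.depth (Localization.AtPrime p.asIdeal)
        (LocalizedModule p.asIdeal.primeCompl M) := by
  rw [forall_depth_iff A M Z hZ 1]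
  exact forall_congr' fun J => imp_congr_right fun _ => injective_iff_one_le A J M

theorem isClosedAlong_iff_depth (Z : Set (PrimeSpectrum A)) (hZ : StableUnderSpecialization Z) :
    EGA4.IsClosedAlong Z M ↔
      ∀ p : PrimeSpectrum A, p ∈ Z → (2 : ℕ∞) ≤ LocCoh.depth (Localization.AtPrime p.asIdeal)
        (LocalizedModule p.asIdeal.primeCompl M) := by
  rw [forall_depth_iff A M Z hZ 2]
  exact forall_congr' fun J => imp_congr_right fun _ => bijective_iff_two_le A J M

end Noeth

section Sk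

theorem supportDim_eq_ringKrullDim_of_support_eq_univ (R : Type*) [CommRing R] (N : Type*)
    [AddCommGroup N] [Module R N] (h : Module.support R N = Set.univ) :
    Module.supportDim R N = ringKrullDim R := by
  apply le_antisymm (Module.supportDim_le_ringKrullDim R N)
  unfold Module.supportDim ringKrullDim
  exact Order.krullDim_le_of_strictMono
    (fun a => (⟨a, by rw [h]; exact Set.mem_univ a⟩ : Module.support R N)) (fun _ _ lt => lt)

variable (A : Type u) [CommRing A] (M : Type u) [AddCommGroup M] [Module A M]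

theorem support_localizedModule_eq_univ (hsupp : Module.support A M = Set.univ) (p : Ideal A)
    [p.IsPrime] :
    Module.support (Localization.AtPrime p) (LocalizedModule p.primeCompl M) = Set.univ := by
  rw [Set.eq_univ_iff_forall]
  intro Q
  have hq : PrimeSpectrum.comap (algebraMap A (Localization.AtPrime p)) Q ∈
      Module.support A M := by
    rw [hsupp]; exact Set.mem_univ _
  rw [Module.mem_support_iff'] at hq ⊢
  obtain ⟨m, hm⟩ := hq
  refine ⟨LocalizedModule.mk m 1, fun r hr hzero => ?_⟩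
  obtain ⟨a, t, rfl⟩ := IsLocalization.exists_mk'_eq p.primeCompl r
  have ha : algebraMap A (Localization.AtPrime p) a ∉ Q.asIdeal := by
    intro hmem
    apply hr
    have h1 : IsLocalization.mk' (Localization.AtPrime p) a t =
        IsLocalization.mk' (Localization.AtPrime p) 1 t *
          algebraMap A (Localization.AtPrime p) a := by
      rw [mul_comm, IsLocalization.mul_mk'_eq_mk'_of_mul, mul_one]
    rw [h1]
    exact Q.asIdeal.mul_mem_left _ hmem
  rw [← Localization.mk_eq_mk', LocalizedModule.mk_smul_mk, ← LocalizedModule.zero_mk 1,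
    LocalizedModule.mk_eq] at hzero
  obtain ⟨u, hu⟩ := hzero
  simp only [smul_zero, one_smul] at hu
  have hu' : algebraMap A (Localization.AtPrime p) (u : A) ∉ Q.asIdeal := fun hmem =>
    Q.2.ne_top (Ideal.eq_top_of_isUnit_mem _ hmem (IsLocalization.map_units _ u))
  have hua : (u : A) * a ∉
      (PrimeSpectrum.comap (algebraMap A (Localization.AtPrime p)) Q).asIdeal := by
    intro hmem
    have hmem' : algebraMap A (Localization.AtPrime p) ((u : A) * a) ∈ Q.asIdeal := hmem
    rw [map_mul] at hmem'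
    rcases Q.2.mem_or_mem hmem' with h | h
    · exact hu' h
    · exact ha h
  apply hm _ hua
  rw [mul_smul]
  exact hu

theorem hasSk_iff_of_support_eq_univ (hsupp : Module.support A M = Set.univ) (k : ℕ) :
    LocCoh.HasSk k A M ↔ ∀ p : PrimeSpectrum A, min (k : ℕ∞) p.asIdeal.height ≤
      LocCoh.depth (Localization.AtPrime p.asIdeal) (LocalizedModule p.asIdeal.primeCompl M) := by
  have key : ∀ (p : Ideal A) [p.IsPrime], Module.supportDim (Localization.AtPrime p)
      (LocalizedModule p.primeCompl M) = ((p.height : ℕ∞) : WithBot ℕ∞) := by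
    intro p _
    rw [supportDim_eq_ringKrullDim_of_support_eq_univ _ _
      (support_localizedModule_eq_univ A M hsupp p),
      IsLocalization.AtPrime.ringKrullDim_eq_height p]
  constructor
  · intro h p
    have h1 := h p.asIdeal
    rw [key p.asIdeal] at h1
    have h2 : ((min (k : ℕ∞) p.asIdeal.height : ℕ∞) : WithBot ℕ∞) ≤
        ((LocCoh.depth (Localization.AtPrime p.asIdeal)
          (LocalizedModule p.asIdeal.primeCompl M) : ℕ∞) : WithBot ℕ∞) := by
      rw [WithBot.coe_min]
      exact h1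
    exact WithBot.coe_le_coe.mp h2
  · intro h p _
    rw [key p]
    have h1 := WithBot.coe_le_coe.mpr (h ⟨p, inferInstance⟩)
    rw [WithBot.coe_min] at h1
    exact h1

theorem stable_Zge (n : ℕ) : StableUnderSpecialization (EGA4.Zge A n) := by
  intro p q hpq hp
  have hle : p ≤ q := (PrimeSpectrum.le_iff_specializes p q).mpr hpq
  exact le_trans hp (Ideal.height_mono ((PrimeSpectrum.asIdeal_le_asIdeal p q).mpr hle))

end Sk

end Groth.Agent.H29.Pure
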