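import Mathlib

/-!
# Flat base change for `Ext` (helper29)

For `A` Noetherian, `B` a flat `A`-algebra, `M` a finite `A`-module and `N` any `A`-module:
`B ⊗_A Ext^r_A(M, N) ≃ₗ[B] Ext^r_B(B ⊗_A M, B ⊗_A N)` (`ext_baseChange`, existence of an iso).

* `nonempty_linearEquiv_of_exact` : cokernels of compatible right exact sequences are isomorphic.
* `ext0BaseChange` (+ `_tmul`, `_natural`) : the degree `0` iso, natural in `M`.
* `precomp_extClass_bijective`, `precomp_exact_zero`, `precomp_extClass_surjective_zero` :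
  dimension shifting along `0 → K → P → M → 0` with `P` projective, as linear maps.
* `shortExact_baseChange` : base change of `0 → ker f → F → M → 0` along a flat algebra.
-/

set_option autoImplicit false
set_option linter.style.haveILetI false
set_option linter.unusedSectionVars false
universe u

namespace Groth.Agent.H29

open CategoryTheory Abelian TensorProduct

section Coker
variable {R : Type*} [CommRing R] {X₁ X₂ X₃ Y₁ Y₂ Y₃ : Type*}
  [AddCommGroup X₁] [Module R X₁] [AddCommGroup X₂] [Module R X₂] [AddCommGroup X₃] [Module R X₃]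
  [AddCommGroup Y₁] [Module R Y₁] [AddCommGroup Y₂] [Module R Y₂] [AddCommGroup Y₃] [Module R Y₃]

theorem nonempty_linearEquiv_of_exact
    (f : X₁ →ₗ[R] X₂) (g : X₂ →ₗ[R] X₃) (f' : Y₁ →ₗ[R] Y₂) (g' : Y₂ →ₗ[R] Y₃)
    (hfg : Function.Exact f g) (hg : Function.Surjective g)
    (hfg' : Function.Exact f' g') (hg' : Function.Surjective g')
    (e₁ : X₁ ≃ₗ[R] Y₁) (e₂ : X₂ ≃ₗ[R] Y₂) (h : ∀ x, e₂ (f x) = f' (e₁ x)) :
    Nonempty (X₃ ≃ₗ[R] Y₃) := by
  have hker : (LinearMap.ker g).map (e₂ : X₂ →ₗ[R] Y₂) = LinearMap.ker g' := by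
    rw [hfg.linearMap_ker_eq, hfg'.linearMap_ker_eq, ← LinearMap.range_comp]
    have hcomp : (e₂ : X₂ →ₗ[R] Y₂) ∘ₗ f = f' ∘ₗ (e₁ : X₁ →ₗ[R] Y₁) := by
      ext x
      exact h x
    rw [hcomp, LinearMap.range_comp_of_range_eq_top]
    exact LinearEquiv.range e₁
  exact ⟨(g.quotKerEquivOfSurjective hg).symm ≪≫ₗ
    Submodule.Quotient.equiv _ _ e₂ hker ≪≫ₗ g'.quotKerEquivOfSurjective hg'⟩
end Coker

section Deg0
variable (A B : Type u) [CommRing A] [CommRing B] [Algebra A B] [Module.Flat A B]
  (M N : Type u) [AddCommGroup M] [Module A M] [Module.FinitePresentation A M]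
  [AddCommGroup N] [Module A N]

noncomputable def ext0BaseChange :
    (B ⊗[A] Ext (ModuleCat.of A M) (ModuleCat.of A N) 0) ≃ₗ[B]
      Ext (ModuleCat.of B (B ⊗[A] M)) (ModuleCat.of B (B ⊗[A] N)) 0 :=
  (LinearEquiv.baseChange A B _ _
    ((Ext.linearEquiv₀ (R := A) (X := ModuleCat.of A M) (Y := ModuleCat.of A N)).trans
      (ModuleCat.homLinearEquiv (S := A)))).trans
  ((Module.FinitePresentation.isBaseChange_map A M N B).equiv.trans
   ((ModuleCat.homLinearEquiv (S := B) (M := ModuleCat.of B (B ⊗[A] M))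
      (N := ModuleCat.of B (B ⊗[A] N))).symm.trans
    (Ext.linearEquiv₀ (R := B)).symm))

theorem ext0BaseChange_tmul (b : B) (φ : ModuleCat.of A M ⟶ ModuleCat.of A N) :
    ext0BaseChange A B M N (b ⊗ₜ Ext.mk₀ φ) =
      b • Ext.mk₀ (ModuleCat.ofHom (φ.hom.baseChange B)) := by
  have h1 : Ext.linearEquiv₀ (R := A) (Ext.mk₀ φ) = φ := by
    have : Ext.mk₀ φ = (Ext.linearEquiv₀ (R := A)).symm φ := rfl
    rw [this, LinearEquiv.apply_symm_apply]
  simp only [ext0BaseChange, LinearEquiv.trans_apply, LinearEquiv.baseChange_tmul, h1,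
    IsBaseChange.equiv_tmul]
  rw [map_smul, map_smul]
  rfl

variable (M' : Type u) [AddCommGroup M'] [Module A M'] [Module.FinitePresentation A M']

theorem ext0BaseChange_natural (u : M' →ₗ[A] M)
    (z : B ⊗[A] Ext (ModuleCat.of A M) (ModuleCat.of A N) 0) :
    ext0BaseChange A B M' N
      (((Ext.mk₀ (ModuleCat.ofHom u)).precompOfLinear A (ModuleCat.of A N)
        (zero_add 0)).baseChange B z) =
    (Ext.mk₀ (ModuleCat.ofHom (u.baseChange B))).precompOfLinear B
      (ModuleCat.of B (B ⊗[A] N)) (zero_add 0) (ext0BaseChange A B M N z) := by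
  induction z using TensorProduct.induction_on with
  | zero => simp
  | add x y hx hy => rw [map_add, map_add, map_add, map_add, hx, hy]
  | tmul b x =>
    obtain ⟨φ, rfl⟩ : ∃ φ : ModuleCat.of A M ⟶ ModuleCat.of A N, Ext.mk₀ φ = x :=
      ⟨Ext.linearEquiv₀ (R := A) x, Ext.mk₀_linearEquiv₀_apply x⟩
    rw [LinearMap.baseChange_tmul, ext0BaseChange_tmul]
    show ext0BaseChange A B M' N (b ⊗ₜ (Ext.mk₀ (ModuleCat.ofHom u)).comp (Ext.mk₀ φ) (zero_add 0)) =
      (Ext.mk₀ (ModuleCat.ofHom (u.baseChange B))).comp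
        (b • Ext.mk₀ (ModuleCat.ofHom (φ.hom.baseChange B))) (zero_add 0)
    rw [Ext.mk₀_comp_mk₀, ext0BaseChange_tmul, Ext.comp_smul, Ext.mk₀_comp_mk₀]
    congr 2
    rw [← ModuleCat.ofHom_comp, ← LinearMap.baseChange_comp]
end Deg0

section Shift
variable {R : Type u} [CommRing R] {S : ShortComplex (ModuleCat.{u} R)} (hS : S.ShortExact)
  (hproj : Projective S.X₂) (Y : ModuleCat.{u} R)

include hproj in
theorem precomp_extClass_bijective (r : ℕ) (hr : 1 ≤ r) :
    Function.Bijective (hS.extClass.precompOfLinear R Y (add_comm 1 r)) := by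
  obtain ⟨k, rfl⟩ : ∃ k, r = k + 1 := ⟨r - 1, by omega⟩
  constructor
  · rw [injective_iff_map_eq_zero]
    intro x hx
    obtain ⟨x₂, rfl⟩ := Ext.contravariant_sequence_exact₁ hS Y x (add_comm 1 (k + 1)) hx
    rw [Ext.eq_zero_of_projective x₂, Ext.comp_zero]
  · intro x₃
    exact Ext.contravariant_sequence_exact₃ hS Y x₃ (Ext.eq_zero_of_projective _)
      (add_comm 1 (k + 1))

include hproj in
theorem precomp_extClass_surjective_zero :
    Function.Surjective (hS.extClass.precompOfLinear R Y (add_zero 1)) := by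
  intro x₃
  exact Ext.contravariant_sequence_exact₃ hS Y x₃ (Ext.eq_zero_of_projective _) (add_zero 1)

theorem precomp_exact_zero :
    Function.Exact ((Ext.mk₀ S.f).precompOfLinear R Y (zero_add 0))
      (hS.extClass.precompOfLinear R Y (add_zero 1)) := by
  intro x
  constructor
  · intro hx
    obtain ⟨x₂, hx₂⟩ := Ext.contravariant_sequence_exact₁ hS Y x (add_zero 1) hx
    exact ⟨x₂, hx₂⟩
  · rintro ⟨x₂, rfl⟩
    exact hS.extClass_comp_assoc (h := add_zero 1) x₂

end Shift

section Main
variable (A B : Type u) [CommRing A] [CommRing B] [Algebra A B] [Module.Flat A B]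
  [IsNoetherianRing A] (N : Type u) [AddCommGroup N] [Module A N]

/-- The base change of a short exact sequence `0 → ker f → F → M → 0`. -/
theorem shortExact_baseChange {F M : Type u} [AddCommGroup F] [Module A F] [AddCommGroup M]
    [Module A M] (f : F →ₗ[A] M) (hf : Function.Surjective f) :
    ∃ (h0 : f.baseChange B ∘ₗ (LinearMap.ker f).subtype.baseChange B = 0)
      (h0' : f ∘ₗ (LinearMap.ker f).subtype = 0),
      (ModuleCat.shortComplexOfCompEqZero ((LinearMap.ker f).subtype.baseChange B)
        (f.baseChange B) h0).ShortExact ∧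
      (ModuleCat.shortComplexOfCompEqZero (LinearMap.ker f).subtype f h0').ShortExact := by
  have hex : Function.Exact (LinearMap.ker f).subtype f := LinearMap.exact_subtype_ker_map f
  have hexB : Function.Exact ((LinearMap.ker f).subtype.baseChange B) (f.baseChange B) := by
    rw [LinearMap.baseChange_eq_ltensor, LinearMap.baseChange_eq_ltensor]
    exact lTensor_exact B hex hf
  have hinjB : Function.Injective ((LinearMap.ker f).subtype.baseChange B) := by
    rw [LinearMap.baseChange_eq_ltensor]
    exact Module.Flat.lTensor_preserves_injective_linearMap _ (Submodule.injective_subtype _)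
  have hsurjB : Function.Surjective (f.baseChange B) := by
    rw [LinearMap.baseChange_eq_ltensor]
    exact LinearMap.lTensor_surjective B hf
  exact ⟨hexB.linearMap_comp_eq_zero, hex.linearMap_comp_eq_zero,
    ModuleCat.shortComplex_shortExact _ hexB hinjB hsurjB,
    ModuleCat.shortComplex_shortExact _ hex (Submodule.injective_subtype _) hf⟩

theorem ext_baseChange_one (M : Type u) [AddCommGroup M] [Module A M] [Module.Finite A M] :
    Nonempty ((B ⊗[A] Ext (ModuleCat.of A M) (ModuleCat.of A N) 1) ≃ₗ[B]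
      Ext (ModuleCat.of B (B ⊗[A] M)) (ModuleCat.of B (B ⊗[A] N)) 1) := by
  obtain ⟨n, f, hf⟩ := Module.Finite.exists_fin' A M
  obtain ⟨h0, h0', hSB, hSA⟩ := shortExact_baseChange A B f hf
  haveI : Module.FinitePresentation A (LinearMap.ker f) :=
    Module.finitePresentation_of_finite A _
  haveI : Module.FinitePresentation A (Fin n → A) := Module.finitePresentation_of_finite A _
  have hprojA : Projective (ModuleCat.shortComplexOfCompEqZero (LinearMap.ker f).subtype f h0').X₂ := by
    show Projective (ModuleCat.of A (Fin n → A))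
    exact (IsProjective.iff_projective (R := A) (P := (Fin n → A))).mp inferInstance
  have hprojB : Projective (ModuleCat.shortComplexOfCompEqZero
      ((LinearMap.ker f).subtype.baseChange B) (f.baseChange B) h0).X₂ := by
    show Projective (ModuleCat.of B (B ⊗[A] (Fin n → A)))
    exact (IsProjective.iff_projective (R := B) (P := (B ⊗[A] (Fin n → A)))).mp inferInstance
  refine nonempty_linearEquiv_of_exact
    (((Ext.mk₀ (ModuleCat.ofHom (LinearMap.ker f).subtype)).precompOfLinear A (ModuleCat.of A N)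
      (zero_add 0)).baseChange B)
    ((hSA.extClass.precompOfLinear A (ModuleCat.of A N) (add_zero 1)).baseChange B)
    ((Ext.mk₀ (ModuleCat.ofHom ((LinearMap.ker f).subtype.baseChange B))).precompOfLinear B
      (ModuleCat.of B (B ⊗[A] N)) (zero_add 0))
    (hSB.extClass.precompOfLinear B (ModuleCat.of B (B ⊗[A] N)) (add_zero 1))
    ?_ ?_ ?_ ?_ (ext0BaseChange A B (Fin n → A) N) (ext0BaseChange A B (LinearMap.ker f) N) ?_
  · rw [LinearMap.baseChange_eq_ltensor, LinearMap.baseChange_eq_ltensor]
    exact lTensor_exact B (precomp_exact_zero hSA (ModuleCat.of A N))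
      (precomp_extClass_surjective_zero hSA hprojA (ModuleCat.of A N))
  · rw [LinearMap.baseChange_eq_ltensor]
    exact LinearMap.lTensor_surjective B
      (precomp_extClass_surjective_zero hSA hprojA (ModuleCat.of A N))
  · exact precomp_exact_zero hSB (ModuleCat.of B (B ⊗[A] N))
  · exact precomp_extClass_surjective_zero hSB hprojB (ModuleCat.of B (B ⊗[A] N))
  · intro z
    exact ext0BaseChange_natural A B (Fin n → A) N (LinearMap.ker f) (LinearMap.ker f).subtype z

theorem ext_baseChange_succ (r : ℕ) :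
    ∀ (M : Type u) [AddCommGroup M] [Module A M] [Module.Finite A M],
    Nonempty ((B ⊗[A] Ext (ModuleCat.of A M) (ModuleCat.of A N) (r + 1)) ≃ₗ[B]
      Ext (ModuleCat.of B (B ⊗[A] M)) (ModuleCat.of B (B ⊗[A] N)) (r + 1)) := by
  induction r with
  | zero => intro M _ _ _; exact ext_baseChange_one A B N M
  | succ r ih =>
    intro M _ _ _
    obtain ⟨n, f, hf⟩ := Module.Finite.exists_fin' A M
    obtain ⟨h0, h0', hSB, hSA⟩ := shortExact_baseChange A B f hf
    have hprojA : Projective
        (ModuleCat.shortComplexOfCompEqZero (LinearMap.ker f).subtype f h0').X₂ := by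
      show Projective (ModuleCat.of A (Fin n → A))
      exact (IsProjective.iff_projective (R := A) (P := (Fin n → A))).mp inferInstance
    have hprojB : Projective (ModuleCat.shortComplexOfCompEqZero
        ((LinearMap.ker f).subtype.baseChange B) (f.baseChange B) h0).X₂ := by
      show Projective (ModuleCat.of B (B ⊗[A] (Fin n → A)))
      exact (IsProjective.iff_projective (R := B) (P := (B ⊗[A] (Fin n → A)))).mp inferInstance
    obtain ⟨eK⟩ := ih (LinearMap.ker f)
    let eA := LinearEquiv.ofBijective _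
      (precomp_extClass_bijective hSA hprojA (ModuleCat.of A N) (r + 1) (by omega))
    let eB := LinearEquiv.ofBijective _
      (precomp_extClass_bijective hSB hprojB (ModuleCat.of B (B ⊗[A] N)) (r + 1) (by omega))
    exact ⟨((LinearEquiv.baseChange A B _ _ eA).symm.trans eK).trans eB⟩

theorem ext_baseChange (M : Type u) [AddCommGroup M] [Module A M] [Module.Finite A M] (r : ℕ) :
    Nonempty ((B ⊗[A] Ext (ModuleCat.of A M) (ModuleCat.of A N) r) ≃ₗ[B]
      Ext (ModuleCat.of B (B ⊗[A] M)) (ModuleCat.of B (B ⊗[A] N)) r) := by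
  rcases r with _ | r
  · haveI : Module.FinitePresentation A M := Module.finitePresentation_of_finite A M
    exact ⟨ext0BaseChange A B M N⟩
  · exact ext_baseChange_succ A B N r M

end Main

end Groth.Agent.H29
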