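import Mathlib.Algebra.Category.ModuleCat.InjectiveDimension
import Mathlib.Algebra.Category.ModuleCat.ProjectiveDimension
import Mathlib.Algebra.Homology.DerivedCategory.Ext.ExactSequences
import Mathlib.Algebra.Category.ModuleCat.Ext.HasExt
import Mathlib.Algebra.Module.Injective

/-!
# Global dimension via cyclic modules (Auslander)

* `injective_of_forall_subsingleton_ext_one`: Baer's criterion in `Ext¹` form.
* `hasInjectiveDimensionLT_of_forall_subsingleton_ext`: `Ext^{n+1}(A/I, N) = 0` for all `I`
  implies `id N ≤ n`.
* `hasProjectiveDimensionLT_of_forall_cyclic`: if all cyclic modules have `pd ≤ n`, then so does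
  every module.
-/

set_option autoImplicit false
set_option linter.style.haveILetI false
universe u

open CategoryTheory Abelian

namespace Groth.Agent.H29

variable (A : Type u) [CommRing A]

/-- Baer's criterion in `Ext¹` form. -/
theorem injective_of_forall_subsingleton_ext_one (N : ModuleCat.{u} A)
    (h : ∀ I : Ideal A, Subsingleton (Ext (ModuleCat.of A (A ⧸ I)) N 1)) : Injective N := by
  have hB : Module.Baer A N := by
    intro I g
    have hS := LinearMap.shortExact_shortComplexKer (Submodule.mkQ_surjective I)
    set S := (Submodule.mkQ I).shortComplexKer with hSdef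
    have hker : LinearMap.ker (Submodule.mkQ I) = I := Submodule.ker_mkQ I
    let g₁ : LinearMap.ker (Submodule.mkQ I) →ₗ[A] N :=
      g.comp (LinearEquiv.ofEq _ _ hker).toLinearMap
    let x₁ : Ext S.X₁ N 0 := Ext.mk₀ (ModuleCat.ofHom g₁)
    have hzero : hS.extClass.comp x₁ (add_zero 1) = 0 := by
      haveI := h I
      exact Subsingleton.elim _ _
    obtain ⟨x₂, hx₂⟩ := Ext.contravariant_sequence_exact₁ hS N x₁ (add_zero 1) hzero
    obtain ⟨g₂, rfl⟩ := (Ext.mk₀_bijective S.X₂ N).2 x₂
    rw [Ext.mk₀_comp_mk₀, (Ext.mk₀_bijective _ _).1.eq_iff] at hx₂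
    refine ⟨g₂.hom, fun x mem => ?_⟩
    have := congrArg (fun f => f.hom ⟨x, by rw [hker]; exact mem⟩) hx₂
    simp only [S, g₁] at this
    exact this
  have : Module.Injective A N := hB.injective
  exact Module.injective_object_of_injective_module A N

/-- If `Ext^{n+1}(A/I, N) = 0` for every ideal `I`, then `N` has injective dimension `≤ n`. -/
theorem hasInjectiveDimensionLT_of_forall_subsingleton_ext (n : ℕ) :
    ∀ (N : ModuleCat.{u} A),
      (∀ I : Ideal A, Subsingleton (Ext (ModuleCat.of A (A ⧸ I)) N (n + 1))) →
      HasInjectiveDimensionLT N (n + 1) := by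
  induction n with
  | zero =>
    intro N h
    haveI := injective_of_forall_subsingleton_ext_one A N h
    infer_instance
  | succ n ih =>
    intro N h
    let ⟨p⟩ := EnoughInjectives.presentation N
    have hS : (ShortComplex.mk _ _ (Limits.cokernel.condition p.f)).ShortExact :=
      { exact := ShortComplex.exact_cokernel p.f }
    have hC : ∀ I : Ideal A, Subsingleton
        (Ext (ModuleCat.of A (A ⧸ I)) (Limits.cokernel p.f) (n + 1)) := by
      intro I
      refine ⟨fun a b => ?_⟩
      have key : ∀ x₃ : Ext (ModuleCat.of A (A ⧸ I)) (Limits.cokernel p.f) (n + 1), x₃ = 0 := by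
        intro x₃
        have hzero : x₃.comp hS.extClass (rfl : n + 1 + 1 = n + 1 + 1) = 0 := by
          haveI := h I
          exact Subsingleton.elim _ _
        obtain ⟨x₂, hx₂⟩ := Ext.covariant_sequence_exact₃ _ hS x₃ rfl hzero
        have : x₂ = 0 := Ext.eq_zero_of_injective x₂
        rw [this, Ext.zero_comp] at hx₂
        exact hx₂.symm
      rw [key a, key b]
    have := ih _ hC
    exact (hS.hasInjectiveDimensionLT_X₃_iff n p.injective).mp this

/-- If every cyclic module has projective dimension `≤ n`, then so does every module. -/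
theorem hasProjectiveDimensionLT_of_forall_cyclic (n : ℕ)
    (h : ∀ I : Ideal A, HasProjectiveDimensionLT (ModuleCat.of A (A ⧸ I)) (n + 1))
    (M : ModuleCat.{u} A) : HasProjectiveDimensionLT M (n + 1) := by
  rw [hasProjectiveDimensionLT_iff]
  intro i hi Y e
  have hY : HasInjectiveDimensionLT Y (n + 1) :=
    hasInjectiveDimensionLT_of_forall_subsingleton_ext A n Y
      (fun I => by
        haveI := h I
        exact HasProjectiveDimensionLT.subsingleton _ (n + 1) (n + 1) le_rfl Y)
  exact e.eq_zero_of_hasInjectiveDimensionLT (n + 1) hi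

end Groth.Agent.H29
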