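import Mathlib

set_option autoImplicit false

namespace Groth.Agent.H29

open TensorProduct

section
variable {k : Type*} [Field k] {V N : Type*} [AddCommGroup V] [Module k V]
  [AddCommGroup N] [Module k N]

/-- Membership in `K ⊗ N ⊆ V ⊗ N` can be tested on the coefficients with respect to a basis
of `N`. -/
lemma mem_range_rTensor_subtype_iff (K : Submodule k V) {κ : Type*} [DecidableEq κ]
    (b : Module.Basis κ k N) (x : V ⊗[k] N) :
    x ∈ LinearMap.range (K.subtype.rTensor N) ↔
      ∀ j, TensorProduct.equivFinsuppOfBasisRight b x j ∈ K := by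
  constructor
  · rintro ⟨y, rfl⟩ j
    induction y using TensorProduct.induction_on with
    | zero => simp
    | tmul w n =>
      rw [LinearMap.rTensor_tmul, TensorProduct.equivFinsuppOfBasisRight_apply_tmul_apply]
      exact K.smul_mem _ w.2
    | add y₁ y₂ h₁ h₂ =>
      rw [map_add, map_add, Finsupp.add_apply]
      exact K.add_mem h₁ h₂
  · intro h
    have hx : x = (TensorProduct.equivFinsuppOfBasisRight b).symm
        (TensorProduct.equivFinsuppOfBasisRight b x) := (LinearEquiv.symm_apply_apply _ _).symm
    rw [hx, TensorProduct.equivFinsuppOfBasisRight_symm_apply]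
    unfold Finsupp.sum
    refine Submodule.sum_mem _ fun j _ => ?_
    exact ⟨(⟨TensorProduct.equivFinsuppOfBasisRight b x j, h j⟩ : K) ⊗ₜ[k] b j, by simp⟩

/-- `K ⊗ N` is the kernel of `V ⊗ N → (V/K) ⊗ N`. -/
lemma mem_range_rTensor_subtype_iff_mkQ (K : Submodule k V) (x : V ⊗[k] N) :
    x ∈ LinearMap.range (K.subtype.rTensor N) ↔ K.mkQ.rTensor N x = 0 := by
  have hex : Function.Exact K.subtype K.mkQ := LinearMap.exact_subtype_mkQ K
  have hexN := rTensor_exact N hex (Submodule.mkQ_surjective K)
  rw [LinearMap.mem_range]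
  exact (hexN x).symm

end

end Groth.Agent.H29
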