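import Groth.Prelude.Def_HopfRep
import Groth.Prelude.Def_Hoch
import Groth.Agent.H29.TensorSub
import Mathlib

set_option autoImplicit false

namespace Groth.Agent.H29

open TensorProduct

section RAct

variable {k : Type*} [Field k] {C : Type*} [AddCommGroup C] [Module k C]

/-- `v ⊗ c ↦ φ c • v`. -/
noncomputable def rAct (V : Type*) [AddCommGroup V] [Module k V] (φ : C →ₗ[k] k) :
    V ⊗[k] C →ₗ[k] V :=
  (TensorProduct.rid k V).toLinearMap ∘ₗ φ.lTensor V

@[simp] lemma rAct_tmul {V : Type*} [AddCommGroup V] [Module k V] (φ : C →ₗ[k] k) (v : V) (c : C) :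
    rAct V φ (v ⊗ₜ[k] c) = φ c • v := by
  simp [rAct]

lemma rAct_natural {V W : Type*} [AddCommGroup V] [Module k V] [AddCommGroup W] [Module k W]
    (φ : C →ₗ[k] k) (g : V →ₗ[k] W) (z : V ⊗[k] C) :
    g (rAct V φ z) = rAct W φ (g.rTensor C z) := by
  induction z using TensorProduct.induction_on with
  | zero => simp
  | tmul v c => simp
  | add z₁ z₂ h₁ h₂ => simp only [map_add, h₁, h₂]

lemma rAct_add {V : Type*} [AddCommGroup V] [Module k V] (φ ψ : C →ₗ[k] k) (z : V ⊗[k] C) : rAct V (φ + ψ) z = rAct V φ z + rAct V ψ z := by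
  induction z using TensorProduct.induction_on with
  | zero => simp
  | tmul v c => simp [add_smul]
  | add z₁ z₂ h₁ h₂ => simp only [map_add, h₁, h₂]; abel

lemma rAct_smul {V : Type*} [AddCommGroup V] [Module k V] (a : k) (φ : C →ₗ[k] k) (z : V ⊗[k] C) : rAct V (a • φ) z = a • rAct V φ z := by
  induction z using TensorProduct.induction_on with
  | zero => simp
  | tmul v c => simp [mul_smul]
  | add z₁ z₂ h₁ h₂ => simp only [map_add, h₁, h₂, smul_add]

lemma rAct_zero {V : Type*} [AddCommGroup V] [Module k V] (z : V ⊗[k] C) : rAct V (0 : C →ₗ[k] k) z = 0 := by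
  induction z using TensorProduct.induction_on with
  | zero => simp
  | tmul v c => simp
  | add z₁ z₂ h₁ h₂ => simp only [map_add, h₁, h₂, add_zero]

lemma rAct_rAct_assoc {V : Type*} [AddCommGroup V] [Module k V] (φ ψ : C →ₗ[k] k) (v : V) (y : C ⊗[k] C) :
    rAct V φ (rAct (V ⊗[k] C) ψ ((TensorProduct.assoc k V C C).symm (v ⊗ₜ[k] y))) =
      (LinearMap.mul' k k (TensorProduct.map φ ψ y)) • v := by
  induction y using TensorProduct.induction_on with
  | zero => simp
  | tmul c₁ c₂ => simp [smul_smul, mul_comm]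
  | add y₁ y₂ h₁ h₂ => simp only [TensorProduct.tmul_add, map_add, h₁, h₂, add_smul]

lemma rAct_swap {V D : Type*} [AddCommGroup V] [Module k V] [AddCommGroup D] [Module k D]
    (φ : C →ₗ[k] k) (X : (V ⊗[k] D) ⊗[k] C) :
    (rAct V φ).rTensor D ((TensorProduct.assoc k V C D).symm
      ((TensorProduct.comm k D C).toLinearMap.lTensor V (TensorProduct.assoc k V D C X))) =
      rAct (V ⊗[k] D) φ X := by
  induction X using TensorProduct.induction_on with
  | zero => simp
  | tmul z c =>
    induction z using TensorProduct.induction_on with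
    | zero => simp
    | tmul v d => simp [TensorProduct.smul_tmul']
    | add z₁ z₂ h₁ h₂ => simp only [TensorProduct.add_tmul, map_add, h₁, h₂]
  | add X₁ X₂ h₁ h₂ => simp only [map_add, h₁, h₂]

end RAct

section Dual

variable {k : Type*} [Field k] {C : Type*} [AddCommGroup C] [Module k C] [Coalgebra k C]
variable {V : Type*} [AddCommGroup V] [Module k V] [HopfRep.Comod k C V]

/-- `(id ⊗ φ) ∘ ρ`. -/
noncomputable def dualAct (φ : C →ₗ[k] k) : V →ₗ[k] V :=
  rAct V φ ∘ₗ HopfRep.Comod.coact (k := k) (A := C)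

lemma dualAct_apply (φ : C →ₗ[k] k) (v : V) :
    dualAct φ v = rAct V φ (HopfRep.Comod.coact (k := k) (A := C) v) := rfl

lemma dualAct_counit (v : V) : dualAct (Coalgebra.counit (R := k) (A := C)) v = v := by
  have h := LinearMap.congr_fun (HopfRep.Comod.counit_comp (k := k) (A := C) (V := V)) v
  simp only [LinearMap.comp_apply] at h
  rw [dualAct_apply, rAct, LinearMap.comp_apply, h]
  simp

omit [HopfRep.Comod k C V] in
lemma rAct_rAct_comul (φ ψ : WithConv (C →ₗ[k] k)) (x : V ⊗[k] C) :
    rAct V φ.ofConv (rAct (V ⊗[k] C) ψ.ofConv ((TensorProduct.assoc k V C C).symm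
      ((Coalgebra.comul (R := k) (A := C)).lTensor V x))) = rAct V (φ * ψ).ofConv x := by
  induction x using TensorProduct.induction_on with
  | zero => simp
  | tmul v c =>
    rw [LinearMap.lTensor_tmul, rAct_rAct_assoc, rAct_tmul]
    rfl
  | add x₁ x₂ h₁ h₂ => simp only [map_add, h₁, h₂]

lemma dualAct_mul (φ ψ : WithConv (C →ₗ[k] k)) (v : V) :
    dualAct (φ * ψ).ofConv v = dualAct φ.ofConv (dualAct ψ.ofConv v) := by
  have hco := LinearMap.congr_fun (HopfRep.Comod.coassoc (k := k) (A := C) (V := V)) v
  simp only [LinearMap.comp_apply, LinearEquiv.coe_coe] at hco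
  rw [dualAct_apply, dualAct_apply, dualAct_apply, rAct_natural, ← rAct_rAct_comul, ← hco,
    LinearEquiv.symm_apply_apply]

lemma one_ofConv_eq_counit :
    (1 : WithConv (C →ₗ[k] k)).ofConv = Coalgebra.counit (R := k) (A := C) := by
  ext c
  simp [LinearMap.convOne_def]

variable (k C V) in
/-- The module structure of a right `C`-comodule over the dual (convolution) algebra of `C`. -/
@[reducible] noncomputable def dualModule : Module (WithConv (C →ₗ[k] k)) V where
  smul φ v := dualAct φ.ofConv v
  one_smul v := by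
    show dualAct (1 : WithConv (C →ₗ[k] k)).ofConv v = v
    rw [one_ofConv_eq_counit]
    exact dualAct_counit v
  mul_smul φ ψ v := dualAct_mul φ ψ v
  smul_zero φ := map_zero _
  smul_add φ v w := map_add _ _ _
  add_smul φ ψ v := rAct_add _ _ _
  zero_smul v := rAct_zero _

lemma dualAct_smul_counit (a : k) (v : V) :
    dualAct (a • Coalgebra.counit (R := k) (A := C)) v = a • v := by
  rw [dualAct_apply, rAct_smul, ← dualAct_apply, dualAct_counit]

/-- subcomodules are the subspaces stable under the dual algebra -/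
lemma isSubcomod_iff (W : Submodule k V) :
    HopfRep.IsSubcomod (k := k) (A := C) W ↔ ∀ φ : C →ₗ[k] k, ∀ w ∈ W, dualAct φ w ∈ W := by
  classical
  constructor
  · intro h φ w hw
    obtain ⟨x, hx⟩ := h w hw
    rw [dualAct_apply, ← hx, ← rAct_natural]
    exact (rAct W φ x).2
  · intro h w hw
    rw [mem_range_rTensor_subtype_iff W (Module.Free.chooseBasis k C)]
    intro j
    rw [TensorProduct.equivFinsuppOfBasisRight_apply]
    exact h ((Module.Free.chooseBasis k C).coord j) w hw

/-- comodule maps are the maps commuting with the dual algebra -/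
lemma isComodHom_iff {W : Type*} [AddCommGroup W] [Module k W] [HopfRep.Comod k C W]
    (f : V →ₗ[k] W) :
    Hoch.IsComodHom C f ↔ ∀ (φ : C →ₗ[k] k) (v : V), f (dualAct φ v) = dualAct φ (f v) := by
  classical
  constructor
  · intro hf φ v
    have h1 := LinearMap.congr_fun hf v
    simp only [LinearMap.comp_apply] at h1
    rw [dualAct_apply, dualAct_apply, rAct_natural, h1]
  · intro h
    apply LinearMap.ext
    intro v
    simp only [LinearMap.comp_apply]
    apply (TensorProduct.equivFinsuppOfBasisRight (Module.Free.chooseBasis k C)).injective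
    ext j
    rw [TensorProduct.equivFinsuppOfBasisRight_apply, TensorProduct.equivFinsuppOfBasisRight_apply]
    have h2 := h ((Module.Free.chooseBasis k C).coord j) v
    rw [dualAct_apply, dualAct_apply, rAct_natural] at h2
    exact h2.symm

lemma isComodHom_comp {W U : Type*} [AddCommGroup W] [Module k W] [HopfRep.Comod k C W]
    [AddCommGroup U] [Module k U] [HopfRep.Comod k C U] (f : V →ₗ[k] W) (g : W →ₗ[k] U)
    (hf : Hoch.IsComodHom C f) (hg : Hoch.IsComodHom C g) : Hoch.IsComodHom C (g ∘ₗ f) := by
  unfold Hoch.IsComodHom at hf hg ⊢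
  rw [← LinearMap.comp_assoc, hg, LinearMap.comp_assoc, hf, ← LinearMap.comp_assoc,
    LinearMap.rTensor_comp]

end Dual

section Transfer

variable (k : Type*) [Field k] (C : Type*) [AddCommGroup C] [Module k C] [Coalgebra k C]
variable (V : Type*) [AddCommGroup V] [Module k V] [HopfRep.Comod k C V]

/-- The dual algebra of the coalgebra `C`. -/
abbrev DualAlg : Type _ := WithConv (C →ₗ[k] k)

attribute [local instance] dualModule

lemma dual_smul_def (φ : DualAlg k C) (v : V) : φ • v = dualAct φ.ofConv v := rfl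

variable {k C V}

/-- The `C^*`-submodule given by a subcomodule. -/
noncomputable def toDualSub (W : Submodule k V) (hW : HopfRep.IsSubcomod (k := k) (A := C) W) :
    Submodule (DualAlg k C) V where
  carrier := W
  add_mem' := W.add_mem
  zero_mem' := W.zero_mem
  smul_mem' := fun φ w hw => (isSubcomod_iff W).mp hW φ.ofConv w hw

/-- The `k`-subspace underlying a `C^*`-submodule. -/
noncomputable def ofDualSub (N : Submodule (DualAlg k C) V) : Submodule k V where
  carrier := N
  add_mem' := N.add_mem
  zero_mem' := N.zero_mem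
  smul_mem' := fun a v hv => by
    have h := N.smul_mem (WithConv.toConv (a • Coalgebra.counit (R := k) (A := C))) hv
    rwa [dual_smul_def, WithConv.ofConv_toConv, dualAct_smul_counit] at h

@[simp] lemma mem_toDualSub (W : Submodule k V) (hW : HopfRep.IsSubcomod (k := k) (A := C) W)
    (v : V) : v ∈ toDualSub W hW ↔ v ∈ W := Iff.rfl

@[simp] lemma mem_ofDualSub (N : Submodule (DualAlg k C) V) (v : V) :
    v ∈ ofDualSub N ↔ v ∈ N := Iff.rfl

lemma isSubcomod_ofDualSub (N : Submodule (DualAlg k C) V) :
    HopfRep.IsSubcomod (k := k) (A := C) (ofDualSub N) := by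
  rw [isSubcomod_iff]
  intro φ w hw
  exact N.smul_mem (WithConv.toConv φ) hw

lemma ofDualSub_toDualSub (W : Submodule k V) (hW : HopfRep.IsSubcomod (k := k) (A := C) W) :
    ofDualSub (toDualSub W hW) = W := by
  ext v
  simp

lemma toDualSub_ofDualSub (N : Submodule (DualAlg k C) V) :
    toDualSub (ofDualSub N) (isSubcomod_ofDualSub N) = N := by
  ext v
  simp

lemma ofDualSub_le_iff (N N' : Submodule (DualAlg k C) V) :
    ofDualSub N ≤ ofDualSub N' ↔ N ≤ N' := Iff.rfl

lemma ofDualSub_bot : ofDualSub (⊥ : Submodule (DualAlg k C) V) = ⊥ := by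
  ext v
  simp

lemma ofDualSub_top : ofDualSub (⊤ : Submodule (DualAlg k C) V) = ⊤ := by
  ext v
  simp

lemma ofDualSub_injective : Function.Injective (ofDualSub (k := k) (C := C) (V := V)) := by
  intro N N' h
  ext v
  rw [← mem_ofDualSub, h, mem_ofDualSub]

lemma ofDualSub_inf (N N' : Submodule (DualAlg k C) V) :
    ofDualSub (N ⊓ N') = ofDualSub N ⊓ ofDualSub N' := by
  ext v
  simp

lemma ofDualSub_sup (N N' : Submodule (DualAlg k C) V) :
    ofDualSub (N ⊔ N') = ofDualSub N ⊔ ofDualSub N' := by
  ext v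
  simp only [mem_ofDualSub, Submodule.mem_sup]

lemma isCompl_ofDualSub_iff (N N' : Submodule (DualAlg k C) V) :
    IsCompl (ofDualSub N) (ofDualSub N') ↔ IsCompl N N' := by
  rw [isCompl_iff, isCompl_iff, disjoint_iff, disjoint_iff, codisjoint_iff, codisjoint_iff,
    ← ofDualSub_inf, ← ofDualSub_sup, ← ofDualSub_bot (k := k) (C := C) (V := V),
    ← ofDualSub_top (k := k) (C := C) (V := V),
    (ofDualSub_injective (k := k) (C := C) (V := V)).eq_iff,
    (ofDualSub_injective (k := k) (C := C) (V := V)).eq_iff]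

variable (k C V)

theorem isSimpleModule_of_isSimpleComod (h : HopfRep.IsSimpleComod k C V) :
    IsSimpleModule (DualAlg k C) V := by
  obtain ⟨hnt, hs⟩ := h
  have hnt' : Nontrivial (Submodule (DualAlg k C) V) := (Submodule.nontrivial_iff _).mpr hnt
  rw [isSimpleModule_iff]
  refine { eq_bot_or_eq_top := fun N => ?_ }
  rcases hs (ofDualSub N) (isSubcomod_ofDualSub N) with h | h
  · left
    apply ofDualSub_injective
    rw [h, ofDualSub_bot]
  · right
    apply ofDualSub_injective
    rw [h, ofDualSub_top]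

theorem isSimpleComod_of_isSimpleModule (h : IsSimpleModule (DualAlg k C) V) :
    HopfRep.IsSimpleComod k C V := by
  refine ⟨?_, fun W hW => ?_⟩
  · by_contra hnt
    rw [not_nontrivial_iff_subsingleton] at hnt
    have : (⊥ : Submodule (DualAlg k C) V) = ⊤ := by
      ext v
      simp [Subsingleton.elim v 0]
    exact bot_ne_top this
  · rcases eq_bot_or_eq_top (toDualSub W hW) with h' | h'
    · left
      rw [← ofDualSub_toDualSub W hW, h', ofDualSub_bot]
    · right
      rw [← ofDualSub_toDualSub W hW, h', ofDualSub_top]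

theorem isSemisimpleModule_of_isSemisimpleComod (h : HopfRep.IsSemisimpleComod k C V) :
    IsSemisimpleModule (DualAlg k C) V := by
  rw [isSemisimpleModule_iff]
  refine ⟨fun N => ?_⟩
  obtain ⟨W', hW', hc⟩ := h (ofDualSub N) (isSubcomod_ofDualSub N)
  refine ⟨toDualSub W' hW', ?_⟩
  rw [← isCompl_ofDualSub_iff, ofDualSub_toDualSub]
  exact hc

theorem isSemisimpleComod_of_isSemisimpleModule (h : IsSemisimpleModule (DualAlg k C) V) :
    HopfRep.IsSemisimpleComod k C V := by
  intro W hW
  obtain ⟨N', hN'⟩ := exists_isCompl (toDualSub W hW)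
  refine ⟨ofDualSub N', isSubcomod_ofDualSub N', ?_⟩
  rw [← isCompl_ofDualSub_iff, ofDualSub_toDualSub] at hN'
  exact hN'

variable {k C V}

/-- A comodule map is linear over the dual algebra. -/
noncomputable def toDualHom {W : Type*} [AddCommGroup W] [Module k W] [HopfRep.Comod k C W]
    (f : V →ₗ[k] W) (hf : Hoch.IsComodHom C f) : V →ₗ[DualAlg k C] W where
  toFun := f
  map_add' := f.map_add
  map_smul' := fun φ s => (isComodHom_iff f).mp hf φ.ofConv s

@[simp] lemma toDualHom_apply {W : Type*} [AddCommGroup W] [Module k W] [HopfRep.Comod k C W]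
    (f : V →ₗ[k] W) (hf : Hoch.IsComodHom C f) (v : V) : toDualHom f hf v = f v := rfl

/-- A map linear over the dual algebra is `k`-linear. -/
noncomputable def ofDualHom {W : Type*} [AddCommGroup W] [Module k W] [HopfRep.Comod k C W]
    (f : V →ₗ[DualAlg k C] W) : V →ₗ[k] W where
  toFun := f
  map_add' := f.map_add
  map_smul' := fun a v => by
    have h := f.map_smul (WithConv.toConv (a • Coalgebra.counit (R := k) (A := C))) v
    rw [dual_smul_def, dual_smul_def, WithConv.ofConv_toConv, dualAct_smul_counit,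
      dualAct_smul_counit] at h
    exact h

@[simp] lemma ofDualHom_apply {W : Type*} [AddCommGroup W] [Module k W] [HopfRep.Comod k C W]
    (f : V →ₗ[DualAlg k C] W) (v : V) : ofDualHom f v = f v := rfl

lemma isComodHom_ofDualHom {W : Type*} [AddCommGroup W] [Module k W] [HopfRep.Comod k C W]
    (f : V →ₗ[DualAlg k C] W) : Hoch.IsComodHom C (ofDualHom f) := by
  rw [isComodHom_iff]
  intro φ v
  exact f.map_smul (WithConv.toConv φ) v

/-- An equivalence over the dual algebra gives an isomorphism of comodules. -/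
lemma exists_comodIso_of_dualEquiv {W : Type*} [AddCommGroup W] [Module k W] [HopfRep.Comod k C W]
    (e : V ≃ₗ[DualAlg k C] W) : ∃ e' : V ≃ₗ[k] W, Hoch.IsComodHom C (e' : V →ₗ[k] W) := by
  refine ⟨{ ofDualHom e.toLinearMap with
    invFun := e.symm
    left_inv := e.symm_apply_apply
    right_inv := e.apply_symm_apply }, ?_⟩
  exact isComodHom_ofDualHom e.toLinearMap

end Transfer

end Groth.Agent.H29
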