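import Mathlib
import Groth.Prelude.Def_CAlg
import Groth.Agent.H29.DepthLocal

/-!
# Maximal regular sequences (helper29)

* `idealDepth_ne_top` : `depth_I M < ∞` for a finite module over a Noetherian ring with `IM ≠ M`.
* `exists_maximal_isWeaklyRegular_extension`, `length_eq_idealDepth_of_maximal`.
-/

set_option autoImplicit false
set_option linter.style.haveILetI false
universe u v

namespace Groth.Agent.H29

open RingTheory.Sequence
open scoped Pointwise

section

variable {R : Type u} [CommRing R]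

theorem smul_top_quotient_ne_top (I : Ideal R) (M : Type v) [AddCommGroup M] [Module R M]
    (hI : I • (⊤ : Submodule R M) ≠ ⊤) (N : Submodule R M) (hN : N ≤ I • (⊤ : Submodule R M)) :
    I • (⊤ : Submodule R (M ⧸ N)) ≠ ⊤ := by
  intro h
  apply hI
  rw [eq_top_iff]
  intro m _
  have h1 : (Submodule.mkQ N m) ∈ (I • (⊤ : Submodule R M)).map (Submodule.mkQ N) := by
    rw [Submodule.map_smul'', Submodule.map_top, Submodule.range_mkQ]
    rw [h]
    trivial
  obtain ⟨m', hm', hmm'⟩ := h1
  have h2 : m' - m ∈ N := by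
    rw [← Submodule.Quotient.eq]
    exact hmm'
  have h4 : m = m' - (m' - m) := by abel
  rw [h4]
  exact Submodule.sub_mem _ hm' (hN h2)

theorem ofList_smul_top_le (I : Ideal R) (M : Type v) [AddCommGroup M] [Module R M]
    (rs : List R) (hmem : ∀ r ∈ rs, r ∈ I) :
    Ideal.ofList rs • (⊤ : Submodule R M) ≤ I • (⊤ : Submodule R M) :=
  Submodule.smul_mono_left (Ideal.span_le.mpr (fun r hr => hmem r hr))

theorem enat_add_natCast_cancel {a b : ℕ∞} (n : ℕ) (h : a + n = b + n) : a = b :=
  le_antisymm ((ENat.add_le_add_iff_right (ENat.natCast_ne_top n)).mp h.le)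
    ((ENat.add_le_add_iff_right (ENat.natCast_ne_top n)).mp h.ge)

variable [IsNoetherianRing R]

/-- The `I`-depth of a finite module with `IM ≠ M` is finite. -/
theorem idealDepth_ne_top (I : Ideal R) (M : Type u) [AddCommGroup M] [Module R M]
    [Module.Finite R M] (hIM : I • (⊤ : Submodule R M) ≠ ⊤) : LocCoh.idealDepth I M ≠ ⊤ := by
  have hnt : Nontrivial (M ⧸ I • (⊤ : Submodule R M)) :=
    Submodule.Quotient.nontrivial_iff.mpr hIM
  obtain ⟨p, hp⟩ := Module.nonempty_support_of_nontrivial (R := R)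
    (M := M ⧸ I • (⊤ : Submodule R M))
  rw [Module.support_quotient] at hp
  obtain ⟨hpM, hpI⟩ := hp
  have hIp : I ≤ p.asIdeal := (PrimeSpectrum.mem_zeroLocus _ _).mp hpI
  haveI : Nontrivial (LocalizedModule p.asIdeal.primeCompl M) := Module.mem_support_iff.mp hpM
  have h1 := depth_ne_top (Localization.AtPrime p.asIdeal) (LocalizedModule p.asIdeal.primeCompl M)
  intro h
  rw [idealDepth_eq_iInf_depth_localizedModule R I M] at h
  exact h1 (top_le_iff.mp (h ▸ iInf₂_le p hIp))

omit [IsNoetherianRing R] in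
/-- No element of `I` is regular on `N` iff `depth_I N = 0` (for `IN ≠ N`). -/
theorem idealDepth_eq_zero_iff_forall_not_isSMulRegular (I : Ideal R) (N : Type v)
    [AddCommGroup N] [Module R N] (hIN : I • (⊤ : Submodule R N) ≠ ⊤) :
    LocCoh.idealDepth I N = 0 ↔ ∀ r ∈ I, ¬ IsSMulRegular N r := by
  constructor
  · intro h r hr hreg
    have h1 : ((1 : ℕ) : ℕ∞) ≤ LocCoh.idealDepth I N :=
      (le_idealDepth_iff I N hIN 1).mpr ⟨[r], rfl,
        (isWeaklyRegular_cons_iff N r []).mpr ⟨hreg, IsWeaklyRegular.nil R _⟩, by simpa using hr⟩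
    rw [h] at h1
    simp at h1
  · intro h
    by_contra hne
    have h1 : (1 : ℕ∞) ≤ LocCoh.idealDepth I N := Order.one_le_iff_pos.mpr (pos_iff_ne_zero.mpr hne)
    obtain ⟨x, hx, hreg⟩ := exists_isSMulRegular_mem_of_one_le_idealDepth N I hIN h1
    exact h x hx hreg

omit [IsNoetherianRing R] in
theorem isWeaklyRegular_append_singleton_iff (M : Type v) [AddCommGroup M] [Module R M]
    (rs : List R) (r : R) (hrs : IsWeaklyRegular M rs) :
    IsWeaklyRegular M (rs ++ [r]) ↔
      IsSMulRegular (M ⧸ Ideal.ofList rs • (⊤ : Submodule R M)) r := by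
  rw [isWeaklyRegular_append_iff, isWeaklyRegular_cons_iff]
  constructor
  · rintro ⟨-, h, -⟩
    exact h
  · intro h
    exact ⟨hrs, h, IsWeaklyRegular.nil R _⟩

theorem length_eq_idealDepth_of_maximal (I : Ideal R) (M : Type u) [AddCommGroup M] [Module R M]
    [Module.Finite R M] (hIM : I • (⊤ : Submodule R M) ≠ ⊤) (rs : List R)
    (hreg : IsWeaklyRegular M rs) (hmem : ∀ r ∈ rs, r ∈ I)
    (hmax : ∀ r ∈ I, ¬ IsWeaklyRegular M (rs ++ [r])) :
    (rs.length : ℕ∞) = LocCoh.idealDepth I M := by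
  have h1 := idealDepth_quotient_ofList_add_length I rs M hIM hmem hreg
  have hIN := smul_top_quotient_ne_top I M hIM _ (ofList_smul_top_le I M rs hmem)
  have h0 : LocCoh.idealDepth I (M ⧸ Ideal.ofList rs • (⊤ : Submodule R M)) = 0 := by
    rw [idealDepth_eq_zero_iff_forall_not_isSMulRegular I _ hIN]
    intro r hr h
    exact hmax r hr ((isWeaklyRegular_append_singleton_iff M rs r hreg).mpr h)
  rw [h0, zero_add] at h1
  exact h1

theorem exists_maximal_isWeaklyRegular_extension_aux (I : Ideal R) (M : Type u) [AddCommGroup M]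
    [Module R M] [Module.Finite R M] (hIM : I • (⊤ : Submodule R M) ≠ ⊤) (k : ℕ) :
    ∀ rs : List R, IsWeaklyRegular M rs → (∀ r ∈ rs, r ∈ I) →
      LocCoh.idealDepth I (M ⧸ Ideal.ofList rs • (⊤ : Submodule R M)) = k →
      ∃ rs' : List R, rs <+: rs' ∧ IsWeaklyRegular M rs' ∧ (∀ r ∈ rs', r ∈ I) ∧
        ∀ r ∈ I, ¬ IsWeaklyRegular M (rs' ++ [r]) := by
  induction k with
  | zero =>
    intro rs hreg hmem h
    rw [Nat.cast_zero] at h
    have hIN := smul_top_quotient_ne_top I M hIM _ (ofList_smul_top_le I M rs hmem)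
    refine ⟨rs, List.prefix_refl rs, hreg, hmem, fun r hr hw => ?_⟩
    exact (idealDepth_eq_zero_iff_forall_not_isSMulRegular I _ hIN).mp h r hr
      ((isWeaklyRegular_append_singleton_iff M rs r hreg).mp hw)
  | succ k ih =>
    intro rs hreg hmem h
    have hIN := smul_top_quotient_ne_top I M hIM _ (ofList_smul_top_le I M rs hmem)
    obtain ⟨r, hrI, hr⟩ := exists_isSMulRegular_mem_of_one_le_idealDepth _ I hIN
      (by rw [h]; exact_mod_cast Nat.succ_le_succ (Nat.zero_le k))
    have hreg' : IsWeaklyRegular M (rs ++ [r]) :=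
      (isWeaklyRegular_append_singleton_iff M rs r hreg).mpr hr
    have hmem' : ∀ x ∈ rs ++ [r], x ∈ I := by
      intro x hx
      rcases List.mem_append.mp hx with hx | hx
      · exact hmem x hx
      · rw [List.mem_singleton] at hx
        rw [hx]
        exact hrI
    have h1 := idealDepth_quotient_ofList_add_length I rs M hIM hmem hreg
    have h2 := idealDepth_quotient_ofList_add_length I (rs ++ [r]) M hIM hmem' hreg'
    have h3 : LocCoh.idealDepth I (M ⧸ Ideal.ofList (rs ++ [r]) • (⊤ : Submodule R M)) = k := by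
      apply enat_add_natCast_cancel (rs.length + 1)
      rw [List.length_append, List.length_singleton] at h2
      rw [h2, ← h1, h]
      push_cast
      ring
    obtain ⟨rs', hpre, hreg'', hmem'', hmax⟩ := ih (rs ++ [r]) hreg' hmem' h3
    exact ⟨rs', (List.prefix_append rs [r]).trans hpre, hreg'', hmem'', hmax⟩

theorem exists_maximal_isWeaklyRegular_extension (I : Ideal R) (M : Type u) [AddCommGroup M]
    [Module R M] [Module.Finite R M] (hIM : I • (⊤ : Submodule R M) ≠ ⊤) (rs : List R)
    (hreg : IsWeaklyRegular M rs) (hmem : ∀ r ∈ rs, r ∈ I) :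
    ∃ rs' : List R, rs <+: rs' ∧ IsWeaklyRegular M rs' ∧ (∀ r ∈ rs', r ∈ I) ∧
      ∀ r ∈ I, ¬ IsWeaklyRegular M (rs' ++ [r]) := by
  have h1 := idealDepth_quotient_ofList_add_length I rs M hIM hmem hreg
  have hne : LocCoh.idealDepth I (M ⧸ Ideal.ofList rs • (⊤ : Submodule R M)) ≠ ⊤ := by
    intro h
    rw [h, top_add] at h1
    exact idealDepth_ne_top I M hIM h1.symm
  obtain ⟨k, hk⟩ := ENat.ne_top_iff_exists.mp hne
  exact exists_maximal_isWeaklyRegular_extension_aux I M hIM k rs hreg hmem hk.symm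

end

end Groth.Agent.H29
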