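import Mathlib
import Groth.Prelude.Def_CAlg
import Groth.Agent.H29.MaxRegSeq

/-!
# Depth of localizations versus regular sequences, universe-polymorphic version (helper29)
-/

set_option autoImplicit false
set_option linter.style.haveILetI false
universe u v w

namespace Groth.Agent.H29

open RingTheory.Sequence
open scoped Pointwise

section

variable (A : Type u) [CommRing A]

theorem depth_localizedModule_congr {M : Type v} {N : Type w} [AddCommGroup M] [Module A M]
    [AddCommGroup N] [Module A N] (e : M ≃ₗ[A] N) (p : Ideal A) [p.IsPrime] :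
    LocCoh.depth (Localization.AtPrime p) (LocalizedModule p.primeCompl M) =
      LocCoh.depth (Localization.AtPrime p) (LocalizedModule p.primeCompl N) :=
  idealDepth_congr _ (IsLocalizedModule.mapEquiv p.primeCompl
    (LocalizedModule.mkLinearMap p.primeCompl M) (LocalizedModule.mkLinearMap p.primeCompl N)
    (Localization.AtPrime p) e)

theorem le_depth_localizedModule' (M : Type v) [AddCommGroup M] [Module A M] [Module.Finite A M]
    (p : Ideal A) [p.IsPrime] (xs : List A) (hmem : ∀ x ∈ xs, x ∈ p)
    (hreg : IsWeaklyRegular M xs) :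
    (xs.length : ℕ∞) ≤ LocCoh.depth (Localization.AtPrime p) (LocalizedModule p.primeCompl M) := by
  rcases subsingleton_or_nontrivial (LocalizedModule p.primeCompl M) with h | h
  · rw [depth_eq_top_of_subsingleton]
    exact le_top
  have hI := maximalIdeal_smul_top_ne_top (Localization.AtPrime p) (LocalizedModule p.primeCompl M)
  refine (le_idealDepth_iff _ _ hI xs.length).mpr
    ⟨xs.map (algebraMap A (Localization.AtPrime p)), by simp, ?_, ?_⟩
  · exact hreg.of_isLocalizedModule (Localization.AtPrime p) p.primeCompl
      (LocalizedModule.mkLinearMap p.primeCompl M)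
  · intro r hr
    obtain ⟨x, hx, rfl⟩ := List.mem_map.mp hr
    exact (IsLocalization.AtPrime.to_map_mem_maximal_iff (Localization.AtPrime p) p x).mpr
      (hmem x hx)

/-- If `a` acts as the identity on `N`, every constant sequence `[a, …, a]` is weakly regular. -/
theorem isWeaklyRegular_replicate_of_smul_eq (a : A) (k : ℕ) :
    ∀ (N : Type v) [AddCommGroup N] [Module A N], (∀ n : N, a • n = n) →
      IsWeaklyRegular N (List.replicate k a) := by
  induction k with
  | zero =>
    intro N _ _ _
    exact IsWeaklyRegular.nil A N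
  | succ k ih =>
    intro N _ _ h
    rw [List.replicate_succ, isWeaklyRegular_cons_iff]
    refine ⟨fun x y hxy => ?_, ih (QuotSMulTop a N) ?_⟩
    · simpa [h] using hxy
    · intro n
      obtain ⟨n, rfl⟩ := Submodule.Quotient.mk_surjective _ n
      rw [← Submodule.Quotient.mk_smul, h]

variable [IsNoetherianRing A]

theorem exists_isWeaklyRegular_of_forall_le_depth_localizedModule (M : Type v) [AddCommGroup M]
    [Module A M] [Module.Finite A M] (I : Ideal A) (r : ℕ)
    (h : ∀ (p : Ideal A) [p.IsPrime], I ≤ p →
      (r : ℕ∞) ≤ LocCoh.depth (Localization.AtPrime p) (LocalizedModule p.primeCompl M)) :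
    ∃ fs : List A, fs.length = r ∧ (∀ f ∈ fs, f ∈ I) ∧ IsWeaklyRegular M fs := by
  by_cases hIM : I • (⊤ : Submodule A M) = ⊤
  · obtain ⟨b, hb, hb0⟩ := Submodule.exists_sub_one_mem_and_smul_eq_zero_of_fg_of_le_smul I
      (⊤ : Submodule A M) Module.Finite.fg_top (by rw [hIM])
    refine ⟨List.replicate r (1 - b), List.length_replicate, ?_, ?_⟩
    · intro f hf
      rw [List.eq_of_mem_replicate hf]
      have : 1 - b = -(b - 1) := by ring
      rw [this]
      exact I.neg_mem hb
    · apply isWeaklyRegular_replicate_of_smul_eq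
      intro n
      rw [sub_smul, one_smul, hb0 n Submodule.mem_top, sub_zero]
  · obtain ⟨n, f, hf⟩ := Module.Finite.exists_fin' A M
    haveI : Small.{u} M := small_of_surjective hf
    let e : Shrink.{u} M ≃ₗ[A] M := Shrink.linearEquiv A M
    haveI : Module.Finite A (Shrink.{u} M) := Module.Finite.equiv e.symm
    have hIM' : I • (⊤ : Submodule A (Shrink.{u} M)) ≠ ⊤ := fun h' =>
      hIM (smul_top_eq_top_of_surjective I e.toLinearMap e.surjective h')
    have h1 : (r : ℕ∞) ≤ LocCoh.idealDepth I (Shrink.{u} M) := by
      rw [idealDepth_eq_iInf_depth_localizedModule A I (Shrink.{u} M)]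
      refine le_iInf₂ fun p hp => ?_
      rw [depth_localizedModule_congr A e p.asIdeal]
      exact h p.asIdeal hp
    obtain ⟨rs, hlen, hreg, hmem⟩ := (le_idealDepth_iff I _ hIM' r).mp h1
    exact ⟨rs, hlen, hmem, (e.isWeaklyRegular_congr rs).mp hreg⟩

end

end Groth.Agent.H29
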