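import Mathlib
import Groth.Prelude.Def_CAlg
import Groth.Agent.H29.DepthUniv

/-!
# Serre's condition `(S_k)` (helper29)

* `quotSMulTopLocalizedEquiv` : `M_p / x M_p ≃ (M/xM)_p`.
* `hasSk_congr`, `hasSk_quotSMulTop`, `hasSk_quotient_ofList`.
-/

set_option autoImplicit false
set_option linter.style.haveILetI false
universe u v w

namespace Groth.Agent.H29

open RingTheory.Sequence IsLocalRing
open scoped Pointwise

section

variable (A : Type u) [CommRing A]

/-- `M_p / x M_p ≃ (M/xM)_p` as modules over `A_p`. -/
noncomputable def quotSMulTopLocalizedEquiv (M : Type v) [AddCommGroup M] [Module A M]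
    (p : Ideal A) [p.IsPrime] (x : A) :
    QuotSMulTop (algebraMap A (Localization.AtPrime p) x) (LocalizedModule p.primeCompl M)
      ≃ₗ[Localization.AtPrime p] LocalizedModule p.primeCompl (QuotSMulTop x M) :=
  (QuotSMulTop.congr (algebraMap A (Localization.AtPrime p) x)
    (IsLocalizedModule.isBaseChange p.primeCompl (Localization.AtPrime p)
      (LocalizedModule.mkLinearMap p.primeCompl M)).equiv.symm).trans
    ((QuotSMulTop.algebraMapTensorEquivTensorQuotSMulTop x M (Localization.AtPrime p)).trans
      (IsLocalizedModule.isBaseChange p.primeCompl (Localization.AtPrime p)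
        (LocalizedModule.mkLinearMap p.primeCompl (QuotSMulTop x M))).equiv)

theorem hasSk_congr {M : Type v} {N : Type w} [AddCommGroup M] [Module A M]
    [AddCommGroup N] [Module A N] (e : M ≃ₗ[A] N) (k : ℕ) (h : LocCoh.HasSk k A M) :
    LocCoh.HasSk k A N := by
  intro p _
  have h1 := h p
  rw [depth_localizedModule_congr A e p, Module.supportDim_eq_of_equiv
    (IsLocalizedModule.mapEquiv p.primeCompl
      (LocalizedModule.mkLinearMap p.primeCompl M) (LocalizedModule.mkLinearMap p.primeCompl N)
      (Localization.AtPrime p) e)] at h1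
  exact h1

variable [IsNoetherianRing A]

theorem hasSk_quotSMulTop (M : Type u) [AddCommGroup M] [Module A M] [Module.Finite A M]
    (k : ℕ) (hk : 1 ≤ k) (hM : LocCoh.HasSk k A M) (x : A) (hreg : IsSMulRegular M x) :
    LocCoh.HasSk (k - 1) A (QuotSMulTop x M) := by
  intro p _
  rcases subsingleton_or_nontrivial (LocalizedModule p.primeCompl (QuotSMulTop x M)) with h | h
  · rw [depth_eq_top_of_subsingleton]
    exact le_top
  have hp : (⟨p, inferInstance⟩ : PrimeSpectrum A) ∈ Module.support A (QuotSMulTop x M) :=
    Module.mem_support_iff.mpr h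
  rw [Module.support_quotSMulTop] at hp
  obtain ⟨hpM, hpx⟩ := hp
  have hxp : x ∈ p := by
    have := (PrimeSpectrum.mem_zeroLocus _ _).mp hpx
    exact this (Set.mem_singleton x)
  haveI : Nontrivial (LocalizedModule p.primeCompl M) := Module.mem_support_iff.mp hpM
  haveI : Module.Flat A (Localization.AtPrime p) :=
    IsLocalization.flat (Localization.AtPrime p) p.primeCompl
  have hregp : IsSMulRegular (LocalizedModule p.primeCompl M)
      (algebraMap A (Localization.AtPrime p) x) :=
    hreg.of_flat_of_isBaseChange (IsLocalizedModule.isBaseChange p.primeCompl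
      (Localization.AtPrime p) (LocalizedModule.mkLinearMap p.primeCompl M))
  have hxm : algebraMap A (Localization.AtPrime p) x ∈ maximalIdeal (Localization.AtPrime p) :=
    (IsLocalization.AtPrime.to_map_mem_maximal_iff (Localization.AtPrime p) p x).mpr hxp
  have e := quotSMulTopLocalizedEquiv A M p x
  have h4 := depth_quotSMulTop_add_one (Localization.AtPrime p)
    (LocalizedModule p.primeCompl M) _ hxm hregp
  have h5 : LocCoh.depth (Localization.AtPrime p)
      (QuotSMulTop (algebraMap A (Localization.AtPrime p) x) (LocalizedModule p.primeCompl M)) =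
      LocCoh.depth (Localization.AtPrime p) (LocalizedModule p.primeCompl (QuotSMulTop x M)) :=
    idealDepth_congr _ e
  have h6 := Module.supportDim_quotSMulTop_succ_eq_supportDim hregp hxm
  rw [Module.supportDim_eq_of_equiv e] at h6
  have h7 := hM p
  rw [← h4, ← h6, h5, WithBot.coe_add, WithBot.coe_one] at h7
  have hk' : (k : WithBot ℕ∞) = ((k - 1 : ℕ) : WithBot ℕ∞) + 1 := by
    rw [← Nat.cast_succ]
    congr 1
    omega
  rw [hk'] at h7
  rcases min_le_iff.mp h7 with h8 | h8
  · exact min_le_iff.mpr (Or.inl (withBot_le_of_add_one_le_add_one h8))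
  · exact min_le_iff.mpr (Or.inr (withBot_le_of_add_one_le_add_one h8))

theorem hasSk_quotient_ofList (rs : List A) :
    ∀ (k : ℕ) (M : Type u) [AddCommGroup M] [Module A M] [Module.Finite A M],
      LocCoh.HasSk k A M → IsWeaklyRegular M rs → rs.length ≤ k →
      LocCoh.HasSk (k - rs.length) A (M ⧸ (Ideal.ofList rs • (⊤ : Submodule A M))) := by
  induction rs with
  | nil =>
    intro k M _ _ _ hM _ _
    exact hasSk_congr A (Submodule.quotEquivOfEqBot _
      (by rw [Ideal.ofList_nil, Submodule.bot_smul])).symm _ hM
  | cons x xs ih =>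
    intro k M _ _ _ hM hreg hlen
    obtain ⟨hx, hxs⟩ := (isWeaklyRegular_cons_iff M x xs).mp hreg
    rw [List.length_cons] at hlen
    have h1 := hasSk_quotSMulTop A M k (by omega) hM x hx
    have h2 := ih (k - 1) (QuotSMulTop x M) h1 hxs (by omega)
    have h3 := hasSk_congr A
      (Submodule.quotOfListConsSMulTopEquivQuotSMulTopInner M x xs).symm _ h2
    have : k - (x :: xs).length = k - 1 - xs.length := by
      rw [List.length_cons]
      omega
    rw [this]
    exact h3

end

end Groth.Agent.H29
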