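import Mathlib
import Groth.Prelude.Def_CAlg
import Groth.Prelude.Def_EGA4b
import Groth.Agent.H29.DepthFinite

/-!
# Localization of a localization: depth and dimension (helper29)

* `depth_supportDim_eq_of_semilinear` : depth and support dimension are transported along a ring
  isomorphism of Noetherian local rings and a compatible additive isomorphism of modules.
* `main` : for a submonoid `S` of `A`, a prime `P` of `S⁻¹A` and `p = P ∩ A`, the module
  `(S⁻¹M)_P` over `(S⁻¹A)_P` has the same depth and support dimension as `M_p` over `A_p`.
* `hasSk_localization`, `hasSkAt_iff`.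
-/

set_option autoImplicit false
universe u

namespace Groth.Agent.H29.LocLoc

open IsLocalRing

/-- (after helper1's `CMTensor.supportDim_eq_of_surjective`) -/
theorem supportDim_eq_of_surjective {B C : Type u} [CommRing B] [CommRing C] [Algebra B C]
    (hs : Function.Surjective (algebraMap B C)) (X : Type u) [AddCommGroup X] [Module B X]
    [Module C X] [IsScalarTower B C X] [Module.Finite B X] :
    Module.supportDim B X = Module.supportDim C X := by
  haveI : Module.Finite C X := Module.Finite.of_restrictScalars_finite B C X
  rw [Module.supportDim_eq_ringKrullDim_quotient_annihilator,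
    Module.supportDim_eq_ringKrullDim_quotient_annihilator]
  have hf : Function.Surjective
      ((Ideal.Quotient.mk (Module.annihilator C X)).comp (algebraMap B C)) :=
    Ideal.Quotient.mk_surjective.comp hs
  have hker : RingHom.ker ((Ideal.Quotient.mk (Module.annihilator C X)).comp (algebraMap B C)) =
      Module.annihilator B X := by
    ext b
    rw [RingHom.mem_ker, RingHom.comp_apply, Ideal.Quotient.eq_zero_iff_mem,
      Module.mem_annihilator, Module.mem_annihilator]
    constructor <;> intro h x
    · rw [← algebraMap_smul C b x]; exact h x
    · rw [algebraMap_smul]; exact h x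
  exact ringKrullDim_eq_of_ringEquiv ((Ideal.quotEquivOfEq hker.symm).trans
    (RingHom.quotientKerEquivOfSurjective hf))

section Transport

variable {R R' : Type u} [CommRing R] [CommRing R'] [IsLocalRing R] [IsLocalRing R']
  [IsNoetherianRing R] [IsNoetherianRing R']
  {M M' : Type u} [AddCommGroup M] [Module R M] [Module.Finite R M] [AddCommGroup M']
  [Module R' M']

theorem depth_supportDim_eq_of_semilinear (e : R ≃+* R') (f : M ≃+ M')
    (hf : ∀ (r : R) (m : M), f (r • m) = e r • f m) :
    LocCoh.depth R M = LocCoh.depth R' M' ∧
      Module.supportDim R M = Module.supportDim R' M' := by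
  letI : Algebra R R' := e.toRingHom.toAlgebra
  haveI : IsLocalHom (algebraMap R R') := IsLocalHom.of_surjective _ e.surjective
  letI : Module R M' := Module.compHom M' e.toRingHom
  haveI : IsScalarTower R R' M' := ⟨fun r s m => by
    show (e r * s) • m = e r • (s • m)
    exact mul_smul _ _ _⟩
  let l : M ≃ₗ[R] M' := { f with map_smul' := fun r m => hf r m }
  haveI : Module.Finite R M' := Module.Finite.equiv l
  refine ⟨?_, ?_⟩
  · rw [← depth_eq_depth_of_isLocalHom R R' M']
    exact idealDepth_congr _ l
  · rw [← supportDim_eq_of_surjective e.surjective M']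
    exact Module.supportDim_eq_of_equiv l

end Transport

section Composite

variable {A : Type u} [CommRing A] (S : Submonoid A) (M : Type u) [AddCommGroup M] [Module A M]
  (P : Ideal (Localization S)) [P.IsPrime]

theorem main [IsNoetherianRing A] [Module.Finite A M] (p : Ideal A) [p.IsPrime]
    (hp : p = P.comap (algebraMap A (Localization S))) :
    LocCoh.depth (Localization.AtPrime P)
        (LocalizedModule P.primeCompl (LocalizedModule S M)) =
      LocCoh.depth (Localization.AtPrime p) (LocalizedModule p.primeCompl M) ∧
    Module.supportDim (Localization.AtPrime P)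
        (LocalizedModule P.primeCompl (LocalizedModule S M)) =
      Module.supportDim (Localization.AtPrime p) (LocalizedModule p.primeCompl M) := by
  subst hp
  let f1 : M →ₗ[A] LocalizedModule S M := LocalizedModule.mkLinearMap S M
  let f2 : LocalizedModule S M →ₗ[Localization S]
      LocalizedModule P.primeCompl (LocalizedModule S M) :=
    LocalizedModule.mkLinearMap P.primeCompl (LocalizedModule S M)
  let g : M →ₗ[A] LocalizedModule P.primeCompl (LocalizedModule S M) :=
    (f2.restrictScalars A).comp f1
  have F0 : ∀ (a : A) (n : LocalizedModule P.primeCompl (LocalizedModule S M)),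
      a • n = algebraMap A (Localization S) a • n :=
    fun a n => (algebraMap_smul (Localization S) a n).symm
  have F1 : ∀ (a : A) (n : LocalizedModule P.primeCompl (LocalizedModule S M)),
      (algebraMap A (Localization.AtPrime P) a) • n = a • n :=
    fun a n => algebraMap_smul (Localization.AtPrime P) a n
  have hmemP : ∀ t : (P.comap (algebraMap A (Localization S))).primeCompl,
      algebraMap A (Localization S) (t : A) ∈ P.primeCompl := fun t => t.2
  have hgapply : ∀ m : M, g m = f2 (f1 m) := fun m => rfl
  have hunit : ∀ s0 : S, algebraMap A (Localization S) (s0 : A) ∈ P.primeCompl := by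
    intro s0 hmem
    exact Ideal.IsPrime.ne_top ‹P.IsPrime›
      (Ideal.eq_top_of_isUnit_mem _ hmem (IsLocalization.map_units _ s0))
  haveI hloc : IsLocalizedModule (P.comap (algebraMap A (Localization S))).primeCompl g := by
    refine ⟨?_, ?_, ?_⟩
    · intro t
      have h1 := IsLocalizedModule.map_units f2 ⟨_, hmemP t⟩
      rw [Module.End.isUnit_iff] at h1 ⊢
      have hfun : ∀ n, (algebraMap A (Module.End A
          (LocalizedModule P.primeCompl (LocalizedModule S M))) (t : A)) n =
          (algebraMap (Localization S) (Module.End (Localization S)
            (LocalizedModule P.primeCompl (LocalizedModule S M)))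
            (algebraMap A (Localization S) (t : A))) n := by
        intro n
        rw [Module.algebraMap_end_apply, Module.algebraMap_end_apply, algebraMap_smul]
      constructor
      · intro x y hxy
        apply h1.1
        show (algebraMap (Localization S) (Module.End (Localization S)
            (LocalizedModule P.primeCompl (LocalizedModule S M)))
            (algebraMap A (Localization S) (t : A))) x = _
        rw [← hfun, ← hfun]
        exact hxy
      · intro y
        obtain ⟨x, hx⟩ := h1.2 y
        exact ⟨x, (hfun x).trans hx⟩
    · intro y
      obtain ⟨⟨z, u⟩, hzu⟩ := IsLocalizedModule.surj P.primeCompl f2 y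
      obtain ⟨⟨m, s⟩, hms⟩ := IsLocalizedModule.surj S f1 z
      obtain ⟨⟨a, s'⟩, has⟩ := IsLocalization.surj S (u : Localization S)
      have hta : algebraMap A (Localization S) (a * s) ∈ P.primeCompl := by
        rw [map_mul, ← has]
        exact P.primeCompl.mul_mem (P.primeCompl.mul_mem u.2 (hunit s')) (hunit s)
      refine ⟨((s' : A) • m, ⟨a * (s : A), hta⟩), ?_⟩
      show (a * (s : A)) • y = g ((s' : A) • m)
      have hzu' : (u : Localization S) • y = f2 z := hzu
      have hms' : (s : A) • z = f1 m := hms
      calc (a * (s : A)) • y = algebraMap A (Localization S) (a * s) • y := F0 _ _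
        _ = (algebraMap A (Localization S) s' * algebraMap A (Localization S) s) •
              ((u : Localization S) • y) := by
            rw [smul_smul, map_mul, ← has]
            congr 1
            ring
        _ = (algebraMap A (Localization S) s' * algebraMap A (Localization S) s) • f2 z := by
            rw [hzu']
        _ = f2 ((algebraMap A (Localization S) s' * algebraMap A (Localization S) s) • z) :=
            (map_smul f2 _ _).symm
        _ = f2 ((s' : A) • ((s : A) • z)) := by
            rw [mul_smul, algebraMap_smul, algebraMap_smul]
        _ = f2 ((s' : A) • f1 m) := by rw [hms']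
        _ = f2 (f1 ((s' : A) • m)) := by rw [LinearMap.map_smul f1]
        _ = g ((s' : A) • m) := rfl
    · intro m1 m2 h12
      have h12' : f2 (f1 m1) = f2 (f1 m2) := h12
      obtain ⟨u, hu⟩ := IsLocalizedModule.exists_of_eq (S := P.primeCompl) (f := f2) h12'
      obtain ⟨⟨a, s'⟩, has⟩ := IsLocalization.surj S (u : Localization S)
      have hu' : (u : Localization S) • f1 m1 = (u : Localization S) • f1 m2 := hu
      have h3 : f1 (a • m1) = f1 (a • m2) := by
        rw [map_smul, map_smul, ← algebraMap_smul (Localization S) a (f1 m1),
          ← algebraMap_smul (Localization S) a (f1 m2), ← has, mul_comm, mul_smul, mul_smul, hu']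
      obtain ⟨s, hs⟩ := IsLocalizedModule.exists_of_eq (S := S) (f := f1) h3
      have hta : algebraMap A (Localization S) ((s : A) * a) ∈ P.primeCompl := by
        rw [map_mul, ← has]
        exact P.primeCompl.mul_mem (hunit s) (P.primeCompl.mul_mem u.2 (hunit s'))
      refine ⟨⟨(s : A) * a, hta⟩, ?_⟩
      show ((s : A) * a) • m1 = ((s : A) * a) • m2
      rw [mul_smul, mul_smul]
      exact hs
  let φ := IsLocalizedModule.linearEquiv (P.comap (algebraMap A (Localization S))).primeCompl
    (LocalizedModule.mkLinearMap (P.comap (algebraMap A (Localization S))).primeCompl M) g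
  let e := IsLocalization.localizationLocalizationAtPrimeIsoLocalization S P
  have hsemi : ∀ (x : Localization.AtPrime (P.comap (algebraMap A (Localization S))))
      (m : LocalizedModule (P.comap (algebraMap A (Localization S))).primeCompl M),
      φ (x • m) = e x • φ m := by
    intro x m
    obtain ⟨⟨a, t⟩, hx⟩ :=
      IsLocalization.surj (P.comap (algebraMap A (Localization S))).primeCompl x
    have hinj : Function.Injective
        (fun n : LocalizedModule P.primeCompl (LocalizedModule S M) => (t : A) • n) := by
      have h1 := IsLocalizedModule.map_units g t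
      rw [Module.End.isUnit_iff] at h1
      intro n1 n2 h
      apply h1.1
      rw [Module.algebraMap_end_apply, Module.algebraMap_end_apply]
      exact h
    apply hinj
    show (t : A) • φ (x • m) = (t : A) • (e x • φ m)
    have hL : (t : A) • φ (x • m) = a • φ m := by
      rw [← map_smul, ← map_smul]
      congr 1
      rw [← algebraMap_smul (Localization.AtPrime (P.comap (algebraMap A (Localization S))))
        (t : A) (x • m), smul_smul, mul_comm, hx, algebraMap_smul]
    have hR : (t : A) • (e x • φ m) = a • φ m := by
      rw [← F1 (t : A), smul_smul, ← F1 a, ← e.commutes (t : A), ← e.commutes a, ← map_mul,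
        mul_comm _ x, hx]
    rw [hL, hR]
  have key := depth_supportDim_eq_of_semilinear e.toRingEquiv φ.toAddEquiv
    (fun r m => hsemi r m)
  exact ⟨key.1.symm, key.2.symm⟩

end Composite


section Sk

variable {A : Type u} [CommRing A] [IsNoetherianRing A] (S : Submonoid A) (M : Type u)
  [AddCommGroup M] [Module A M] [Module.Finite A M]

/-- `(S_k)` for `S⁻¹M` over `S⁻¹A` in terms of the primes of `A` disjoint from `S`. -/
theorem hasSk_localization_iff (k : ℕ) :
    LocCoh.HasSk k (Localization S) (LocalizedModule S M) ↔
      ∀ (p : Ideal A) [p.IsPrime], Disjoint (S : Set A) (p : Set A) →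
        min (k : WithBot ℕ∞)
          (Module.supportDim (Localization.AtPrime p) (LocalizedModule p.primeCompl M)) ≤
        ((LocCoh.depth (Localization.AtPrime p) (LocalizedModule p.primeCompl M) : ℕ∞) :
          WithBot ℕ∞) := by
  constructor
  · intro h p _ hdisj
    haveI hP : (p.map (algebraMap A (Localization S))).IsPrime :=
      IsLocalization.isPrime_of_isPrime_disjoint S _ p ‹_› hdisj
    have hcomap : p = (p.map (algebraMap A (Localization S))).comap
        (algebraMap A (Localization S)) :=
      (IsLocalization.comap_map_of_isPrime_disjoint S _ ‹_› hdisj).symm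
    obtain ⟨h1, h2⟩ := main S M (p.map (algebraMap A (Localization S))) p hcomap
    have h3 := h (p.map (algebraMap A (Localization S)))
    rw [h1, h2] at h3
    exact h3
  · intro h P _
    obtain ⟨h1, h2⟩ := main S M P (P.comap (algebraMap A (Localization S))) rfl
    rw [h1, h2]
    exact h _ ((IsLocalization.isPrime_iff_isPrime_disjoint S _ P).mp ‹_›).2

theorem hasSk_localization (k : ℕ) (h : LocCoh.HasSk k A M) :
    LocCoh.HasSk k (Localization S) (LocalizedModule S M) :=
  (hasSk_localization_iff S M k).mpr (fun p _ _ => h p)

/-- `(S_k)` at a prime `p`: the `(S_k)` inequality at all primes `q ≤ p`. -/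
theorem hasSkAt_iff (k : ℕ) (p : Ideal A) [p.IsPrime] :
    EGA4.HasSkAt k A M p ↔
      ∀ (q : Ideal A) [q.IsPrime], q ≤ p →
        min (k : WithBot ℕ∞)
          (Module.supportDim (Localization.AtPrime q) (LocalizedModule q.primeCompl M)) ≤
        ((LocCoh.depth (Localization.AtPrime q) (LocalizedModule q.primeCompl M) : ℕ∞) :
          WithBot ℕ∞) := by
  unfold EGA4.HasSkAt
  refine (hasSk_localization_iff p.primeCompl M k).trans ?_
  constructor
  · intro h q _ hq
    refine h q ?_
    rw [Set.disjoint_left]
    intro x hx hxq
    exact hx (hq hxq)
  · intro h q _ hdisj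
    refine h q ?_
    intro x hxq
    by_contra hxp
    exact Set.disjoint_left.mp hdisj hxp hxq

/-- Support of a localized module. -/
theorem mem_support_localization_iff (P : PrimeSpectrum (Localization S)) :
    P ∈ Module.support (Localization S) (LocalizedModule S M) ↔
      PrimeSpectrum.comap (algebraMap A (Localization S)) P ∈ Module.support A M := by
  obtain ⟨-, h2⟩ := main S M P.asIdeal (P.asIdeal.comap (algebraMap A (Localization S))) rfl
  rw [Module.mem_support_iff, Module.mem_support_iff, ← Module.supportDim_ne_bot_iff_nontrivial
    (Localization.AtPrime P.asIdeal), ← Module.supportDim_ne_bot_iff_nontrivial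
    (Localization.AtPrime (PrimeSpectrum.comap (algebraMap A (Localization S)) P).asIdeal), h2]
  rfl

end Sk

end Groth.Agent.H29.LocLoc
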