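import Mathlib

/-!
# Projective dimension under base change (helper29)

* `hasProjectiveDimensionLT_baseChange_of_class` : general induction principle.
* `hasProjectiveDimensionLT_baseChange_of_flat` : flat base change does not increase `pd`.
* `projectiveDimension_baseChange_le_of_flat`.
-/

set_option autoImplicit false
set_option linter.style.haveILetI false
set_option linter.unusedSectionVars false
universe u

namespace Groth.Agent.H29

open CategoryTheory TensorProduct

variable (A B : Type u) [CommRing A] [CommRing B] [Algebra A B]

/-- One step of the induction: a presentation `0 → ker f → P → M → 0` with `P` free. -/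
theorem hasProjectiveDimensionLT_baseChange_step
    (P M : Type u) [AddCommGroup P] [Module A P] [Module.Free A P] [AddCommGroup M]
    [Module A M] (f : P →ₗ[A] M) (hf : Function.Surjective f)
    (hinj : Function.Injective ((LinearMap.ker f).subtype.baseChange B)) (n : ℕ)
    (ih : HasProjectiveDimensionLT (ModuleCat.of A (LinearMap.ker f)) (n + 1) →
      HasProjectiveDimensionLT (ModuleCat.of B (B ⊗[A] (LinearMap.ker f))) (n + 1))
    (h : HasProjectiveDimensionLT (ModuleCat.of A M) (n + 1 + 1)) :
    HasProjectiveDimensionLT (ModuleCat.of B (B ⊗[A] M)) (n + 1 + 1) := by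
  have hS : f.shortComplexKer.ShortExact := LinearMap.shortExact_shortComplexKer hf
  have hproj : Projective f.shortComplexKer.X₂ := by
    show Projective (ModuleCat.of A P)
    exact (IsProjective.iff_projective (R := A) (P := P)).mp inferInstance
  have hK : HasProjectiveDimensionLT (ModuleCat.of A (LinearMap.ker f)) (n + 1) :=
    (hS.hasProjectiveDimensionLT_X₃_iff n hproj).mp h
  have hKB := ih hK
  have hex0 : Function.Exact ((LinearMap.ker f).subtype.lTensor B) (f.lTensor B) :=
    lTensor_exact (f := (LinearMap.ker f).subtype) (g := f) B
      (LinearMap.exact_subtype_ker_map f) hf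
  have hex : Function.Exact ((LinearMap.ker f).subtype.baseChange B) (f.baseChange B) := hex0
  have hsurj0 : Function.Surjective (f.lTensor B) := LinearMap.lTensor_surjective B hf
  have hsurj : Function.Surjective (f.baseChange B) := hsurj0
  have hS' : (ModuleCat.shortComplexOfCompEqZero ((LinearMap.ker f).subtype.baseChange B)
      (f.baseChange B) hex.linearMap_comp_eq_zero).ShortExact :=
    ModuleCat.shortComplex_shortExact _ hex hinj hsurj
  have hproj' : Projective (ModuleCat.shortComplexOfCompEqZero
      ((LinearMap.ker f).subtype.baseChange B)
      (f.baseChange B) hex.linearMap_comp_eq_zero).X₂ := by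
    show Projective (ModuleCat.of B (B ⊗[A] P))
    exact (IsProjective.iff_projective (R := B) (P := B ⊗[A] P)).mp inferInstance
  exact (hS'.hasProjectiveDimensionLT_X₃_iff n hproj').mpr hKB

/-- Induction principle: if `𝒞` is a class of `A`-modules stable under syzygies for which
`B ⊗ -` keeps syzygy sequences exact on the left, then `pd_B (B ⊗ M) ≤ pd_A M` for `M ∈ 𝒞`. -/
theorem hasProjectiveDimensionLT_baseChange_of_class
    (𝒞 : ∀ (M : Type u) [AddCommGroup M] [Module A M], Prop)
    (h𝒞 : ∀ (P M : Type u) [AddCommGroup P] [Module A P] [Module.Free A P] [AddCommGroup M]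
      [Module A M] (f : P →ₗ[A] M), Function.Surjective f → 𝒞 M →
        𝒞 (LinearMap.ker f) ∧ Function.Injective ((LinearMap.ker f).subtype.baseChange B))
    (n : ℕ) : ∀ (M : Type u) [AddCommGroup M] [Module A M], 𝒞 M →
      HasProjectiveDimensionLT (ModuleCat.of A M) (n + 1) →
      HasProjectiveDimensionLT (ModuleCat.of B (B ⊗[A] M)) (n + 1) := by
  induction n with
  | zero =>
    intro M _ _ _ h
    rw [zero_add, ← projective_iff_hasProjectiveDimensionLT_one] at h ⊢
    rw [← IsProjective.iff_projective] at h ⊢
    infer_instance
  | succ n ih =>
    intro M _ _ hM h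
    have hf : Function.Surjective (Finsupp.linearCombination A (id : M → M)) :=
      Finsupp.linearCombination_id_surjective A M
    obtain ⟨hCK, hinj⟩ := h𝒞 (M →₀ A) M _ hf hM
    exact hasProjectiveDimensionLT_baseChange_step A B (M →₀ A) M _ hf hinj n
      (ih _ hCK) h

/-- Flat base change does not increase the projective dimension. -/
theorem hasProjectiveDimensionLT_baseChange_of_flat [Module.Flat A B] (n : ℕ)
    (M : Type u) [AddCommGroup M] [Module A M]
    (h : HasProjectiveDimensionLT (ModuleCat.of A M) (n + 1)) :
    HasProjectiveDimensionLT (ModuleCat.of B (B ⊗[A] M)) (n + 1) := by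
  refine hasProjectiveDimensionLT_baseChange_of_class A B (fun _ _ _ => True) ?_ n M trivial h
  intro P M _ _ _ _ _ f _ _
  refine ⟨trivial, ?_⟩
  exact Module.Flat.lTensor_preserves_injective_linearMap _ (LinearMap.ker f).injective_subtype

theorem projectiveDimension_baseChange_le_of_flat [Module.Flat A B]
    (M : Type u) [AddCommGroup M] [Module A M] :
    projectiveDimension (ModuleCat.of B (B ⊗[A] M)) ≤ projectiveDimension (ModuleCat.of A M) := by
  refine le_of_forall_ge (fun N ↦ ?_)
  induction N with
  | bot =>
    simp only [le_bot_iff, projectiveDimension_eq_bot_iff, ModuleCat.isZero_iff_subsingleton]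
    intro h
    infer_instance
  | coe N =>
    induction N with
    | top => simp
    | coe n =>
      intro h
      have h1 : projectiveDimension (ModuleCat.of A M) ≤ n := h
      rw [projectiveDimension_le_iff] at h1
      have h2 : projectiveDimension (ModuleCat.of B (B ⊗[A] M)) ≤ n := by
        rw [projectiveDimension_le_iff]
        exact hasProjectiveDimensionLT_baseChange_of_flat A B n M h1
      exact h2

end Groth.Agent.H29
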