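import Mathlib
import Groth.Agent.H29.BaseChangePD

/-!
# Faithfully flat descent of projective dimension for finite modules (helper29)
-/

set_option autoImplicit false
set_option linter.style.haveILetI false
set_option linter.unusedSectionVars false
universe u

namespace Groth.Agent.H29

open CategoryTheory TensorProduct

variable (A B : Type u) [CommRing A] [CommRing B] [Algebra A B]

/-- For a presentation `0 → ker f → P → M → 0` with `P` projective and `B ⊗ ker f → B ⊗ P`
injective: `pd_B (B ⊗ M) ≤ n + 1 ↔ pd_B (B ⊗ ker f) ≤ n`. -/
theorem hasProjectiveDimensionLT_baseChange_iff_ker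
    (P M : Type u) [AddCommGroup P] [Module A P] [Module.Projective A P] [AddCommGroup M]
    [Module A M] (f : P →ₗ[A] M) (hf : Function.Surjective f)
    (hinj : Function.Injective ((LinearMap.ker f).subtype.baseChange B)) (n : ℕ) :
    HasProjectiveDimensionLT (ModuleCat.of B (B ⊗[A] M)) (n + 1 + 1) ↔
      HasProjectiveDimensionLT (ModuleCat.of B (B ⊗[A] (LinearMap.ker f))) (n + 1) := by
  have hex0 : Function.Exact ((LinearMap.ker f).subtype.lTensor B) (f.lTensor B) :=
    lTensor_exact (f := (LinearMap.ker f).subtype) (g := f) B
      (LinearMap.exact_subtype_ker_map f) hf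
  have hex : Function.Exact ((LinearMap.ker f).subtype.baseChange B) (f.baseChange B) := hex0
  have hsurj0 : Function.Surjective (f.lTensor B) := LinearMap.lTensor_surjective B hf
  have hsurj : Function.Surjective (f.baseChange B) := hsurj0
  have hS' : (ModuleCat.shortComplexOfCompEqZero ((LinearMap.ker f).subtype.baseChange B)
      (f.baseChange B) hex.linearMap_comp_eq_zero).ShortExact :=
    ModuleCat.shortComplex_shortExact _ hex hinj hsurj
  have hproj' : Projective (ModuleCat.shortComplexOfCompEqZero
      ((LinearMap.ker f).subtype.baseChange B)
      (f.baseChange B) hex.linearMap_comp_eq_zero).X₂ := by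
    show Projective (ModuleCat.of B (B ⊗[A] P))
    exact (IsProjective.iff_projective (R := B) (P := B ⊗[A] P)).mp inferInstance
  exact hS'.hasProjectiveDimensionLT_X₃_iff n hproj'

theorem hasProjectiveDimensionLT_iff_ker
    (P M : Type u) [AddCommGroup P] [Module A P] [Module.Projective A P] [AddCommGroup M]
    [Module A M] (f : P →ₗ[A] M) (hf : Function.Surjective f) (n : ℕ) :
    HasProjectiveDimensionLT (ModuleCat.of A M) (n + 1 + 1) ↔
      HasProjectiveDimensionLT (ModuleCat.of A (LinearMap.ker f)) (n + 1) := by
  have hS : f.shortComplexKer.ShortExact := LinearMap.shortExact_shortComplexKer hf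
  have hproj : Projective f.shortComplexKer.X₂ := by
    show Projective (ModuleCat.of A P)
    exact (IsProjective.iff_projective (R := A) (P := P)).mp inferInstance
  exact hS.hasProjectiveDimensionLT_X₃_iff n hproj

variable [IsNoetherianRing A] [Module.FaithfullyFlat A B]

/-- Faithfully flat descent of `pd ≤ n` for finite modules over a Noetherian ring. -/
theorem hasProjectiveDimensionLT_of_baseChange_of_faithfullyFlat (n : ℕ) :
    ∀ (M : Type u) [AddCommGroup M] [Module A M] [Module.Finite A M],
      HasProjectiveDimensionLT (ModuleCat.of B (B ⊗[A] M)) (n + 1) →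
      HasProjectiveDimensionLT (ModuleCat.of A M) (n + 1) := by
  induction n with
  | zero =>
    intro M _ _ _ h
    rw [zero_add, ← projective_iff_hasProjectiveDimensionLT_one] at h ⊢
    rw [← IsProjective.iff_projective] at h ⊢
    haveI : Module.Flat B (B ⊗[A] M) := inferInstance
    haveI : Module.Flat A M := Module.Flat.of_flat_tensorProduct A M B
    haveI : Module.FinitePresentation A M := Module.finitePresentation_of_finite A M
    exact Module.Flat.projective_of_finitePresentation
  | succ n ih =>
    intro M _ _ _ h
    obtain ⟨P, _, _, _, _, f, hf⟩ := Module.exists_finite_presentation A M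
    have hinj : Function.Injective ((LinearMap.ker f).subtype.baseChange B) :=
      Module.Flat.lTensor_preserves_injective_linearMap _ (LinearMap.ker f).injective_subtype
    rw [hasProjectiveDimensionLT_iff_ker A P M f hf n]
    apply ih
    exact (hasProjectiveDimensionLT_baseChange_iff_ker A B P M f hf hinj n).mp h

theorem projectiveDimension_baseChange_eq_of_faithfullyFlat
    (M : Type u) [AddCommGroup M] [Module A M] [Module.Finite A M] :
    projectiveDimension (ModuleCat.of B (B ⊗[A] M)) = projectiveDimension (ModuleCat.of A M) := by
  apply le_antisymm (projectiveDimension_baseChange_le_of_flat A B M)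
  refine le_of_forall_ge (fun N ↦ ?_)
  induction N with
  | bot =>
    simp only [le_bot_iff, projectiveDimension_eq_bot_iff, ModuleCat.isZero_iff_subsingleton]
    intro h
    exact Module.FaithfullyFlat.lTensor_reflects_triviality A B M
  | coe N =>
    induction N with
    | top => simp
    | coe n =>
      intro h
      have h1 : projectiveDimension (ModuleCat.of B (B ⊗[A] M)) ≤ n := h
      rw [projectiveDimension_le_iff] at h1
      have h2 : projectiveDimension (ModuleCat.of A M) ≤ n := by
        rw [projectiveDimension_le_iff]
        exact hasProjectiveDimensionLT_of_baseChange_of_faithfullyFlat A B n M h1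
      exact h2

end Groth.Agent.H29
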