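import Mathlib
import Groth.Prelude.Def_CAlg
import Groth.Agent.H29.DepthSES
import Groth.Agent.H29.GlobalDim
import Groth.Agent.H29.DepthFlat

/-!
# Global dimension of a regular local ring (helper29)

* `idealDepth_le_idealDepth_of_flat` : `depth_I R ≤ depth_I P` for a flat module `P`.
* `hasProjectiveDimensionLT_of_le_depth_add` : over a regular local ring of dimension `d`, a finite
  module with `d ≤ depth M + j` has projective dimension `≤ j`.
* `hasProjectiveDimensionLT_of_isRegularLocalRing` : every module over a regular local ring of
  dimension `d` has projective dimension `≤ d`.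
-/

set_option autoImplicit false
set_option linter.style.haveILetI false
universe u v

namespace Groth.Agent.H29

open RingTheory.Sequence CategoryTheory Abelian IsLocalRing
open scoped Pointwise TensorProduct

theorem idealDepth_le_idealDepth_of_flat {R : Type u} [CommRing R] (I : Ideal R) (P : Type v)
    [AddCommGroup P] [Module R P] [Module.Flat R P] :
    LocCoh.idealDepth I R ≤ LocCoh.idealDepth I P := by
  by_cases hP : I • (⊤ : Submodule R P) = ⊤
  · rw [idealDepth_eq_top_of_smul_top_eq_top I P hP]
    exact le_top
  · have hR : I • (⊤ : Submodule R R) ≠ ⊤ := by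
      intro h
      apply hP
      rw [eq_top_iff]
      intro p _
      have h1 : (1 : R) ∈ I • (⊤ : Submodule R R) := by rw [h]; trivial
      have h1' : (1 : R) ∈ I := by simpa using h1
      have : p = (1 : R) • p := (one_smul R p).symm
      rw [this]
      exact Submodule.smul_mem_smul h1' trivial
    rw [← ENat.forall_natCast_le_iff_le]
    intro n hn
    obtain ⟨rs, hlen, hreg, hmem⟩ := (le_idealDepth_iff I R hR n).mp hn
    refine (le_idealDepth_iff I P hP n).mpr ⟨rs, hlen, ?_, hmem⟩
    have h1 : IsWeaklyRegular (P ⊗[R] R) rs := hreg.isWeaklyRegular_lTensor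
    exact ((TensorProduct.rid R P).isWeaklyRegular_congr rs).mp h1

variable (R : Type u) [CommRing R] [IsRegularLocalRing R]

theorem hasProjectiveDimensionLT_of_le_depth_add (d : ℕ) (hd : ringKrullDim R = d) (j : ℕ) :
    ∀ (M : Type u) [AddCommGroup M] [Module R M] [Module.Finite R M],
      (d : ℕ∞) ≤ LocCoh.depth R M + j →
      HasProjectiveDimensionLT (ModuleCat.of R M) (j + 1) := by
  induction j with
  | zero =>
    intro M _ _ _ h
    rcases subsingleton_or_nontrivial M with hM | hM
    · have hz : Limits.IsZero (ModuleCat.of R M) := ModuleCat.isZero_of_subsingleton _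
      haveI := hz.hasProjectiveDimensionLT_zero
      exact hasProjectiveDimensionLT_of_ge _ 0 1 (by omega)
    · have h1 : ((LocCoh.depth R M : ℕ∞) : WithBot ℕ∞) ≤ ringKrullDim R :=
        (depth_le_supportDim R M).trans (Module.supportDim_le_ringKrullDim R M)
      have h2 : ((LocCoh.depth R M : ℕ∞) : WithBot ℕ∞) = ringKrullDim R := by
        apply le_antisymm h1
        rw [hd]
        have : (d : ℕ∞) ≤ LocCoh.depth R M := by simpa using h
        exact_mod_cast WithBot.coe_le_coe.mpr this
      haveI := free_of_depth_eq_ringKrullDim R M h2
      haveI : Projective (ModuleCat.of R M) :=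
        (IsProjective.iff_projective (R := R) (P := M)).mp inferInstance
      infer_instance
  | succ j ih =>
    intro M _ _ _ h
    obtain ⟨P, _, _, _, _, f, surjf⟩ := Module.exists_finite_presentation R M
    have hS : f.shortComplexKer.ShortExact := LinearMap.shortExact_shortComplexKer surjf
    have hproj : Projective f.shortComplexKer.X₂ := by
      show Projective (ModuleCat.of R P)
      exact (IsProjective.iff_projective (R := R) (P := P)).mp inferInstance
    rw [hS.hasProjectiveDimensionLT_X₃_iff j hproj]
    show HasProjectiveDimensionLT (ModuleCat.of R (LinearMap.ker f)) (j + 1)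
    apply ih
    have hP : (d : ℕ∞) ≤ LocCoh.depth R P := by
      have h1 : LocCoh.depth R R ≤ LocCoh.depth R P :=
        idealDepth_le_idealDepth_of_flat (maximalIdeal R) P
      have h2 := depth_self_eq_ringKrullDim_of_isRegularLocalRing R
      rw [hd] at h2
      have h3 : LocCoh.depth R R = d := by exact_mod_cast h2
      rw [h3] at h1
      exact h1
    have hK : min (LocCoh.depth R P) (LocCoh.depth R M + 1) ≤ LocCoh.depth R (LinearMap.ker f) :=
      idealDepth_X₁_ge (maximalIdeal R) (LinearMap.ker f).subtype f
        (LinearMap.ker f).injective_subtype surjf (LinearMap.exact_subtype_ker_map f)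
    calc (d : ℕ∞) ≤ min (LocCoh.depth R P + j) (LocCoh.depth R M + 1 + j) := by
          rw [le_min_iff]
          refine ⟨hP.trans le_self_add, ?_⟩
          rw [add_assoc, add_comm 1 (j : ℕ∞)]
          exact_mod_cast h
      _ = min (LocCoh.depth R P) (LocCoh.depth R M + 1) + j := min_add_add_right _ _ _
      _ ≤ LocCoh.depth R (LinearMap.ker f) + j := add_le_add hK le_rfl

/-- Every finite module over a regular local ring of dimension `d` has projective dimension
at most `d`. -/
theorem hasProjectiveDimensionLT_of_isRegularLocalRing_of_finite (d : ℕ)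
    (hd : ringKrullDim R = d) (M : Type u) [AddCommGroup M] [Module R M] [Module.Finite R M] :
    HasProjectiveDimensionLT (ModuleCat.of R M) (d + 1) :=
  hasProjectiveDimensionLT_of_le_depth_add R d hd d M le_add_self

/-- Every module over a regular local ring of dimension `d` has projective dimension
at most `d`. -/
theorem hasProjectiveDimensionLT_of_isRegularLocalRing (d : ℕ)
    (hd : ringKrullDim R = d) (M : ModuleCat.{u} R) :
    HasProjectiveDimensionLT M (d + 1) :=
  hasProjectiveDimensionLT_of_forall_cyclic R d
    (fun I => hasProjectiveDimensionLT_of_isRegularLocalRing_of_finite R d hd (R ⧸ I)) M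

end Groth.Agent.H29
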