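import Mathlib
import Groth.Prelude.Def_CAlg
import Groth.Agent.H29.DepthSES
import Groth.Agent.H29.DepthMore
import Groth.Agent.H29.RegGlobalDim
import Groth.Agent.H29.FFDescentPD

/-!
# The Auslander–Buchsbaum formula (helper29)
-/

set_option autoImplicit false
set_option linter.style.haveILetI false
set_option linter.unusedSectionVars false
universe u v

namespace Groth.Agent.H29

open RingTheory.Sequence CategoryTheory Abelian IsLocalRing
open scoped Pointwise

section General

variable {R : Type u} [CommRing R]

/-- If `a` kills `X` then `a` kills `Ext^i(X, Y)`. -/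
theorem smul_ext_eq_zero_of_smul_id_eq_zero {X Y : ModuleCat.{u} R} (a : R) (ha : a • 𝟙 X = 0)
    {i : ℕ} (ξ : Ext X Y i) : a • ξ = 0 := by
  rw [← Ext.mk₀_id_comp ξ, ← Ext.smul_comp, ← Ext.mk₀_smul, ha, Ext.mk₀_zero, Ext.zero_comp]

theorem smul_id_shrink_quotient_eq_zero (I : Ideal R) (a : R) (ha : a ∈ I) :
    a • 𝟙 (ModuleCat.of R (Shrink.{u} (R ⧸ I))) = 0 := by
  refine ModuleCat.hom_ext (LinearMap.ext fun x => ?_)
  obtain ⟨y, rfl⟩ := (Shrink.linearEquiv R (R ⧸ I)).symm.surjective x
  obtain ⟨z, rfl⟩ := Ideal.Quotient.mk_surjective y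
  have h0 : a • (Ideal.Quotient.mk I z) = 0 := by
    rw [Algebra.smul_def, Ideal.Quotient.algebraMap_eq, ← map_mul,
      Ideal.Quotient.eq_zero_iff_mem]
    exact I.mul_mem_right _ ha
  show a • ((Shrink.linearEquiv R (R ⧸ I)).symm (Ideal.Quotient.mk I z)) = 0
  rw [← map_smul, h0, map_zero]

/-- If `X` is killed by `I` and `w ∈ I • F`, the map `R → F, 1 ↦ w` induces zero on
`Ext^i(X, -)`. -/
theorem ext_comp_toSpanSingleton_eq_zero {X : ModuleCat.{u} R} (I : Ideal R)
    (hX : ∀ a ∈ I, a • 𝟙 X = 0) (F : Type u) [AddCommGroup F] [Module R F] (w : F)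
    (hw : w ∈ I • (⊤ : Submodule R F)) {i : ℕ} (ξ : Ext X (ModuleCat.of R R) i) :
    ξ.comp (Ext.mk₀ (ModuleCat.ofHom (LinearMap.toSpanSingleton R F w))) (add_zero i) = 0 := by
  refine Submodule.smul_induction_on
    (p := fun w => ξ.comp (Ext.mk₀ (ModuleCat.ofHom (LinearMap.toSpanSingleton R F w)))
      (add_zero i) = 0) hw ?_ ?_
  · intro a ha w' _
    have h1 : ModuleCat.ofHom (LinearMap.toSpanSingleton R F (a • w')) =
        a • ModuleCat.ofHom (LinearMap.toSpanSingleton R F w') := by
      refine ModuleCat.hom_ext (LinearMap.ext fun r => ?_)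
      show r • (a • w') = a • (r • w')
      rw [smul_comm]
    show ξ.comp (Ext.mk₀ (ModuleCat.ofHom (LinearMap.toSpanSingleton R F (a • w'))))
      (add_zero i) = 0
    rw [h1, Ext.mk₀_smul, Ext.comp_smul, ← Ext.smul_comp,
      smul_ext_eq_zero_of_smul_id_eq_zero a (hX a ha) ξ, Ext.zero_comp]
  · intro w₁ w₂ h₁ h₂
    have h1 : ModuleCat.ofHom (LinearMap.toSpanSingleton R F (w₁ + w₂)) =
        ModuleCat.ofHom (LinearMap.toSpanSingleton R F w₁) +
          ModuleCat.ofHom (LinearMap.toSpanSingleton R F w₂) := by
      refine ModuleCat.hom_ext (LinearMap.ext fun r => ?_)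
      show r • (w₁ + w₂) = r • w₁ + r • w₂
      rw [smul_add]
    show ξ.comp (Ext.mk₀ (ModuleCat.ofHom (LinearMap.toSpanSingleton R F (w₁ + w₂))))
      (add_zero i) = 0
    rw [h1, Ext.mk₀_add, Ext.comp_add, h₁, h₂, add_zero]

end General

section Free

variable {R : Type u} [CommRing R] [IsLocalRing R]

/-- In a finite free module over a local ring, an element outside `m F` is sent to `1` by some
linear functional. -/
theorem exists_dual_eq_one_of_notMem_smul_top (F : Type v) [AddCommGroup F] [Module R F]
    [Module.Free R F] [Module.Finite R F] (v : F)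
    (hv : v ∉ maximalIdeal R • (⊤ : Submodule R F)) : ∃ ρ : F →ₗ[R] R, ρ v = 1 := by
  classical
  let b := Module.Free.chooseBasis R F
  by_contra hcon
  apply hv
  have hcoord : ∀ j, b.repr v j ∈ maximalIdeal R := by
    intro j
    by_contra hj
    have hu : IsUnit (b.repr v j) := by
      by_contra hnu
      exact hj ((mem_maximalIdeal _).mpr hnu)
    obtain ⟨c, hc⟩ := hu.exists_left_inv
    exact hcon ⟨c • b.coord j, by simp [hc]⟩
  rw [← b.sum_repr v]
  exact Submodule.sum_mem _ fun j _ => Submodule.smul_mem_smul (hcoord j) trivial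

theorem exists_dual_eq_one_of_nontrivial (F : Type v) [AddCommGroup F] [Module R F]
    [Module.Free R F] [Module.Finite R F] [Nontrivial F] : ∃ (v : F) (ρ : F →ₗ[R] R), ρ v = 1 := by
  classical
  let b := Module.Free.chooseBasis R F
  haveI : Nonempty (Module.Free.ChooseBasisIndex R F) := by
    by_contra hne
    rw [not_nonempty_iff] at hne
    have : Subsingleton F := b.repr.toEquiv.subsingleton
    exact not_subsingleton F this
  obtain ⟨j⟩ := ‹Nonempty (Module.Free.ChooseBasisIndex R F)›
  exact ⟨b j, b.coord j, by simp⟩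

end Free


section AB

variable (R : Type u) [CommRing R] [IsLocalRing R] [IsNoetherianRing R]

/-- the residue field as an object of `ModuleCat.{u} R`, in the form used by Rees' theorem. -/
noncomputable abbrev resObj : ModuleCat.{u} R :=
  ModuleCat.of R (Shrink.{u} (R ⧸ maximalIdeal R))

theorem smul_id_resObj_eq_zero (a : R) (ha : a ∈ maximalIdeal R) : a • 𝟙 (resObj R) = 0 :=
  smul_id_shrink_quotient_eq_zero (maximalIdeal R) a ha

theorem natCast_le_depth_iff_ext (M : Type u) [AddCommGroup M] [Module R M] [Module.Finite R M]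
    (n : ℕ) : (n : ℕ∞) ≤ LocCoh.depth R M ↔
      ∀ i < n, Subsingleton (Ext (resObj R) (ModuleCat.of R M) i) :=
  natCast_le_idealDepth_iff_ext (maximalIdeal R) M n

theorem nontrivial_ext_of_depth_eq (M : Type u) [AddCommGroup M] [Module R M] [Module.Finite R M]
    (t : ℕ) (h : LocCoh.depth R M = t) : Nontrivial (Ext (resObj R) (ModuleCat.of R M) t) := by
  by_contra hcon
  rw [not_nontrivial_iff_subsingleton] at hcon
  have h1 := (natCast_le_depth_iff_ext R M t).mp (le_of_eq h.symm)
  have h2 : ((t + 1 : ℕ) : ℕ∞) ≤ LocCoh.depth R M := by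
    rw [natCast_le_depth_iff_ext]
    intro i hi
    rcases Nat.lt_succ_iff_lt_or_eq.mp hi with hlt | rfl
    · exact h1 i hlt
    · exact hcon
  rw [h] at h2
  have : t + 1 ≤ t := by exact_mod_cast h2
  omega

/-- depth does not increase along a retract. -/
theorem depth_le_depth_of_retract {M N : Type u} [AddCommGroup M] [Module R M] [Module.Finite R M]
    [AddCommGroup N] [Module R N] [Module.Finite R N] (φ : N →ₗ[R] M) (ρ : M →ₗ[R] N)
    (h : ρ ∘ₗ φ = LinearMap.id) : LocCoh.depth R M ≤ LocCoh.depth R N := by
  rw [← ENat.forall_natCast_le_iff_le]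
  intro n hn
  rw [natCast_le_depth_iff_ext] at hn ⊢
  intro i hi
  haveI := hn i hi
  refine subsingleton_of_forall_eq_zero fun ξ => ?_
  have h1 : (ξ.comp (Ext.mk₀ (ModuleCat.ofHom φ)) (add_zero i)).comp
      (Ext.mk₀ (ModuleCat.ofHom ρ)) (add_zero i) = ξ := by
    rw [Ext.comp_assoc ξ _ _ (add_zero i) (add_zero 0) (by omega), Ext.mk₀_comp_mk₀,
      ← ModuleCat.ofHom_comp, h]
    exact Ext.comp_mk₀_id ξ
  rw [← h1, Subsingleton.elim (ξ.comp (Ext.mk₀ (ModuleCat.ofHom φ)) (add_zero i)) 0,
    Ext.zero_comp]

theorem depth_eq_depth_self_of_free (F : Type u) [AddCommGroup F] [Module R F] [Module.Free R F]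
    [Module.Finite R F] [Nontrivial F] : LocCoh.depth R F = LocCoh.depth R R := by
  apply le_antisymm
  · obtain ⟨v, ρ, hρ⟩ := exists_dual_eq_one_of_nontrivial (R := R) F
    apply depth_le_depth_of_retract R (LinearMap.toSpanSingleton R F v) ρ
    ext
    simp [hρ]
  · exact idealDepth_le_idealDepth_of_flat (maximalIdeal R) F

theorem mem_smul_top_of_one_tmul_eq_zero (F : Type u) [AddCommGroup F] [Module R F] (w : F)
    (h : (1 : R ⧸ maximalIdeal R) ⊗ₜ[R] w = 0) : w ∈ maximalIdeal R • (⊤ : Submodule R F) := by
  have := congrArg (TensorProduct.quotTensorEquivQuotSMul F (maximalIdeal R)) h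
  rw [TensorProduct.quotTensorEquivQuotSMul_mk_one_tmul, map_zero,
    Submodule.Quotient.mk_eq_zero] at this
  exact this

theorem one_tmul_eq_zero_of_mem_smul_top (F : Type u) [AddCommGroup F] [Module R F] (w : F)
    (h : w ∈ maximalIdeal R • (⊤ : Submodule R F)) : (1 : R ⧸ maximalIdeal R) ⊗ₜ[R] w = 0 := by
  apply (TensorProduct.quotTensorEquivQuotSMul F (maximalIdeal R)).injective
  rw [TensorProduct.quotTensorEquivQuotSMul_mk_one_tmul, map_zero,
    Submodule.Quotient.mk_eq_zero]
  exact h

/-- The crux of the Auslander–Buchsbaum formula: a non-free module with a free presentation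
`0 → K → F → M → 0` (`K`, `F` finite free) has `depth M + 1 = depth R`. -/
theorem depth_add_one_eq_of_free_presentation (F M : Type u) [AddCommGroup F] [Module R F]
    [Module.Free R F] [Module.Finite R F] [AddCommGroup M] [Module R M] (f : F →ₗ[R] M)
    (hf : Function.Surjective f) [Module.Free R (LinearMap.ker f)] (hM : ¬ Module.Free R M) :
    LocCoh.depth R M + 1 = LocCoh.depth R R := by
  haveI : Module.Finite R M := Module.Finite.of_surjective f hf
  haveI : IsNoetherian R F := isNoetherian_of_isNoetherianRing_of_finite R F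
  haveI : Module.Finite R (LinearMap.ker f) := Module.IsNoetherian.finite R _
  set ι := (LinearMap.ker f).subtype with hι
  -- `k ⊗ ι` is not injective
  have hni : ¬ Function.Injective (ι.lTensor (ResidueField R)) := fun h =>
    hM (Module.free_of_lTensor_residueField_injective ι f hf
      (LinearMap.exact_subtype_ker_map f) h)
  rw [injective_iff_map_eq_zero] at hni
  push Not at hni
  obtain ⟨z, hz0, hz⟩ := hni
  obtain ⟨v, rfl⟩ := TensorProduct.mk_surjective R (LinearMap.ker f) (ResidueField R)
    Ideal.Quotient.mk_surjective z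
  have hv : v ∉ maximalIdeal R • (⊤ : Submodule R (LinearMap.ker f)) := fun hmem =>
    hz (one_tmul_eq_zero_of_mem_smul_top R _ v hmem)
  have hw : (ι v : F) ∈ maximalIdeal R • (⊤ : Submodule R F) :=
    mem_smul_top_of_one_tmul_eq_zero R F (ι v) hz0
  obtain ⟨ρ, hρ⟩ := exists_dual_eq_one_of_notMem_smul_top (R := R) (LinearMap.ker f) v hv
  -- a nonzero class in `Ext^t(k, R)`
  obtain ⟨t, ht⟩ : ∃ t : ℕ, LocCoh.depth R R = t := by
    have := depth_ne_top R R
    exact ⟨(LocCoh.depth R R).toNat, (ENat.natCast_toNat this).symm⟩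
  haveI := nontrivial_ext_of_depth_eq R R t ht
  obtain ⟨ξ, hξ⟩ := exists_ne (0 : Ext (resObj R) (ModuleCat.of R R) t)
  set φ := LinearMap.toSpanSingleton R (LinearMap.ker f) v with hφ
  set η := ξ.comp (Ext.mk₀ (ModuleCat.ofHom φ)) (add_zero t) with hη
  have hη0 : η ≠ 0 := by
    intro h0
    apply hξ
    have h1 : η.comp (Ext.mk₀ (ModuleCat.ofHom ρ)) (add_zero t) = ξ := by
      rw [hη, Ext.comp_assoc ξ _ _ (add_zero t) (add_zero 0) (by omega), Ext.mk₀_comp_mk₀,
        ← ModuleCat.ofHom_comp]
      have : ρ ∘ₗ φ = LinearMap.id := by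
        ext
        simp [φ, hρ]
      rw [this]
      exact Ext.comp_mk₀_id ξ
    rw [← h1, h0, Ext.zero_comp]
  have hηι : η.comp (Ext.mk₀ (ModuleCat.ofHom ι)) (add_zero t) = 0 := by
    rw [hη, Ext.comp_assoc ξ _ _ (add_zero t) (add_zero 0) (by omega), Ext.mk₀_comp_mk₀,
      ← ModuleCat.ofHom_comp]
    have : ι ∘ₗ φ = LinearMap.toSpanSingleton R F (ι v) := by
      ext
      simp [φ]
    rw [this]
    exact ext_comp_toSpanSingleton_eq_zero (maximalIdeal R) (smul_id_resObj_eq_zero R) F (ι v) hw ξ
  have hS : f.shortComplexKer.ShortExact := LinearMap.shortExact_shortComplexKer hf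
  rcases t with _ | s
  · -- depth zero is impossible
    exfalso
    haveI := hS.mono_f
    apply hη0
    apply Ext.postcomp_mk₀_injective_of_mono (resObj R) f.shortComplexKer.f
    show η.comp (Ext.mk₀ (ModuleCat.ofHom ι)) (add_zero 0) = _
    rw [hηι]
    simp
  · obtain ⟨x₃, hx₃⟩ := Ext.covariant_sequence_exact₁ (resObj R) hS η hηι rfl
    have hx₃0 : x₃ ≠ 0 := by
      intro h0
      apply hη0
      rw [← hx₃, h0, Ext.zero_comp]
    have hle : LocCoh.depth R M ≤ s := by
      by_contra hcon
      rw [not_le] at hcon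
      have h1 : ((s + 1 : ℕ) : ℕ∞) ≤ LocCoh.depth R M := by
        exact_mod_cast Order.add_one_le_of_lt hcon
      have := (natCast_le_depth_iff_ext R M (s + 1)).mp h1 s (Nat.lt_succ_self s)
      exact hx₃0 (Subsingleton.elim _ _)
    have hge : (s : ℕ∞) ≤ LocCoh.depth R M := by
      have h3 := idealDepth_X₃_ge (maximalIdeal R) ι f (LinearMap.ker f).injective_subtype hf
        (LinearMap.exact_subtype_ker_map f)
      refine le_trans ?_ h3
      rw [le_min_iff]
      have hF : LocCoh.depth R R ≤ LocCoh.depth R F :=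
        idealDepth_le_idealDepth_of_flat (maximalIdeal R) F
      have hK : LocCoh.depth R R ≤ LocCoh.depth R (LinearMap.ker f) :=
        idealDepth_le_idealDepth_of_flat (maximalIdeal R) _
      rw [ht] at hF hK
      constructor
      · refine le_trans ?_ hF
        exact_mod_cast Nat.le_succ s
      · have : ((s + 1 : ℕ) : ℕ∞) - 1 ≤ LocCoh.idealDepth (maximalIdeal R) (LinearMap.ker f) - 1 :=
          tsub_le_tsub_right hK 1
        refine le_trans (le_of_eq ?_) this
        norm_cast
    rw [ht, le_antisymm hle hge]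
    norm_cast


theorem exists_natCast_eq_depth (M : Type u) [AddCommGroup M] [Module R M] [Module.Finite R M]
    [Nontrivial M] : ∃ t : ℕ, LocCoh.depth R M = t :=
  ⟨(LocCoh.depth R M).toNat, (ENat.natCast_toNat (depth_ne_top R M)).symm⟩

/-- The Auslander–Buchsbaum formula. -/
theorem depth_add_eq_depth_self_of_pd (e : ℕ) :
    ∀ (M : Type u) [AddCommGroup M] [Module R M] [Module.Finite R M] [Nontrivial M],
      HasProjectiveDimensionLT (ModuleCat.of R M) (e + 1) →
      ¬ HasProjectiveDimensionLT (ModuleCat.of R M) e →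
      LocCoh.depth R M + e = LocCoh.depth R R := by
  induction e with
  | zero =>
    intro M _ _ _ _ h1 _
    rw [zero_add, ← projective_iff_hasProjectiveDimensionLT_one,
      ← IsProjective.iff_projective] at h1
    haveI : Module.Free R M := Module.free_of_flat_of_isLocalRing
    rw [depth_eq_depth_self_of_free]
    simp
  | succ e ih =>
    intro M _ _ _ _ h1 h2
    obtain ⟨F, _, _, _, _, f, hf⟩ := Module.exists_finite_presentation R M
    have hK1 : HasProjectiveDimensionLT (ModuleCat.of R (LinearMap.ker f)) (e + 1) :=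
      (hasProjectiveDimensionLT_iff_ker R F M f hf e).mp h1
    haveI : IsNoetherian R F := isNoetherian_of_isNoetherianRing_of_finite R F
    haveI : Module.Finite R (LinearMap.ker f) := Module.IsNoetherian.finite R _
    rcases e with _ | e'
    · -- pd = 1
      rw [zero_add, ← projective_iff_hasProjectiveDimensionLT_one,
        ← IsProjective.iff_projective] at hK1
      haveI : Module.Free R (LinearMap.ker f) := Module.free_of_flat_of_isLocalRing
      have hM : ¬ Module.Free R M := by
        intro hfree
        apply h2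
        rw [zero_add, ← projective_iff_hasProjectiveDimensionLT_one,
          ← IsProjective.iff_projective]
        infer_instance
      simpa using depth_add_one_eq_of_free_presentation R F M f hf hM
    · have hK2 : ¬ HasProjectiveDimensionLT (ModuleCat.of R (LinearMap.ker f)) (e' + 1) := by
        intro h
        exact h2 ((hasProjectiveDimensionLT_iff_ker R F M f hf e').mpr h)
      haveI : Nontrivial (LinearMap.ker f) := by
        by_contra hcon
        rw [not_nontrivial_iff_subsingleton] at hcon
        apply hK2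
        have hz : Limits.IsZero (ModuleCat.of R (LinearMap.ker f)) :=
          ModuleCat.isZero_of_subsingleton _
        haveI := hz.hasProjectiveDimensionLT_zero
        exact hasProjectiveDimensionLT_of_ge _ 0 _ (by omega)
      have hIH := ih (LinearMap.ker f) hK1 hK2
      haveI : Nontrivial F := hf.nontrivial
      have h3 := idealDepth_X₃_ge (maximalIdeal R) (LinearMap.ker f).subtype f
        (LinearMap.ker f).injective_subtype hf (LinearMap.exact_subtype_ker_map f)
      have h4 := idealDepth_X₁_ge (maximalIdeal R) (LinearMap.ker f).subtype f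
        (LinearMap.ker f).injective_subtype hf (LinearMap.exact_subtype_ker_map f)
      have hF : LocCoh.depth R F = LocCoh.depth R R := depth_eq_depth_self_of_free R F
      obtain ⟨t, ht⟩ := exists_natCast_eq_depth R R
      obtain ⟨dM, hdM⟩ := exists_natCast_eq_depth R M
      obtain ⟨dK, hdK⟩ := exists_natCast_eq_depth R (LinearMap.ker f)
      change min (LocCoh.depth R F) (LocCoh.depth R (LinearMap.ker f) - 1) ≤ LocCoh.depth R M at h3
      change min (LocCoh.depth R F) (LocCoh.depth R M + 1) ≤ LocCoh.depth R (LinearMap.ker f) at h4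
      rw [hF, ht, hdK, hdM] at h3 h4
      rw [ht, hdK] at hIH
      rw [ht, hdM]
      rw [min_le_iff] at h3 h4
      norm_cast at h3 h4 hIH ⊢
      omega

/-- The Auslander–Buchsbaum formula, stated with `projectiveDimension`. -/
theorem depth_self_eq_pd_add_depth (M : Type u) [AddCommGroup M] [Module R M] [Module.Finite R M]
    [Nontrivial M] (e : ℕ) (he : projectiveDimension (ModuleCat.of R M) = e) :
    LocCoh.depth R R = e + LocCoh.depth R M := by
  have h1 : HasProjectiveDimensionLT (ModuleCat.of R M) (e + 1) := by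
    have : projectiveDimension (ModuleCat.of R M) ≤ e := le_of_eq he
    rwa [projectiveDimension_le_iff] at this
  have h2 : ¬ HasProjectiveDimensionLT (ModuleCat.of R M) e := by
    rw [← projectiveDimension_lt_iff, he]
    exact lt_irrefl _
  rw [← depth_add_eq_depth_self_of_pd R e M h1 h2, add_comm]

/-- Over a local ring of depth zero, a finite module of finite projective dimension is
projective. -/
theorem projective_of_depth_eq_zero_of_pd (h0 : LocCoh.depth R R = 0) (n : ℕ)
    (M : Type u) [AddCommGroup M] [Module R M] [Module.Finite R M]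
    (h : HasProjectiveDimensionLT (ModuleCat.of R M) n) :
    HasProjectiveDimensionLT (ModuleCat.of R M) 1 := by
  rcases subsingleton_or_nontrivial M with hM | hM
  · have hz : Limits.IsZero (ModuleCat.of R M) := ModuleCat.isZero_of_subsingleton _
    haveI := hz.hasProjectiveDimensionLT_zero
    exact hasProjectiveDimensionLT_of_ge _ 0 _ (by omega)
  · induction n with
    | zero =>
      exact hasProjectiveDimensionLT_of_ge _ 0 _ (by omega)
    | succ n ih =>
      by_cases hn : HasProjectiveDimensionLT (ModuleCat.of R M) n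
      · exact ih hn
      · have := depth_add_eq_depth_self_of_pd R n M h hn
        rw [h0] at this
        have hn0 : (n : ℕ∞) = 0 := by
          have h1 : (n : ℕ∞) ≤ LocCoh.depth R M + n := le_add_self
          rw [this] at h1
          exact le_antisymm h1 (by simp)
        have : n = 0 := by exact_mod_cast hn0
        subst this
        exact h

end AB

end Groth.Agent.H29
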