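import Mathlib
import Groth.Prelude.Def_CAlg
import Groth.Agent.H29.DepthSES
import Groth.Agent.H29.GlobalDim

/-!
# Bass' lemma: injective dimension via `Ext(k, -)` (helper29)

* `colonShortExact` : the exact sequence `0 → A/J → A/I → A/(I + x) → 0` for `J = (I : x)`.
* `subsingleton_ext_quotient_of_residueField` : over a Noetherian local ring, if
  `Ext^i(k, N) = 0` for all `i > n` (`N` finite), then `Ext^i(A/I, N) = 0` for all `I`, `i > n`.
* `hasInjectiveDimensionLT_of_residueField` : then `id N ≤ n`.
* `hasProjectiveDimensionLT_of_residueField` : `pd k ≤ n` implies global dimension `≤ n`.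
-/

set_option autoImplicit false
set_option linter.style.haveILetI false
set_option linter.unusedSectionVars false
universe u v

namespace Groth.Agent.H29

open RingTheory.Sequence CategoryTheory Abelian IsLocalRing
open scoped Pointwise

section ExtSESLeft

variable {C : Type u} [Category.{v} C] [Abelian C] [HasExt C]

theorem subsingleton_ext_of_iso_left {X X' : C} (e : X ≅ X') (Y : C) (i : ℕ)
    (h : Subsingleton (Ext X Y i)) : Subsingleton (Ext X' Y i) := by
  refine subsingleton_of_forall_eq_zero fun x => ?_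
  have h1 : (Ext.mk₀ e.hom).comp x (zero_add i) = 0 := Subsingleton.elim _ _
  have h2 : (Ext.mk₀ e.inv).comp ((Ext.mk₀ e.hom).comp x (zero_add i)) (zero_add i) = x := by
    rw [← Ext.comp_assoc (Ext.mk₀ e.inv) (Ext.mk₀ e.hom) x (add_zero 0) (zero_add i)
      (by omega), Ext.mk₀_comp_mk₀, e.inv_hom_id, Ext.mk₀_id_comp]
  rw [← h2, h1, Ext.comp_zero]

variable {S : ShortComplex C} (hS : S.ShortExact) (Y : C)
include hS

theorem subsingleton_ext_left_X₂ (i : ℕ) (h₁ : Subsingleton (Ext S.X₁ Y i))
    (h₃ : Subsingleton (Ext S.X₃ Y i)) : Subsingleton (Ext S.X₂ Y i) := by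
  refine subsingleton_of_forall_eq_zero fun x₂ => ?_
  obtain ⟨x₃, rfl⟩ := Ext.contravariant_sequence_exact₂ hS Y x₂ (Subsingleton.elim _ _)
  rw [Subsingleton.elim x₃ 0, Ext.comp_zero]

end ExtSESLeft

section Colon

variable {A : Type u} [CommRing A]

/-- multiplication by `x` as a map `A/J → A/I` when `J = (I : x)`. -/
noncomputable def colonφ (I J : Ideal A) (x : A)
    (hJ : J = Submodule.comap (LinearMap.lsmul A A x) I) : (A ⧸ J) →ₗ[A] (A ⧸ I) :=
  Submodule.mapQ J I (LinearMap.lsmul A A x) (by rw [hJ])

/-- the projection `A/I → A/(I + x)`. -/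
noncomputable def colonψ (I : Ideal A) (x : A) : (A ⧸ I) →ₗ[A] (A ⧸ (I ⊔ Ideal.span {x})) :=
  Submodule.mapQ I (I ⊔ Ideal.span {x}) LinearMap.id (by
    rw [Submodule.comap_id]; exact le_sup_left)

theorem colonφ_mk (I J : Ideal A) (x : A)
    (hJ : J = Submodule.comap (LinearMap.lsmul A A x) I) (r : A) :
    colonφ I J x hJ (Submodule.Quotient.mk r) = Submodule.Quotient.mk (x * r) := by
  unfold colonφ
  rw [Submodule.mapQ_apply]
  rfl

theorem colonψ_mk (I : Ideal A) (x : A) (r : A) :
    colonψ I x (Submodule.Quotient.mk r) = Submodule.Quotient.mk r := by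
  unfold colonψ
  rw [Submodule.mapQ_apply]
  rfl

theorem colonφ_injective (I J : Ideal A) (x : A)
    (hJ : J = Submodule.comap (LinearMap.lsmul A A x) I) :
    Function.Injective (colonφ I J x hJ) := by
  rw [← LinearMap.ker_eq_bot, LinearMap.ker_eq_bot']
  intro y hy
  obtain ⟨r, rfl⟩ := Submodule.Quotient.mk_surjective _ y
  rw [colonφ_mk, Submodule.Quotient.mk_eq_zero] at hy
  rw [Submodule.Quotient.mk_eq_zero, hJ]
  simpa using hy

theorem colonψ_surjective (I : Ideal A) (x : A) : Function.Surjective (colonψ I x) := by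
  intro y
  obtain ⟨r, rfl⟩ := Submodule.Quotient.mk_surjective _ y
  exact ⟨Submodule.Quotient.mk r, colonψ_mk I x r⟩

theorem colon_exact (I J : Ideal A) (x : A)
    (hJ : J = Submodule.comap (LinearMap.lsmul A A x) I) :
    Function.Exact (colonφ I J x hJ) (colonψ I x) := by
  intro y
  obtain ⟨r, rfl⟩ := Submodule.Quotient.mk_surjective _ y
  rw [colonψ_mk, Submodule.Quotient.mk_eq_zero]
  constructor
  · intro hr
    obtain ⟨i, hi, z, hz, rfl⟩ := Submodule.mem_sup.mp hr
    obtain ⟨s, rfl⟩ := Ideal.mem_span_singleton'.mp hz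
    refine ⟨Submodule.Quotient.mk s, ?_⟩
    rw [colonφ_mk, Submodule.Quotient.eq]
    have : x * s - (i + s * x) = -i := by ring
    rw [this]
    exact I.neg_mem hi
  · rintro ⟨z, hz⟩
    obtain ⟨s, rfl⟩ := Submodule.Quotient.mk_surjective _ z
    rw [colonφ_mk, Submodule.Quotient.eq] at hz
    have : r = -(x * s - r) + s * x := by ring
    rw [this]
    exact Submodule.add_mem_sup (I.neg_mem hz) (Ideal.mem_span_singleton'.mpr ⟨s, rfl⟩)

theorem colonShortExact (I J : Ideal A) (x : A)
    (hJ : J = Submodule.comap (LinearMap.lsmul A A x) I) :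
    (ModuleCat.shortComplexOfCompEqZero (colonφ I J x hJ) (colonψ I x)
      (colon_exact I J x hJ).linearMap_comp_eq_zero).ShortExact :=
  ModuleCat.shortComplex_shortExact _ (colon_exact I J x hJ) (colonφ_injective I J x hJ)
    (colonψ_surjective I x)

theorem colonφ_self_eq_smul (I : Ideal A) (x : A)
    (hJ : I = Submodule.comap (LinearMap.lsmul A A x) I) :
    ModuleCat.ofHom (colonφ I I x hJ) = x • 𝟙 (ModuleCat.of A (A ⧸ I)) := by
  refine ModuleCat.hom_ext (LinearMap.ext fun y => ?_)
  obtain ⟨r, rfl⟩ := Submodule.Quotient.mk_surjective _ y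
  show colonφ I I x hJ (Submodule.Quotient.mk r) = x • (Submodule.Quotient.mk r : A ⧸ I)
  rw [colonφ_mk, ← Submodule.Quotient.mk_smul, smul_eq_mul]

end Colon

section Bass

variable (A : Type u) [CommRing A] [IsLocalRing A] [IsNoetherianRing A]
variable (N : Type u) [AddCommGroup N] [Module A N] [Module.Finite A N]

/-- Nakayama step: if `x ∈ m` acts surjectively on the finite module `Ext^i(X, N)`, it vanishes. -/
theorem subsingleton_ext_of_smul_surjective (X : ModuleCat.{u} A) [Module.Finite A X] (i : ℕ)
    (x : A) (hx : x ∈ maximalIdeal A)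
    (h : ∀ e : Ext X (ModuleCat.of A N) i, ∃ e' : Ext X (ModuleCat.of A N) i, x • e' = e) :
    Subsingleton (Ext X (ModuleCat.of A N) i) := by
  haveI : Module.Finite A (ModuleCat.of A N) := inferInstanceAs (Module.Finite A N)
  have hfin : Module.Finite A (Ext X (ModuleCat.of A N) i) := inferInstance
  have hle : (⊤ : Submodule A (Ext X (ModuleCat.of A N) i)) ≤
      maximalIdeal A • (⊤ : Submodule A (Ext X (ModuleCat.of A N) i)) := by
    intro e _
    obtain ⟨e', rfl⟩ := h e
    exact Submodule.smul_mem_smul hx trivial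
  have hbot := Submodule.eq_bot_of_le_smul_of_le_jacobson_bot (maximalIdeal A) ⊤
    Module.Finite.fg_top hle (maximalIdeal_le_jacobson ⊥)
  refine subsingleton_of_forall_eq_zero fun e => ?_
  have : e ∈ (⊤ : Submodule A (Ext X (ModuleCat.of A N) i)) := trivial
  rw [hbot] at this
  exact this

/-- Bass' lemma, main induction. -/
theorem subsingleton_ext_quotient_of_residueField (n : ℕ)
    (h : ∀ i, n < i → Subsingleton
      (Ext (ModuleCat.of A (A ⧸ maximalIdeal A)) (ModuleCat.of A N) i)) (I : Ideal A) :
    ∀ i, n < i → Subsingleton (Ext (ModuleCat.of A (A ⧸ I)) (ModuleCat.of A N) i) := by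
  induction I using WellFoundedGT.induction with
  | ind I ih =>
    intro i hi
    by_cases htop : I = ⊤
    · subst htop
      have hz : Limits.IsZero (ModuleCat.of A (A ⧸ (⊤ : Ideal A))) :=
        ModuleCat.isZero_of_subsingleton _
      exact subsingleton_ext_of_isZero_left hz _ i
    have hle : I ≤ maximalIdeal A := le_maximalIdeal htop
    by_cases hmax : I = maximalIdeal A
    · subst hmax
      exact h i hi
    have hlt : I < maximalIdeal A := lt_of_le_of_ne hle hmax
    obtain ⟨x, hxm, hxI⟩ := SetLike.exists_of_lt hlt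
    have hsup : I < I ⊔ Ideal.span {x} := by
      refine lt_of_le_of_ne le_sup_left fun heq => hxI ?_
      rw [heq]
      exact Ideal.mem_sup_right (Ideal.mem_span_singleton_self x)
    have h3 := ih _ hsup
    by_cases hcolon : I = Submodule.comap (LinearMap.lsmul A A x) I
    · -- `x` is regular on `A/I`: Nakayama
      have hS := colonShortExact I I x hcolon
      haveI : Module.Finite A (ModuleCat.of A (A ⧸ I)) :=
        inferInstanceAs (Module.Finite A (A ⧸ I))
      apply subsingleton_ext_of_smul_surjective A N (ModuleCat.of A (A ⧸ I)) i x hxm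
      intro e
      haveI := h3 (i + 1) (by omega)
      obtain ⟨x₂, hx₂⟩ := Ext.contravariant_sequence_exact₁ hS (ModuleCat.of A N) e
        (add_comm 1 i) (Subsingleton.elim _ _)
      refine ⟨x₂, ?_⟩
      rw [← hx₂]
      show x • x₂ = (Ext.mk₀ (ModuleCat.ofHom (colonφ I I x hcolon))).comp x₂ (zero_add i)
      rw [colonφ_self_eq_smul, Ext.mk₀_smul, Ext.smul_comp, Ext.mk₀_id_comp]
    · -- `(I : x)` is strictly bigger
      have hJ : I < Submodule.comap (LinearMap.lsmul A A x) I := by
        refine lt_of_le_of_ne ?_ hcolon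
        intro r hr
        show x • r ∈ I
        exact I.mul_mem_left x hr
      have h1 := ih _ hJ
      have hS := colonShortExact I _ x rfl
      exact subsingleton_ext_left_X₂ hS (ModuleCat.of A N) i (h1 i hi) (h3 i hi)

/-- Bass' lemma: if `Ext^i(k, N) = 0` for all `i > n`, then `N` has injective dimension `≤ n`. -/
theorem hasInjectiveDimensionLT_of_residueField (n : ℕ)
    (h : ∀ i, n < i → Subsingleton
      (Ext (ModuleCat.of A (A ⧸ maximalIdeal A)) (ModuleCat.of A N) i)) :
    HasInjectiveDimensionLT (ModuleCat.of A N) (n + 1) :=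
  hasInjectiveDimensionLT_of_forall_subsingleton_ext A n _
    (fun I => subsingleton_ext_quotient_of_residueField A N n h I (n + 1) (Nat.lt_succ_self n))

/-- If the residue field has projective dimension `≤ n`, so does every module. -/
theorem hasProjectiveDimensionLT_of_residueField (n : ℕ)
    (hk : HasProjectiveDimensionLT (ModuleCat.of A (A ⧸ maximalIdeal A)) (n + 1))
    (M : ModuleCat.{u} A) : HasProjectiveDimensionLT M (n + 1) := by
  apply hasProjectiveDimensionLT_of_forall_cyclic
  intro I
  haveI : Module.Finite A (ModuleCat.of A (A ⧸ I)) :=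
    inferInstanceAs (Module.Finite A (A ⧸ I))
  apply ModuleCat.hasProjectiveDimensionLT_of_forall_finite
  intro L hL
  have hinj : HasInjectiveDimensionLT (ModuleCat.of A L) (n + 1) :=
    hasInjectiveDimensionLT_of_residueField A L n
      (fun i hi => HasProjectiveDimensionLT.subsingleton _ (n + 1) i (by omega) _)
  exact HasInjectiveDimensionLT.subsingleton (ModuleCat.of A L) (n + 1) (n + 1) le_rfl _

end Bass

end Groth.Agent.H29
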