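import Mathlib
import Groth.Prelude.Def_CAlg
import Groth.Agent.H29.Bass
import Groth.Agent.H29.ABFormula

/-!
# Rees' change of rings lemma for `Ext`, vanishing form (helper29)

Let `f` be a non-zero-divisor of `A` and `B = A/(f)`.  For a finite `B`-module `N`,
`Ext_B^{i+1}(N, B) = 0 ↔ Ext_A^{i+2}(N, A) = 0`  (`rees_subsingleton_iff`).

* `subsingleton_ext_X₁_iff_X₃_succ`, `subsingleton_ext_X₃_succ_iff_forall_exists`:
  dimension shifting along a short exact sequence (contravariant variable).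
* `resQ A f` : restriction of scalars `Mod (A/f) ⥤ Mod A`.
* `sesQ A f` : the short exact sequence `0 → A → A → A/f → 0`.
* `exists_mk₀_comp_extClass_eq`, `eq_of_mk₀_comp_extClass_eq` : the connecting map
  `Hom_A(X, A/f) → Ext¹_A(X, A)` is bijective when `f X = 0`.
* `rees_residueField` : `Ext_B^{i+1}(k, B) = 0 ↔ Ext_A^{i+2}(k, A) = 0` for local rings.
-/

set_option autoImplicit false
set_option linter.style.haveILetI false
set_option linter.unusedSectionVars false
universe u v

namespace Groth.Agent.H29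

open CategoryTheory Abelian

section DimShift

variable {C : Type u} [Category.{v} C] [Abelian C] [HasExt C]
variable {S : ShortComplex C} (hS : S.ShortExact) (Y : C)
include hS

theorem subsingleton_ext_X₁_iff_X₃_succ (i : ℕ) (h₂ : Subsingleton (Ext S.X₂ Y i))
    (h₂' : Subsingleton (Ext S.X₂ Y (i + 1))) :
    Subsingleton (Ext S.X₁ Y i) ↔ Subsingleton (Ext S.X₃ Y (i + 1)) := by
  constructor
  · intro h
    refine subsingleton_of_forall_eq_zero fun x₃ => ?_
    obtain ⟨x₁, rfl⟩ := Ext.contravariant_sequence_exact₃ hS Y x₃ (Subsingleton.elim _ _)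
      (add_comm 1 i)
    rw [Subsingleton.elim x₁ 0, Ext.comp_zero]
  · intro h
    refine subsingleton_of_forall_eq_zero fun x₁ => ?_
    obtain ⟨x₂, rfl⟩ := Ext.contravariant_sequence_exact₁ hS Y x₁ (add_comm 1 i)
      (Subsingleton.elim _ _)
    rw [Subsingleton.elim x₂ 0, Ext.comp_zero]

theorem subsingleton_ext_X₃_succ_iff_forall_exists (i : ℕ)
    (h₂' : Subsingleton (Ext S.X₂ Y (i + 1))) :
    Subsingleton (Ext S.X₃ Y (i + 1)) ↔
      ∀ x₁ : Ext S.X₁ Y i, ∃ x₂ : Ext S.X₂ Y i, (Ext.mk₀ S.f).comp x₂ (zero_add i) = x₁ := by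
  constructor
  · intro h x₁
    exact Ext.contravariant_sequence_exact₁ hS Y x₁ (add_comm 1 i) (Subsingleton.elim _ _)
  · intro h
    refine subsingleton_of_forall_eq_zero fun x₃ => ?_
    obtain ⟨x₁, rfl⟩ := Ext.contravariant_sequence_exact₃ hS Y x₃ (Subsingleton.elim _ _)
      (add_comm 1 i)
    obtain ⟨x₂, rfl⟩ := h x₁
    exact hS.extClass_comp_assoc x₂

end DimShift

section Rees

variable (A : Type u) [CommRing A] (f : A)

/-- restriction of scalars along `A → A/(f)`. -/
noncomputable abbrev resQ : ModuleCat.{u} (A ⧸ Ideal.span {f}) ⥤ ModuleCat.{u} A :=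
  ModuleCat.restrictScalars (Ideal.Quotient.mk (Ideal.span {f}))

theorem smul_id_resQ_eq_zero (X : ModuleCat.{u} (A ⧸ Ideal.span {f})) :
    f • 𝟙 ((resQ A f).obj X) = 0 := by
  refine ModuleCat.hom_ext (LinearMap.ext fun x => ?_)
  show f • x = 0
  rw [ModuleCat.restrictScalars.smul_def,
    Ideal.Quotient.eq_zero_iff_mem.mpr (Ideal.mem_span_singleton_self f), zero_smul]
  rfl

/-- `A/(f)` as an `A`-module (restriction of the regular `A/(f)`-module). -/
noncomputable abbrev quotObj : ModuleCat.{u} A :=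
  (resQ A f).obj (ModuleCat.of (A ⧸ Ideal.span {f}) (A ⧸ Ideal.span {f}))

/-- the projection `A → A/(f)` as an `A`-linear map. -/
noncomputable def piLin : A →ₗ[A] (quotObj A f) where
  toFun a := (show A ⧸ Ideal.span {f} from Ideal.Quotient.mk (Ideal.span {f}) a)
  map_add' a b := map_add (Ideal.Quotient.mk (Ideal.span {f})) a b
  map_smul' a x := by
    show Ideal.Quotient.mk (Ideal.span {f}) (a * x) =
      Ideal.Quotient.mk (Ideal.span {f}) a * Ideal.Quotient.mk (Ideal.span {f}) x
    exact map_mul _ a x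

/-- The short complex `0 → A → A → A/(f) → 0`. -/
noncomputable abbrev sesQ : ShortComplex (ModuleCat.{u} A) :=
  ShortComplex.mk (X₁ := ModuleCat.of A A) (X₂ := ModuleCat.of A A) (X₃ := quotObj A f)
    (f • 𝟙 (ModuleCat.of A A)) (ModuleCat.ofHom (piLin A f)) (by
      refine ModuleCat.hom_ext (LinearMap.ext fun x => ?_)
      show Ideal.Quotient.mk (Ideal.span {f}) (f * x) = 0
      exact Ideal.Quotient.eq_zero_iff_mem.mpr
        (Ideal.mul_mem_right _ _ (Ideal.mem_span_singleton_self f)))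

theorem sesQ_shortExact (hreg : IsSMulRegular A f) : (sesQ A f).ShortExact := by
  refine ModuleCat.shortComplex_shortExact _ ?_ ?_ ?_
  · intro y
    show Ideal.Quotient.mk (Ideal.span {f}) y = 0 ↔ ∃ x : A, f * x = y
    rw [Ideal.Quotient.eq_zero_iff_mem, Ideal.mem_span_singleton']
    constructor
    · rintro ⟨a, rfl⟩
      exact ⟨a, mul_comm f a⟩
    · rintro ⟨a, rfl⟩
      exact ⟨a, mul_comm a f⟩
  · intro a b h
    exact hreg h
  · intro b
    obtain ⟨a, rfl⟩ := Ideal.Quotient.mk_surjective (show A ⧸ Ideal.span {f} from b)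
    exact ⟨a, rfl⟩

theorem hom_self_eq_zero_of_smul_id_eq_zero (hreg : IsSMulRegular A f) (X : ModuleCat.{u} A)
    (hX : f • 𝟙 X = 0) (g : X ⟶ ModuleCat.of A A) : g = 0 := by
  refine ModuleCat.hom_ext (LinearMap.ext fun x => ?_)
  apply hreg
  have h1 : f • x = 0 := congrArg (fun h => h.hom x) hX
  show f • g.hom x = f • (0 : X ⟶ ModuleCat.of A A).hom x
  rw [← map_smul, h1, map_zero, ModuleCat.hom_zero, LinearMap.zero_apply, smul_zero]

/-- surjectivity of the connecting map `Hom(X, A/f) → Ext¹(X, A)` when `f X = 0`. -/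
theorem exists_mk₀_comp_extClass_eq (hreg : IsSMulRegular A f) (X : ModuleCat.{u} A)
    (hX : f • 𝟙 X = 0) (e : Ext X (ModuleCat.of A A) 1) :
    ∃ g : X ⟶ quotObj A f,
      (Ext.mk₀ g).comp (sesQ_shortExact A f hreg).extClass (zero_add 1) = e := by
  have h0 : e.comp (Ext.mk₀ (sesQ A f).f) (add_zero 1) = 0 := by
    show e.comp (Ext.mk₀ (f • 𝟙 (ModuleCat.of A A))) (add_zero 1) = 0
    rw [← Ext.smul_eq_comp_mk₀]
    exact smul_ext_eq_zero_of_smul_id_eq_zero f hX e
  obtain ⟨x₃, hx₃⟩ := Ext.covariant_sequence_exact₁ X (sesQ_shortExact A f hreg) e h0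
    (zero_add 1)
  obtain ⟨g, rfl⟩ := (Ext.mk₀_bijective X (sesQ A f).X₃).2 x₃
  exact ⟨g, hx₃⟩

/-- injectivity of the connecting map `Hom(X, A/f) → Ext¹(X, A)` when `f X = 0`. -/
theorem eq_of_mk₀_comp_extClass_eq (hreg : IsSMulRegular A f) (X : ModuleCat.{u} A)
    (hX : f • 𝟙 X = 0) (a b : X ⟶ quotObj A f)
    (h : (Ext.mk₀ a).comp (sesQ_shortExact A f hreg).extClass (zero_add 1) =
      (Ext.mk₀ b).comp (sesQ_shortExact A f hreg).extClass (zero_add 1)) : a = b := by
  have h0 : (Ext.mk₀ (a - b)).comp (sesQ_shortExact A f hreg).extClass (zero_add 1) = 0 := by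
    rw [sub_eq_add_neg, Ext.mk₀_add, Ext.mk₀_neg, Ext.add_comp, Ext.neg_comp, h,
      add_neg_cancel]
  obtain ⟨x₂, hx₂⟩ := Ext.covariant_sequence_exact₃ X (sesQ_shortExact A f hreg)
    (Ext.mk₀ (a - b)) (zero_add 1) h0
  obtain ⟨g₂, rfl⟩ := (Ext.mk₀_bijective X (sesQ A f).X₂).2 x₂
  have hg₂ : g₂ = 0 := hom_self_eq_zero_of_smul_id_eq_zero A f hreg X hX g₂
  rw [hg₂, Ext.mk₀_zero, Ext.zero_comp] at hx₂
  have h1 : a - b = 0 := (Ext.mk₀_bijective _ _).1 (by rw [Ext.mk₀_zero]; exact hx₂.symm)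
  exact sub_eq_zero.mp h1

/-- `resQ` is full. -/
theorem exists_resQ_map_eq (X Y : ModuleCat.{u} (A ⧸ Ideal.span {f}))
    (g : (resQ A f).obj X ⟶ (resQ A f).obj Y) : ∃ g' : X ⟶ Y, (resQ A f).map g' = g := by
  refine ⟨ModuleCat.ofHom
    { toFun := fun x => (show Y from g.hom (show (resQ A f).obj X from x))
      map_add' := fun x y => g.hom.map_add x y
      map_smul' := fun b x => ?_ }, ?_⟩
  · obtain ⟨a, rfl⟩ := Ideal.Quotient.mk_surjective b
    exact g.hom.map_smul a x
  · rfl

/-- the projection `A^r → (A/f)^r` as an `A`-linear map. -/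
noncomputable def piFinLin (r : ℕ) : (Fin r → A) →ₗ[A]
    ((resQ A f).obj (ModuleCat.of (A ⧸ Ideal.span {f}) (Fin r → A ⧸ Ideal.span {f}))) where
  toFun v := (show Fin r → A ⧸ Ideal.span {f} from
    fun i => Ideal.Quotient.mk (Ideal.span {f}) (v i))
  map_add' v w := by
    funext i
    exact map_add (Ideal.Quotient.mk (Ideal.span {f})) (v i) (w i)
  map_smul' a v := by
    funext i
    show Ideal.Quotient.mk (Ideal.span {f}) (a * v i) =
      Ideal.Quotient.mk (Ideal.span {f}) a * Ideal.Quotient.mk (Ideal.span {f}) (v i)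
    exact map_mul _ a (v i)

theorem hasProjectiveDimensionLT_resQ_free (hreg : IsSMulRegular A f) (r : ℕ) :
    HasProjectiveDimensionLT ((resQ A f).obj
      (ModuleCat.of (A ⧸ Ideal.span {f}) (Fin r → A ⧸ Ideal.span {f}))) 2 := by
  let S : ShortComplex (ModuleCat.{u} A) :=
    ShortComplex.mk (X₁ := ModuleCat.of A (Fin r → A)) (X₂ := ModuleCat.of A (Fin r → A))
      (X₃ := (resQ A f).obj
        (ModuleCat.of (A ⧸ Ideal.span {f}) (Fin r → A ⧸ Ideal.span {f})))
      (f • 𝟙 (ModuleCat.of A (Fin r → A))) (ModuleCat.ofHom (piFinLin A f r)) (by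
        refine ModuleCat.hom_ext (LinearMap.ext fun v => ?_)
        funext i
        show Ideal.Quotient.mk (Ideal.span {f}) (f * v i) = 0
        exact Ideal.Quotient.eq_zero_iff_mem.mpr
          (Ideal.mul_mem_right _ _ (Ideal.mem_span_singleton_self f)))
  have hS : S.ShortExact := by
    refine ModuleCat.shortComplex_shortExact _ ?_ ?_ ?_
    · intro v
      constructor
      · intro hv
        have hv' : ∀ i, ∃ c, c * f = v i := fun i =>
          Ideal.mem_span_singleton'.mp (Ideal.Quotient.eq_zero_iff_mem.mp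
            (congrArg (fun w : Fin r → A ⧸ Ideal.span {f} => w i) hv))
        choose c hc using hv'
        refine ⟨c, ?_⟩
        funext i
        show f * c i = v i
        rw [mul_comm, hc]
      · rintro ⟨c, rfl⟩
        funext i
        show Ideal.Quotient.mk (Ideal.span {f}) (f * c i) = 0
        exact Ideal.Quotient.eq_zero_iff_mem.mpr
          (Ideal.mul_mem_right _ _ (Ideal.mem_span_singleton_self f))
    · intro v w h
      funext i
      exact hreg (congrFun h i)
    · intro w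
      refine ⟨fun i => (Ideal.Quotient.mk_surjective
        ((show Fin r → A ⧸ Ideal.span {f} from w) i)).choose, ?_⟩
      funext i
      exact (Ideal.Quotient.mk_surjective
        ((show Fin r → A ⧸ Ideal.span {f} from w) i)).choose_spec
  have hp : Projective (ModuleCat.of A (Fin r → A)) :=
    (IsProjective.iff_projective (R := A) (P := Fin r → A)).mp inferInstance
  have h1 : HasProjectiveDimensionLT S.X₁ 1 := inferInstanceAs
    (HasProjectiveDimensionLT (ModuleCat.of A (Fin r → A)) 1)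
  have h2 : HasProjectiveDimensionLT S.X₂ 2 :=
    hasProjectiveDimensionLT_of_ge (ModuleCat.of A (Fin r → A)) 1 2 (by omega)
  exact hS.hasProjectiveDimensionLT_X₃ 1 h1 h2

variable [IsNoetherianRing A]

theorem rees_one (hreg : IsSMulRegular A f) (N : Type u) [AddCommGroup N]
    [Module (A ⧸ Ideal.span {f}) N] [Module.Finite (A ⧸ Ideal.span {f}) N] :
    Subsingleton (Ext (ModuleCat.of (A ⧸ Ideal.span {f}) N)
      (ModuleCat.of (A ⧸ Ideal.span {f}) (A ⧸ Ideal.span {f})) 1) ↔
    Subsingleton (Ext ((resQ A f).obj (ModuleCat.of (A ⧸ Ideal.span {f}) N))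
      (ModuleCat.of A A) 2) := by
  obtain ⟨r, π, hπ⟩ := Module.Finite.exists_fin' (A ⧸ Ideal.span {f}) N
  have hS : π.shortComplexKer.ShortExact := LinearMap.shortExact_shortComplexKer hπ
  have hS' := hS.map_of_exact (resQ A f)
  have hproj : Projective
      (ModuleCat.of (A ⧸ Ideal.span {f}) (Fin r → A ⧸ Ideal.span {f})) :=
    (IsProjective.iff_projective (R := A ⧸ Ideal.span {f})
      (P := Fin r → A ⧸ Ideal.span {f})).mp inferInstance
  have hB1 : Subsingleton (Ext π.shortComplexKer.X₂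
      (ModuleCat.of (A ⧸ Ideal.span {f}) (A ⧸ Ideal.span {f})) (0 + 1)) :=
    HasProjectiveDimensionLT.subsingleton
      (ModuleCat.of (A ⧸ Ideal.span {f}) (Fin r → A ⧸ Ideal.span {f})) 1 1 le_rfl _
  have hpd := hasProjectiveDimensionLT_resQ_free A f hreg r
  have hA2 : Subsingleton (Ext (π.shortComplexKer.map (resQ A f)).X₂
      (ModuleCat.of A A) (1 + 1)) :=
    HasProjectiveDimensionLT.subsingleton ((resQ A f).obj
      (ModuleCat.of (A ⧸ Ideal.span {f}) (Fin r → A ⧸ Ideal.span {f}))) 2 2 le_rfl _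
  have e1 := subsingleton_ext_X₃_succ_iff_forall_exists hS
    (ModuleCat.of (A ⧸ Ideal.span {f}) (A ⧸ Ideal.span {f})) 0 hB1
  have e2 := subsingleton_ext_X₃_succ_iff_forall_exists hS' (ModuleCat.of A A) 1 hA2
  refine e1.trans (Iff.trans ?_ e2.symm)
  have hK0 := smul_id_resQ_eq_zero A f π.shortComplexKer.X₁
  have hF0 := smul_id_resQ_eq_zero A f π.shortComplexKer.X₂
  constructor
  · intro hB y₁
    obtain ⟨ψ', hψ'⟩ := exists_mk₀_comp_extClass_eq A f hreg _ hK0 y₁
    obtain ⟨ψ, rfl⟩ := exists_resQ_map_eq A f π.shortComplexKer.X₁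
      (ModuleCat.of (A ⧸ Ideal.span {f}) (A ⧸ Ideal.span {f})) ψ'
    obtain ⟨x₂, hx₂⟩ := hB (Ext.mk₀ ψ)
    obtain ⟨χ, rfl⟩ := (Ext.mk₀_bijective _ _).2 x₂
    rw [Ext.mk₀_comp_mk₀] at hx₂
    have hχ := (Ext.mk₀_bijective _ _).1 hx₂
    refine ⟨(Ext.mk₀ ((resQ A f).map χ)).comp (sesQ_shortExact A f hreg).extClass
      (zero_add 1), ?_⟩
    have key := Ext.mk₀_comp_mk₀_assoc ((resQ A f).map π.shortComplexKer.f)
      ((resQ A f).map χ) (sesQ_shortExact A f hreg).extClass
    refine Eq.trans key ?_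
    rw [← Functor.map_comp, hχ]
    exact hψ'
  · intro hA x₁
    obtain ⟨ψ, rfl⟩ := (Ext.mk₀_bijective _ _).2 x₁
    obtain ⟨y₂, hy₂⟩ := hA ((Ext.mk₀ ((resQ A f).map ψ)).comp
      (sesQ_shortExact A f hreg).extClass (zero_add 1))
    obtain ⟨χ', rfl⟩ := exists_mk₀_comp_extClass_eq A f hreg _ hF0 y₂
    obtain ⟨χ, rfl⟩ := exists_resQ_map_eq A f π.shortComplexKer.X₂
      (ModuleCat.of (A ⧸ Ideal.span {f}) (A ⧸ Ideal.span {f})) χ'
    have key := Ext.mk₀_comp_mk₀_assoc ((resQ A f).map π.shortComplexKer.f)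
      ((resQ A f).map χ) (sesQ_shortExact A f hreg).extClass
    have hy₂' : (Ext.mk₀ ((resQ A f).map π.shortComplexKer.f ≫ (resQ A f).map χ)).comp
        (sesQ_shortExact A f hreg).extClass (zero_add 1) =
        (Ext.mk₀ ((resQ A f).map ψ)).comp (sesQ_shortExact A f hreg).extClass (zero_add 1) :=
      key.symm.trans hy₂
    have h3 := eq_of_mk₀_comp_extClass_eq A f hreg _ hK0 _ _ hy₂'
    have h4 : π.shortComplexKer.f ≫ χ = ψ :=
      (resQ A f).map_injective (by rw [Functor.map_comp]; exact h3)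
    exact ⟨Ext.mk₀ χ, by rw [Ext.mk₀_comp_mk₀, h4]⟩

/-- **Rees' lemma**, vanishing form. -/
theorem rees_subsingleton_iff (hreg : IsSMulRegular A f) (i : ℕ) :
    ∀ (N : Type u) [AddCommGroup N] [Module (A ⧸ Ideal.span {f}) N]
      [Module.Finite (A ⧸ Ideal.span {f}) N],
      (Subsingleton (Ext (ModuleCat.of (A ⧸ Ideal.span {f}) N)
        (ModuleCat.of (A ⧸ Ideal.span {f}) (A ⧸ Ideal.span {f})) (i + 1)) ↔
      Subsingleton (Ext ((resQ A f).obj (ModuleCat.of (A ⧸ Ideal.span {f}) N))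
        (ModuleCat.of A A) (i + 2))) := by
  induction i with
  | zero =>
    intro N _ _ _
    exact rees_one A f hreg N
  | succ i ih =>
    intro N _ _ _
    obtain ⟨r, π, hπ⟩ := Module.Finite.exists_fin' (A ⧸ Ideal.span {f}) N
    have hS : π.shortComplexKer.ShortExact := LinearMap.shortExact_shortComplexKer hπ
    have hS' := hS.map_of_exact (resQ A f)
    have hproj : Projective
        (ModuleCat.of (A ⧸ Ideal.span {f}) (Fin r → A ⧸ Ideal.span {f})) :=
      (IsProjective.iff_projective (R := A ⧸ Ideal.span {f})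
        (P := Fin r → A ⧸ Ideal.span {f})).mp inferInstance
    have hB1 : Subsingleton (Ext π.shortComplexKer.X₂
        (ModuleCat.of (A ⧸ Ideal.span {f}) (A ⧸ Ideal.span {f})) (i + 1)) :=
      HasProjectiveDimensionLT.subsingleton
        (ModuleCat.of (A ⧸ Ideal.span {f}) (Fin r → A ⧸ Ideal.span {f})) 1 (i + 1)
        (by omega) _
    have hB2 : Subsingleton (Ext π.shortComplexKer.X₂
        (ModuleCat.of (A ⧸ Ideal.span {f}) (A ⧸ Ideal.span {f})) (i + 1 + 1)) :=
      HasProjectiveDimensionLT.subsingleton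
        (ModuleCat.of (A ⧸ Ideal.span {f}) (Fin r → A ⧸ Ideal.span {f})) 1 (i + 1 + 1)
        (by omega) _
    have hpd := hasProjectiveDimensionLT_resQ_free A f hreg r
    have hA1 : Subsingleton (Ext (π.shortComplexKer.map (resQ A f)).X₂
        (ModuleCat.of A A) (i + 2)) :=
      HasProjectiveDimensionLT.subsingleton ((resQ A f).obj
        (ModuleCat.of (A ⧸ Ideal.span {f}) (Fin r → A ⧸ Ideal.span {f}))) 2 (i + 2)
        (by omega) _
    have hA2 : Subsingleton (Ext (π.shortComplexKer.map (resQ A f)).X₂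
        (ModuleCat.of A A) (i + 2 + 1)) :=
      HasProjectiveDimensionLT.subsingleton ((resQ A f).obj
        (ModuleCat.of (A ⧸ Ideal.span {f}) (Fin r → A ⧸ Ideal.span {f}))) 2 (i + 2 + 1)
        (by omega) _
    have e1 := subsingleton_ext_X₁_iff_X₃_succ hS
      (ModuleCat.of (A ⧸ Ideal.span {f}) (A ⧸ Ideal.span {f})) (i + 1) hB1 hB2
    have e2 := subsingleton_ext_X₁_iff_X₃_succ hS' (ModuleCat.of A A) (i + 2) hA1 hA2
    have e3 := ih (LinearMap.ker π)
    exact e1.symm.trans (e3.trans e2)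

end Rees

section Local

open IsLocalRing

variable (A : Type u) [CommRing A] [IsLocalRing A] [IsNoetherianRing A] (f : A)
  [IsLocalRing (A ⧸ Ideal.span {f})]

omit [IsNoetherianRing A] in
theorem comap_mk_maximalIdeal :
    (maximalIdeal (A ⧸ Ideal.span {f})).comap (Ideal.Quotient.mk (Ideal.span {f})) =
      maximalIdeal A :=
  IsLocalRing.eq_maximalIdeal (Ideal.comap_isMaximal_of_surjective
    (Ideal.Quotient.mk (Ideal.span {f})) Ideal.Quotient.mk_surjective
    (K := maximalIdeal (A ⧸ Ideal.span {f})))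

/-- the map `A → k_B` as an `A`-linear map into the restricted module. -/
noncomputable def resLin : A →ₗ[A] ((resQ A f).obj
    (ModuleCat.of (A ⧸ Ideal.span {f}) (ResidueField (A ⧸ Ideal.span {f})))) where
  toFun a := (show ResidueField (A ⧸ Ideal.span {f}) from
    residue (A ⧸ Ideal.span {f}) (Ideal.Quotient.mk (Ideal.span {f}) a))
  map_add' a b := by
    show residue (A ⧸ Ideal.span {f}) (Ideal.Quotient.mk (Ideal.span {f}) (a + b)) =
      residue (A ⧸ Ideal.span {f}) (Ideal.Quotient.mk (Ideal.span {f}) a) +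
        residue (A ⧸ Ideal.span {f}) (Ideal.Quotient.mk (Ideal.span {f}) b)
    rw [map_add, map_add]
  map_smul' a x := by
    show residue (A ⧸ Ideal.span {f}) (Ideal.Quotient.mk (Ideal.span {f}) (a * x)) =
      Ideal.Quotient.mk (Ideal.span {f}) a •
        residue (A ⧸ Ideal.span {f}) (Ideal.Quotient.mk (Ideal.span {f}) x)
    rw [map_mul, map_mul, Algebra.smul_def]
    rfl

omit [IsNoetherianRing A] in
theorem resLin_surjective : Function.Surjective (resLin A f) := by
  intro y
  obtain ⟨b, hb⟩ := residue_surjective (show ResidueField (A ⧸ Ideal.span {f}) from y)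
  obtain ⟨a, rfl⟩ := Ideal.Quotient.mk_surjective b
  exact ⟨a, hb⟩

omit [IsNoetherianRing A] in
theorem ker_resLin : LinearMap.ker (resLin A f) = maximalIdeal A := by
  ext a
  rw [LinearMap.mem_ker, ← comap_mk_maximalIdeal A f, Ideal.mem_comap]
  exact residue_eq_zero_iff _

/-- the residue field of `A/(f)`, restricted to `A`, is the residue field of `A`. -/
noncomputable def resResidueIso : (resQ A f).obj
    (ModuleCat.of (A ⧸ Ideal.span {f}) (ResidueField (A ⧸ Ideal.span {f}))) ≅
      ModuleCat.of A (A ⧸ maximalIdeal A) :=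
  (((Submodule.quotEquivOfEq _ _ (ker_resLin A f).symm).trans
    (LinearMap.quotKerEquivOfSurjective (resLin A f) (resLin_surjective A f))).toModuleIso).symm

/-- Rees' lemma for the residue field. -/
theorem rees_residueField (hreg : IsSMulRegular A f) (i : ℕ) :
    Subsingleton (Ext
      (ModuleCat.of (A ⧸ Ideal.span {f}) (ResidueField (A ⧸ Ideal.span {f})))
      (ModuleCat.of (A ⧸ Ideal.span {f}) (A ⧸ Ideal.span {f})) (i + 1)) ↔
    Subsingleton (Ext (ModuleCat.of A (A ⧸ maximalIdeal A)) (ModuleCat.of A A) (i + 2)) := by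
  haveI : Module.Finite (A ⧸ Ideal.span {f}) (ResidueField (A ⧸ Ideal.span {f})) :=
    inferInstanceAs (Module.Finite (A ⧸ Ideal.span {f})
      ((A ⧸ Ideal.span {f}) ⧸ maximalIdeal (A ⧸ Ideal.span {f})))
  refine (rees_subsingleton_iff A f hreg i (ResidueField (A ⧸ Ideal.span {f}))).trans ?_
  exact ⟨fun h => subsingleton_ext_of_iso_left (resResidueIso A f) _ _ h,
    fun h => subsingleton_ext_of_iso_left (resResidueIso A f).symm _ _ h⟩

end Local

end Groth.Agent.H29
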