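import Mathlib
import Groth.Prelude.Def_CAlg
import Groth.Agent.H29.ReesExt
import Groth.Agent.H29.MaxRegSeq
import Groth.Agent.H29.Depth
import Groth.Agent.H29.DepthFinite
import Groth.Agent.H29.RegLocal3
import Groth.Agent.H29.CMLib

/-!
# Gorenstein local rings (helper29)

* `isGorensteinLocalRing_iff_ext` : Gorenstein iff `Ext^i(k, A) = 0` for `i ≫ 0`.
* `isGorensteinLocalRing_quotient_iff` : `A` Gorenstein iff `A/(f)` Gorenstein, `f` regular.
* `subsingleton_ext_residueField_of_embedding` : if `Ext^i(k, A) = 0` for large `i`, and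
  `k ↪ Q` with `pd Q ≤ e`, then `Ext^i(k, A) = 0` for all `i > e`.
* `exists_embedding_of_depth` : there is `Q ⊇ k` with `pd Q ≤ depth A`.
* `hasInjectiveDimensionLT_of_gorenstein` : `id A ≤ depth A` for Gorenstein `A`.
* `ringKrullDim_eq_zero_of_injective_self` : a self-injective Noetherian local ring has
  dimension zero.
* `ringKrullDim_eq_depth_of_gorenstein` : Gorenstein local rings are Cohen–Macaulay.
* `depth_pos_iff_subsingleton_ext_of_gorenstein`.
-/

set_option autoImplicit false
set_option linter.style.haveILetI false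
set_option linter.unusedSectionVars false
universe u v

namespace Groth.Agent.H29

open CategoryTheory Abelian IsLocalRing RingTheory.Sequence

section Gor

variable (A : Type u) [CommRing A] [IsLocalRing A] [IsNoetherianRing A]

theorem isGorensteinLocalRing_iff_ext :
    LocCoh.IsGorensteinLocalRing A ↔ ∃ N : ℕ, ∀ i : ℕ, N ≤ i →
      Subsingleton (Ext (ModuleCat.of A (A ⧸ maximalIdeal A)) (ModuleCat.of A A) i) := by
  constructor
  · intro hG
    obtain ⟨n, hn⟩ := hG.exists_hasInjectiveDimensionLT
    exact ⟨n, fun i hi => HasInjectiveDimensionLT.subsingleton (ModuleCat.of A A) n i hi _⟩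
  · rintro ⟨N₀, hN⟩
    exact { exists_hasInjectiveDimensionLT := ⟨N₀ + 1,
      hasInjectiveDimensionLT_of_residueField A A N₀ (fun i hi => hN i hi.le)⟩ }

/-- `A` is Gorenstein iff `A/(f)` is, for a regular element `f` of the maximal ideal. -/
theorem isGorensteinLocalRing_quotient_iff (f : A) (_hf : f ∈ maximalIdeal A)
    (hreg : IsSMulRegular A f) [IsLocalRing (A ⧸ Ideal.span {f})] :
    LocCoh.IsGorensteinLocalRing A ↔ LocCoh.IsGorensteinLocalRing (A ⧸ Ideal.span {f}) := by
  rw [isGorensteinLocalRing_iff_ext A, isGorensteinLocalRing_iff_ext (A ⧸ Ideal.span {f})]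
  have key := rees_residueField A f hreg
  constructor
  · rintro ⟨N₀, hN⟩
    refine ⟨N₀ + 1, fun i hi => ?_⟩
    obtain ⟨j, rfl⟩ : ∃ j, i = j + 1 := ⟨i - 1, by omega⟩
    exact (key j).mpr (hN (j + 2) (by omega))
  · rintro ⟨N₁, hN⟩
    refine ⟨N₁ + 2, fun i hi => ?_⟩
    obtain ⟨j, rfl⟩ : ∃ j, i = j + 2 := ⟨i - 2, by omega⟩
    exact (key j).mp (hN (j + 1) (by omega))

/-- If `Ext^i(k, A) = 0` for `i ≫ 0` and `k` embeds into `Q` with `pd Q ≤ e`, then
`Ext^i(k, A) = 0` for all `i > e`. -/
theorem subsingleton_ext_residueField_of_embedding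
    (hG : ∃ N : ℕ, ∀ i, N ≤ i →
      Subsingleton (Ext (ModuleCat.of A (A ⧸ maximalIdeal A)) (ModuleCat.of A A) i))
    (Q : Type u) [AddCommGroup Q] [Module A Q] (ι : (A ⧸ maximalIdeal A) →ₗ[A] Q)
    (hι : Function.Injective ι) (e : ℕ)
    (hQ : HasProjectiveDimensionLT (ModuleCat.of A Q) (e + 1)) :
    ∀ i, e < i →
      Subsingleton (Ext (ModuleCat.of A (A ⧸ maximalIdeal A)) (ModuleCat.of A A) i) := by
  obtain ⟨N, hN⟩ := hG
  have hS : (ModuleCat.shortComplexOfCompEqZero ι (Submodule.mkQ (LinearMap.range ι))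
      (LinearMap.exact_map_mkQ_range ι).linearMap_comp_eq_zero).ShortExact :=
    ModuleCat.shortComplex_shortExact _ (LinearMap.exact_map_mkQ_range ι) hι
      (Submodule.mkQ_surjective _)
  have key : ∀ j : ℕ, ∀ i, e < i → N ≤ i + j →
      Subsingleton (Ext (ModuleCat.of A (A ⧸ maximalIdeal A)) (ModuleCat.of A A) i) := by
    intro j
    induction j with
    | zero =>
      intro i _ hi
      exact hN i (by omega)
    | succ j ih =>
      intro i hei hi
      have hinj : HasInjectiveDimensionLT (ModuleCat.of A A) (i + 1) :=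
        hasInjectiveDimensionLT_of_residueField A A i
          (fun i' hi' => ih i' (by omega) (by omega))
      refine subsingleton_of_forall_eq_zero fun x₁ => ?_
      haveI h3 : Subsingleton (Ext (ModuleCat.of A (Q ⧸ LinearMap.range ι))
          (ModuleCat.of A A) (i + 1)) :=
        HasInjectiveDimensionLT.subsingleton (ModuleCat.of A A) (i + 1) (i + 1) le_rfl _
      haveI h2 : Subsingleton (Ext (ModuleCat.of A Q) (ModuleCat.of A A) i) :=
        HasProjectiveDimensionLT.subsingleton (ModuleCat.of A Q) (e + 1) i (by omega) _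
      obtain ⟨x₂, rfl⟩ := Ext.contravariant_sequence_exact₁ hS (ModuleCat.of A A) x₁
        (add_comm 1 i) (Subsingleton.elim _ _)
      rw [Subsingleton.elim x₂ 0, Ext.comp_zero]
  intro i hi
  exact key N i hi (by omega)

/-- There is a finite module `Q` containing `k` with `pd Q ≤ depth A`. -/
theorem exists_embedding_of_depth (t : ℕ) (ht : LocCoh.depth A A = t) :
    ∃ (Q : Type u) (_ : AddCommGroup Q) (_ : Module A Q)
      (ι : (A ⧸ maximalIdeal A) →ₗ[A] Q), Function.Injective ι ∧
        HasProjectiveDimensionLT (ModuleCat.of A Q) (t + 1) := by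
  have hIM : maximalIdeal A • (⊤ : Submodule A A) ≠ ⊤ := maximalIdeal_smul_top_ne_top A A
  obtain ⟨rs, -, hreg, hmem, hmax⟩ := exists_maximal_isWeaklyRegular_extension
    (maximalIdeal A) A hIM [] (IsWeaklyRegular.nil A A) (by simp)
  have hlen : (rs.length : ℕ∞) = LocCoh.depth A A :=
    length_eq_idealDepth_of_maximal (maximalIdeal A) A hIM rs hreg hmem hmax
  have h1 := idealDepth_quotient_ofList_add_length (maximalIdeal A) rs A hIM hmem hreg
  have h0 : LocCoh.depth A (A ⧸ Ideal.ofList rs • (⊤ : Submodule A A)) = 0 := by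
    apply enat_add_natCast_cancel rs.length
    rw [zero_add]
    exact h1.trans hlen.symm
  have hass := (depth_eq_zero_iff_mem_ass A _).mp h0
  obtain ⟨-, ι, hι⟩ := (isAssociatedPrime_iff_exists_injective_linearMap _ _).mp hass
  refine ⟨A ⧸ Ideal.ofList rs • (⊤ : Submodule A A), inferInstance, inferInstance, ι, hι, ?_⟩
  have hlen' : rs.length = t := by
    rw [ht] at hlen
    exact_mod_cast hlen
  haveI : Nontrivial (ModuleCat.of A A) := inferInstanceAs (Nontrivial A)
  haveI : Module.Finite A (ModuleCat.of A A) := inferInstanceAs (Module.Finite A A)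
  have hpd := ModuleCat.projectiveDimension_quotient_eq_add_length_of_isWeaklyRegular
    (ModuleCat.of A A) rs hreg hmem
  have hpA : projectiveDimension (ModuleCat.of A A) = 0 := by
    rw [projectiveDimension_eq_zero_iff]
    have hp : Projective (ModuleCat.of A A) :=
      (IsProjective.iff_projective (R := A) (P := A)).mp inferInstance
    refine ⟨hp, ?_⟩
    intro hz
    exact not_subsingleton A (ModuleCat.isZero_iff_subsingleton.mp hz)
  rw [hpA, zero_add, hlen'] at hpd
  exact (projectiveDimension_le_iff _ t).mp (le_of_eq hpd)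

/-- For a Gorenstein local ring, `id A ≤ depth A`. -/
theorem hasInjectiveDimensionLT_of_gorenstein (hG : LocCoh.IsGorensteinLocalRing A) (t : ℕ)
    (ht : LocCoh.depth A A = t) : HasInjectiveDimensionLT (ModuleCat.of A A) (t + 1) := by
  obtain ⟨Q, _, _, ι, hι, hQ⟩ := exists_embedding_of_depth A t ht
  exact hasInjectiveDimensionLT_of_residueField A A t
    (subsingleton_ext_residueField_of_embedding A ((isGorensteinLocalRing_iff_ext A).mp hG)
      Q ι hι t hQ)

/-- A self-injective Noetherian local ring has Krull dimension zero. -/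
theorem ringKrullDim_eq_zero_of_injective_self
    (hinj : HasInjectiveDimensionLT (ModuleCat.of A A) 1) : ringKrullDim A = 0 := by
  obtain ⟨p, hpmin, hpm⟩ :=
    Ideal.exists_minimalPrimes_le (bot_le : (⊥ : Ideal A) ≤ maximalIdeal A)
  have hpprime : p.IsPrime := hpmin.1.1
  have hann : Module.annihilator A A = ⊥ := Module.annihilator_eq_bot.mpr inferInstance
  have hpass : p ∈ associatedPrimes A A :=
    Module.associatedPrimes.minimalPrimes_annihilator_subset_associatedPrimes A A
      (by rw [hann]; exact hpmin)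
  obtain ⟨-, g, hg⟩ := (isAssociatedPrime_iff_exists_injective_linearMap _ _).mp hpass
  have hpeq : p = maximalIdeal A := by
    by_contra hne
    have hlt : p < maximalIdeal A := lt_of_le_of_ne hpm hne
    obtain ⟨x, hxm, hxp⟩ := SetLike.exists_of_lt hlt
    have hcolon : p = Submodule.comap (LinearMap.lsmul A A x) p := by
      ext r
      constructor
      · intro hr
        exact p.mul_mem_left x hr
      · intro hr
        have hxr : x * r ∈ p := hr
        exact (hpprime.mem_or_mem hxr).resolve_left hxp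
    have hS := colonShortExact p p x hcolon
    haveI : Module.Finite A (ModuleCat.of A (A ⧸ p)) :=
      inferInstanceAs (Module.Finite A (A ⧸ p))
    have hsub : Subsingleton (Ext (ModuleCat.of A (A ⧸ p)) (ModuleCat.of A A) 0) := by
      apply subsingleton_ext_of_smul_surjective A A (ModuleCat.of A (A ⧸ p)) 0 x hxm
      intro e
      haveI : Subsingleton (Ext (ModuleCat.of A (A ⧸ (p ⊔ Ideal.span {x})))
          (ModuleCat.of A A) (0 + 1)) :=
        HasInjectiveDimensionLT.subsingleton (ModuleCat.of A A) 1 (0 + 1) le_rfl _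
      obtain ⟨x₂, hx₂⟩ := Ext.contravariant_sequence_exact₁ hS (ModuleCat.of A A) e
        (add_comm 1 0) (Subsingleton.elim _ _)
      refine ⟨x₂, ?_⟩
      rw [← hx₂]
      show x • x₂ = (Ext.mk₀ (ModuleCat.ofHom (colonφ p p x hcolon))).comp x₂ (zero_add 0)
      rw [colonφ_self_eq_smul, Ext.mk₀_smul, Ext.smul_comp, Ext.mk₀_id_comp]
    have h0 : Ext.mk₀ (ModuleCat.ofHom g) = 0 := Subsingleton.elim _ _
    rw [Ext.mk₀_eq_zero_iff] at h0
    have hg0 : g = 0 := by
      have := congrArg ModuleCat.Hom.hom h0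
      simpa using this
    have h1 : (Ideal.Quotient.mk p 1 : A ⧸ p) = 0 := hg (by rw [hg0]; simp)
    exact hpprime.ne_top (p.eq_top_iff_one.mpr (Ideal.Quotient.eq_zero_iff_mem.mp h1))
  have hmin : maximalIdeal A ∈ minimalPrimes A := by
    rw [← hpeq]
    exact hpmin
  have hht : (maximalIdeal A).height = 0 := Ideal.height_eq_zero_iff.mpr hmin
  rw [← IsLocalRing.maximalIdeal_height_eq_ringKrullDim, hht]
  rfl

end Gor

section CM

theorem ringKrullDim_eq_depth_of_gorenstein_aux (t : ℕ) :
    ∀ (A : Type u) [CommRing A] [IsLocalRing A] [IsNoetherianRing A],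
      LocCoh.IsGorensteinLocalRing A → LocCoh.depth A A = t → ringKrullDim A = t := by
  induction t with
  | zero =>
    intro A _ _ _ hG ht
    have := hasInjectiveDimensionLT_of_gorenstein A hG 0 ht
    rw [ringKrullDim_eq_zero_of_injective_self A this]
    rfl
  | succ t ih =>
    intro A _ _ _ hG ht
    have hIM : maximalIdeal A • (⊤ : Submodule A A) ≠ ⊤ := maximalIdeal_smul_top_ne_top A A
    obtain ⟨x, hx, hreg⟩ := exists_isSMulRegular_mem_of_one_le_idealDepth A (maximalIdeal A) hIM
      (by
        show (1 : ℕ∞) ≤ LocCoh.depth A A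
        rw [ht]
        exact_mod_cast Nat.succ_le_succ (Nat.zero_le t))
    have hne : Ideal.span {x} ≠ ⊤ := fun h =>
      (maximalIdeal.isMaximal A).ne_top (top_le_iff.mp (h.ge.trans
        ((Ideal.span_singleton_le_iff_mem _).mpr hx)))
    haveI : Nontrivial (A ⧸ Ideal.span {x}) := Ideal.Quotient.nontrivial_iff.mpr hne
    haveI : IsLocalRing (A ⧸ Ideal.span {x}) :=
      IsLocalRing.of_surjective' (Ideal.Quotient.mk _) Ideal.Quotient.mk_surjective
    have hGB : LocCoh.IsGorensteinLocalRing (A ⧸ Ideal.span {x}) :=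
      (isGorensteinLocalRing_quotient_iff A x hx hreg).mp hG
    haveI : IsLocalHom (algebraMap A (A ⧸ Ideal.span {x})) :=
      IsLocalHom.of_surjective _ Ideal.Quotient.mk_surjective
    have h2 := depth_eq_depth_of_isLocalHom A (A ⧸ Ideal.span {x}) (A ⧸ Ideal.span {x})
    have h3 := depth_quotSMulTop_add_one A A x hx hreg
    have h4 : LocCoh.depth A (QuotSMulTop x A) = LocCoh.depth A (A ⧸ Ideal.span {x}) :=
      idealDepth_congr _ (quotSMulTopEquivQuotientSpan A x)
    have hdB : LocCoh.depth (A ⧸ Ideal.span {x}) (A ⧸ Ideal.span {x}) = t := by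
      apply enat_add_natCast_cancel 1
      rw [← h2, ← h4, Nat.cast_one, h3, ht]
      push_cast
      rfl
    have hdimB := ih (A ⧸ Ideal.span {x}) hGB hdB
    have hdim := ringKrullDim_quotient_span_singleton_succ_eq_ringKrullDim hreg hx
    rw [← hdim, hdimB]
    push_cast
    rfl

/-- A Gorenstein local ring is Cohen–Macaulay: `dim A = depth A`. -/
theorem ringKrullDim_eq_depth_of_gorenstein (A : Type u) [CommRing A] [IsLocalRing A]
    [IsNoetherianRing A] (hG : LocCoh.IsGorensteinLocalRing A) :
    ringKrullDim A = ((LocCoh.depth A A : ℕ∞) : WithBot ℕ∞) := by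
  obtain ⟨t, ht⟩ := exists_natCast_eq_depth A A
  rw [ringKrullDim_eq_depth_of_gorenstein_aux t A hG ht, ht]
  rfl

theorem isCohenMacaulayLocalRing_of_gorenstein (A : Type u) [CommRing A]
    [hG : LocCoh.IsGorensteinLocalRing A] : LocCoh.IsCohenMacaulayLocalRing A where
  supportDim_eq_depth := by
    rw [Module.supportDim_self_eq_ringKrullDim]
    exact ringKrullDim_eq_depth_of_gorenstein A hG

end CM

section DepthPos

variable (R : Type u) [CommRing R] [IsLocalRing R] [IsNoetherianRing R]

theorem depth_pos_iff_subsingleton_ext_of_gorenstein (hG : LocCoh.IsGorensteinLocalRing R)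
    (n : ℕ) (hn : ringKrullDim R = n) (M : Type u) [AddCommGroup M] [Module R M]
    [Module.Finite R M] [Nontrivial M] :
    0 < LocCoh.depth R M ↔
      Subsingleton (Ext (ModuleCat.of R M) (ModuleCat.of R R) n) := by
  have hdepth : LocCoh.depth R R = n := by
    obtain ⟨t, ht⟩ := exists_natCast_eq_depth R R
    have h1 := ringKrullDim_eq_depth_of_gorenstein_aux t R hG ht
    rw [hn] at h1
    rw [ht, withBot_natCast_inj h1]
  have hinj := hasInjectiveDimensionLT_of_gorenstein R hG n hdepth
  have hne : Nontrivial (Ext (ModuleCat.of R (R ⧸ maximalIdeal R)) (ModuleCat.of R R) n) := by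
    have h1 := nontrivial_ext_of_depth_eq R R n hdepth
    by_contra hcon
    rw [not_nontrivial_iff_subsingleton] at hcon
    have := subsingleton_ext_of_iso_left
      ((Shrink.linearEquiv R (R ⧸ maximalIdeal R)).toModuleIso).symm (ModuleCat.of R R) n hcon
    exact not_subsingleton _ this
  have hIM : maximalIdeal R • (⊤ : Submodule R M) ≠ ⊤ := maximalIdeal_smul_top_ne_top R M
  constructor
  · intro hpos
    obtain ⟨x, hxm, hxreg⟩ := exists_isSMulRegular_mem_of_one_le_idealDepth M (maximalIdeal R) hIM
      (Order.one_le_iff_pos.mpr hpos)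
    have hxreg' : IsSMulRegular (ModuleCat.of R M) x := hxreg
    have hS := hxreg'.smulShortComplex_shortExact
    haveI : Module.Finite R (ModuleCat.of R M) := inferInstanceAs (Module.Finite R M)
    apply subsingleton_ext_of_smul_surjective R R (ModuleCat.of R M) n x hxm
    intro e
    haveI : Subsingleton (Ext ((ModuleCat.of R M).smulShortComplex x).X₃
        (ModuleCat.of R R) (n + 1)) :=
      HasInjectiveDimensionLT.subsingleton (ModuleCat.of R R) (n + 1) (n + 1) le_rfl _
    obtain ⟨x₂, hx₂⟩ := Ext.contravariant_sequence_exact₁ hS (ModuleCat.of R R) e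
      (add_comm 1 n) (Subsingleton.elim _ _)
    refine ⟨x₂, ?_⟩
    rw [← hx₂]
    show x • x₂ = (Ext.mk₀ (x • 𝟙 (ModuleCat.of R M))).comp x₂ (zero_add n)
    rw [Ext.mk₀_smul, Ext.smul_comp, Ext.mk₀_id_comp]
    rfl
  · intro hsub
    by_contra hpos
    have h0 : LocCoh.depth R M = 0 := nonpos_iff_eq_zero.mp (not_lt.mp hpos)
    have hass := (depth_eq_zero_iff_mem_ass R M).mp h0
    obtain ⟨-, ι, hι⟩ := (isAssociatedPrime_iff_exists_injective_linearMap _ _).mp hass
    have hS : (ModuleCat.shortComplexOfCompEqZero ι (Submodule.mkQ (LinearMap.range ι))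
        (LinearMap.exact_map_mkQ_range ι).linearMap_comp_eq_zero).ShortExact :=
      ModuleCat.shortComplex_shortExact _ (LinearMap.exact_map_mkQ_range ι) hι
        (Submodule.mkQ_surjective _)
    have hk : Subsingleton (Ext (ModuleCat.of R (R ⧸ maximalIdeal R)) (ModuleCat.of R R) n) := by
      refine subsingleton_of_forall_eq_zero fun x₁ => ?_
      haveI h3 : Subsingleton (Ext (ModuleCat.of R (M ⧸ LinearMap.range ι))
          (ModuleCat.of R R) (n + 1)) :=
        HasInjectiveDimensionLT.subsingleton (ModuleCat.of R R) (n + 1) (n + 1) le_rfl _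
      obtain ⟨x₂, rfl⟩ := Ext.contravariant_sequence_exact₁ hS (ModuleCat.of R R) x₁
        (add_comm 1 n) (Subsingleton.elim _ _)
      rw [Subsingleton.elim x₂ 0, Ext.comp_zero]
    exact not_subsingleton _ hk

end DepthPos

end Groth.Agent.H29
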