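import Mathlib
import Groth.Prelude.Def_CAlg
import Groth.Agent.H29.RegGlobalDim
import Groth.Agent.H29.RegLocal3

/-!
# Openness of the locus `pd M_p ≤ n` and bounded projective dimension over regular rings (helper29)

* `hasProjectiveDimensionLT_iff_of_exact` : dimension shifting along `0 → N' → N → N'' → 0`
  with `N` projective.
* `isOpen_pdLocus` : `{p | pd_{A_p} M_p ≤ n}` is open for `M` finite over a Noetherian ring.
* `exists_hasProjectiveDimensionLE_of_isRegularRing` : a finite module over a regular ring
  has finite projective dimension.
-/

set_option autoImplicit false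
set_option linter.style.haveILetI false
set_option linter.unusedSectionVars false
universe u

namespace Groth.Agent.H29

open CategoryTheory

section

variable (R : Type u) [CommRing R]

theorem hasProjectiveDimensionLT_iff_of_exact {N' N N'' : Type u} [AddCommGroup N'] [Module R N']
    [AddCommGroup N] [Module R N] [Module.Projective R N] [AddCommGroup N''] [Module R N'']
    (f : N' →ₗ[R] N) (g : N →ₗ[R] N'') (hf : Function.Injective f)
    (hg : Function.Surjective g) (hfg : Function.Exact f g) (n : ℕ) :
    HasProjectiveDimensionLT (ModuleCat.of R N'') (n + 1 + 1) ↔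
      HasProjectiveDimensionLT (ModuleCat.of R N') (n + 1) := by
  have hS : (ModuleCat.shortComplexOfCompEqZero f g hfg.linearMap_comp_eq_zero).ShortExact :=
    ModuleCat.shortComplex_shortExact _ hfg hf hg
  have hproj :
      Projective (ModuleCat.shortComplexOfCompEqZero f g hfg.linearMap_comp_eq_zero).X₂ := by
    show Projective (ModuleCat.of R N)
    exact (IsProjective.iff_projective (R := R) (P := N)).mp inferInstance
  exact hS.hasProjectiveDimensionLT_X₃_iff n hproj

end

section

variable (A : Type u) [CommRing A]

/-- The locus of primes where `pd_{A_p} M_p ≤ n`. -/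
def pdLocus (M : Type u) [AddCommGroup M] [Module A M] (n : ℕ) : Set (PrimeSpectrum A) :=
  {p | HasProjectiveDimensionLT (ModuleCat.of (Localization.AtPrime p.asIdeal)
    (LocalizedModule p.asIdeal.primeCompl M)) (n + 1)}

theorem isOpen_pdLocus [IsNoetherianRing A] (n : ℕ) :
    ∀ (M : Type u) [AddCommGroup M] [Module A M] [Module.Finite A M],
      IsOpen (pdLocus A M n) := by
  induction n with
  | zero =>
    intro M _ _ _
    have h0 : pdLocus A M 0 = Module.freeLocus A M := by
      ext p
      simp only [pdLocus, Set.mem_ofPred_eq, Module.mem_freeLocus]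
      rw [zero_add, ← projective_iff_hasProjectiveDimensionLT_one, ← IsProjective.iff_projective]
      constructor
      · intro h
        haveI := h
        exact Module.free_of_flat_of_isLocalRing
      · intro h
        haveI := h
        infer_instance
    rw [h0]
    haveI : Module.FinitePresentation A M := Module.finitePresentation_of_finite A M
    exact Module.isOpen_freeLocus
  | succ n ih =>
    intro M _ _ _
    obtain ⟨r, f, hf⟩ := Module.Finite.exists_fin' A M
    have hopen := ih (LinearMap.ker f)
    have h1 : pdLocus A M (n + 1) = pdLocus A (LinearMap.ker f) n := by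
      ext p
      simp only [pdLocus, Set.mem_ofPred_eq]
      haveI : Module.Free (Localization.AtPrime p.asIdeal)
          (LocalizedModule p.asIdeal.primeCompl (Fin r → A)) :=
        Module.free_of_isLocalizedModule p.asIdeal.primeCompl
          (LocalizedModule.mkLinearMap p.asIdeal.primeCompl (Fin r → A))
      exact hasProjectiveDimensionLT_iff_of_exact (Localization.AtPrime p.asIdeal)
        ((IsLocalizedModule.map p.asIdeal.primeCompl
          (LocalizedModule.mkLinearMap p.asIdeal.primeCompl (LinearMap.ker f))
          (LocalizedModule.mkLinearMap p.asIdeal.primeCompl (Fin r → A))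
          (LinearMap.ker f).subtype).extendScalarsOfIsLocalization p.asIdeal.primeCompl
            (Localization.AtPrime p.asIdeal))
        ((IsLocalizedModule.map p.asIdeal.primeCompl
          (LocalizedModule.mkLinearMap p.asIdeal.primeCompl (Fin r → A))
          (LocalizedModule.mkLinearMap p.asIdeal.primeCompl M)
          f).extendScalarsOfIsLocalization p.asIdeal.primeCompl
            (Localization.AtPrime p.asIdeal))
        (IsLocalizedModule.map_injective p.asIdeal.primeCompl _ _ _
          (Submodule.injective_subtype _))
        (IsLocalizedModule.map_surjective p.asIdeal.primeCompl _ _ _ hf)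
        (IsLocalizedModule.map_exact p.asIdeal.primeCompl _ _ _ _ _
          (LinearMap.exact_subtype_ker_map f)) n
    rw [h1]
    exact hopen

theorem pdLocus_mono (M : Type u) [AddCommGroup M] [Module A M] : Monotone (pdLocus A M) := by
  refine monotone_nat_of_le_succ (fun n p hp => ?_)
  simp only [pdLocus, Set.mem_ofPred_eq] at hp ⊢
  haveI := hp
  exact hasProjectiveDimensionLT_of_ge _ (n + 1) _ (by omega)

/-- A finite module over a regular ring has finite projective dimension. -/
theorem exists_hasProjectiveDimensionLE_of_isRegularRing [IsRegularRing A] (M : Type u)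
    [AddCommGroup M] [Module A M] [Module.Finite A M] :
    ∃ d : ℕ, HasProjectiveDimensionLE (ModuleCat.of A M) d := by
  have hopen := fun n => isOpen_pdLocus A n M
  have hcover : (Set.univ : Set (PrimeSpectrum A)) ⊆ ⋃ n, pdLocus A M n := by
    intro p _
    haveI : IsRegularLocalRing (Localization.AtPrime p.asIdeal) :=
      IsRegularRing.isRegularLocalRing_localization p.asIdeal
    obtain ⟨d, hd⟩ := ringKrullDim_eq_natCast_of_isLocalRing (Localization.AtPrime p.asIdeal)
    exact Set.mem_iUnion.mpr ⟨d, hasProjectiveDimensionLT_of_isRegularLocalRing _ d hd _⟩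
  obtain ⟨N, hN⟩ := isCompact_univ.elim_directed_cover (pdLocus A M) hopen hcover
    (pdLocus_mono A M).directed_le
  refine ⟨N, ?_⟩
  haveI : Module.Finite A (ModuleCat.of A M) := inferInstanceAs (Module.Finite A M)
  rw [ModuleCat.hasProjectiveDimensionLE_iff_forall_primeSpectrum]
  intro p
  have hp := hN (Set.mem_univ p)
  haveI : HasProjectiveDimensionLE (ModuleCat.of (Localization.AtPrime p.asIdeal)
      (LocalizedModule p.asIdeal.primeCompl M)) N := hp
  let e : (ModuleCat.of (Localization.AtPrime p.asIdeal)
      (LocalizedModule p.asIdeal.primeCompl M)) ≃ₗ[Localization.AtPrime p.asIdeal]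
      ((ModuleCat.of A M).localizedModule p.asIdeal.primeCompl) :=
    (Shrink.linearEquiv (Localization.AtPrime p.asIdeal)
      (LocalizedModule p.asIdeal.primeCompl M)).symm
  exact ModuleCat.hasProjectiveDimensionLE_of_linearEquiv e N

end

end Groth.Agent.H29
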