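import Mathlib
import Groth.Agent.H29.Bass

/-!
# Vanishing of `Ext(X, -)` on finite modules from cyclic modules (helper29)
-/

set_option autoImplicit false
set_option linter.style.haveILetI false
set_option linter.unusedSectionVars false
universe u v

namespace Groth.Agent.H29

open CategoryTheory Abelian

section

variable {C : Type u} [Category.{v} C] [Abelian C] [HasExt C]

theorem subsingleton_ext_of_iso_right (X : C) {Y Y' : C} (e : Y ≅ Y') (i : ℕ)
    (h : Subsingleton (Ext X Y i)) : Subsingleton (Ext X Y' i) := by
  refine subsingleton_of_forall_eq_zero fun x => ?_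
  have h1 : x.comp (Ext.mk₀ e.inv) (add_zero i) = 0 := Subsingleton.elim _ _
  have h2 : (x.comp (Ext.mk₀ e.inv) (add_zero i)).comp (Ext.mk₀ e.hom) (add_zero i) = x := by
    rw [Ext.comp_assoc x (Ext.mk₀ e.inv) (Ext.mk₀ e.hom) (add_zero i) (add_zero 0)
      (by omega), Ext.mk₀_comp_mk₀, e.inv_hom_id, Ext.comp_mk₀_id]
  rw [← h2, h1, Ext.zero_comp]

end

variable (A : Type u) [CommRing A]

theorem subsingleton_ext_of_forall_cyclic_aux (X : ModuleCat.{u} A) (i : ℕ)
    (h : ∀ I : Ideal A, Subsingleton (Ext X (ModuleCat.of A (A ⧸ I)) i)) (k : ℕ) :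
    ∀ (L : Type u) [AddCommGroup L] [Module A L] (s : Fin k → L),
      Submodule.span A (Set.range s) = ⊤ → Subsingleton (Ext X (ModuleCat.of A L) i) := by
  induction k with
  | zero =>
    intro L _ _ s hs
    have hL : Subsingleton L := by
      have : (⊤ : Submodule A L) = ⊥ := by
        rw [← hs, Set.range_eq_empty s, Submodule.span_empty]
      exact (Submodule.subsingleton_iff A).mp (subsingleton_of_bot_eq_top this.symm)
    exact subsingleton_ext_of_isZero_right X (ModuleCat.isZero_of_subsingleton _) i
  | succ k ih =>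
    intro L _ _ s hs
    set L' : Submodule A L := Submodule.span A (Set.range (s ∘ Fin.castSucc)) with hL'
    -- the submodule `L'` is generated by `k` elements
    have h1 : Subsingleton (Ext X (ModuleCat.of A L') i) := by
      let s' : Fin k → L' := fun j => ⟨s (Fin.castSucc j), Submodule.subset_span ⟨j, rfl⟩⟩
      apply ih L' s'
      have : Set.range s' = ((↑) : L' → L) ⁻¹' (Set.range (s ∘ Fin.castSucc)) := by
        ext y
        constructor
        · rintro ⟨j, rfl⟩
          exact ⟨j, rfl⟩
        · rintro ⟨j, hj⟩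
          exact ⟨j, Subtype.ext hj⟩
      rw [this]
      exact Submodule.span_span_coe_preimage
    -- the quotient is cyclic
    let ψ : A →ₗ[A] (L ⧸ L') := LinearMap.toSpanSingleton A (L ⧸ L') (L'.mkQ (s (Fin.last k)))
    have hψ : Function.Surjective ψ := by
      intro z
      obtain ⟨y, rfl⟩ := L'.mkQ_surjective z
      have hy : y ∈ Submodule.span A (Set.range s) := by rw [hs]; trivial
      induction hy using Submodule.span_induction with
      | mem y hy =>
        obtain ⟨j, rfl⟩ := hy
        induction j using Fin.lastCases with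
        | last => exact ⟨1, by simp [ψ]⟩
        | cast j =>
          refine ⟨0, ?_⟩
          rw [map_zero]
          symm
          rw [Submodule.mkQ_apply, Submodule.Quotient.mk_eq_zero]
          exact Submodule.subset_span ⟨j, rfl⟩
      | zero => exact ⟨0, by simp⟩
      | add y z _ _ hy hz =>
        obtain ⟨a, ha⟩ := hy
        obtain ⟨b, hb⟩ := hz
        exact ⟨a + b, by rw [map_add, ha, hb, map_add]⟩
      | smul c y _ hy =>
        obtain ⟨a, ha⟩ := hy
        exact ⟨c * a, by rw [← smul_eq_mul, map_smul, ha, map_smul]⟩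
    have h3 : Subsingleton (Ext X (ModuleCat.of A (L ⧸ L')) i) := by
      have e : (A ⧸ LinearMap.ker ψ) ≃ₗ[A] (L ⧸ L') := ψ.quotKerEquivOfSurjective hψ
      exact subsingleton_ext_of_iso_right X e.toModuleIso i (h (LinearMap.ker ψ))
    have hS : (ModuleCat.shortComplexOfCompEqZero L'.subtype L'.mkQ
        (LinearMap.exact_subtype_mkQ L').linearMap_comp_eq_zero).ShortExact :=
      ModuleCat.shortComplex_shortExact _ (LinearMap.exact_subtype_mkQ L')
        L'.injective_subtype L'.mkQ_surjective
    exact subsingleton_ext_X₂ hS X i h1 h3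

/-- If `Ext^i(X, A/I) = 0` for all ideals `I`, then `Ext^i(X, L) = 0` for all finite `L`. -/
theorem subsingleton_ext_of_forall_cyclic (X : ModuleCat.{u} A) (i : ℕ)
    (h : ∀ I : Ideal A, Subsingleton (Ext X (ModuleCat.of A (A ⧸ I)) i))
    (L : Type u) [AddCommGroup L] [Module A L] [Module.Finite A L] :
    Subsingleton (Ext X (ModuleCat.of A L) i) := by
  obtain ⟨k, s, hs⟩ := Module.Finite.exists_fin (R := A) (M := L)
  exact subsingleton_ext_of_forall_cyclic_aux A X i h k L s hs

/-- A finite module over a Noetherian ring has `pd ≤ n` iff `Ext^{n+1}(M, A/I) = 0` for all `I`. -/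
theorem hasProjectiveDimensionLT_iff_forall_cyclic [IsNoetherianRing A] (M : Type u)
    [AddCommGroup M] [Module A M] [Module.Finite A M] (n : ℕ) :
    HasProjectiveDimensionLT (ModuleCat.of A M) (n + 1) ↔
      ∀ I : Ideal A, Subsingleton (Ext (ModuleCat.of A M) (ModuleCat.of A (A ⧸ I)) (n + 1)) := by
  constructor
  · intro h I
    exact HasProjectiveDimensionLT.subsingleton (ModuleCat.of A M) (n + 1) (n + 1) le_rfl _
  · intro h
    haveI : Module.Finite A (ModuleCat.of A M) := inferInstanceAs (Module.Finite A M)
    apply ModuleCat.hasProjectiveDimensionLT_of_forall_finite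
    intro L hL
    exact subsingleton_ext_of_forall_cyclic A (ModuleCat.of A M) (n + 1) h L

end Groth.Agent.H29
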