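import Mathlib
import Groth.Prelude.Def_CAlg
import Groth.Agent.H29.ABFormula
import Groth.Agent.H29.ExtCyclic
import Groth.Agent.H29.RegLocal3

/-!
# Consequences of the Auslander–Buchsbaum formula (helper29)

* `exists_pd_eq` : a nonzero module with `pd < n + 1` has an exact projective dimension `e ≤ n`.
* `depth_self_le_depth_add_of_pd` : `depth R ≤ depth M + n` if `pd M ≤ n`.
* `nontrivial_ext_self_of_pd` : `Ext^{pd M}(M, R) ≠ 0` for `M` finite over a Noetherian local ring.
-/

set_option autoImplicit false
set_option linter.style.haveILetI false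
set_option linter.unusedSectionVars false
universe u v

namespace Groth.Agent.H29

open CategoryTheory Abelian IsLocalRing

section

variable (R : Type u) [CommRing R]

theorem exists_pd_eq (X : ModuleCat.{u} R) (hX : ¬ Limits.IsZero X) (n : ℕ)
    (h : HasProjectiveDimensionLT X (n + 1)) :
    ∃ e : ℕ, e ≤ n ∧ HasProjectiveDimensionLT X (e + 1) ∧ ¬ HasProjectiveDimensionLT X e := by
  classical
  have hex : ∃ e : ℕ, HasProjectiveDimensionLT X (e + 1) := ⟨n, h⟩
  refine ⟨Nat.find hex, Nat.find_min' hex h, Nat.find_spec hex, ?_⟩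
  intro hcon
  rcases hfe : Nat.find hex with _ | m
  · rw [hfe] at hcon
    exact hX ((hasProjectiveDimensionLT_zero_iff_isZero X).mp hcon)
  · rw [hfe] at hcon
    have := Nat.find_min' hex hcon
    omega

/-- If `Ext^{e+1}(X, R) = 0` and `pd X ≤ e + 1` then `Ext^{e+1}(X, R/I) = 0` for all `I`. -/
theorem subsingleton_ext_cyclic_of_subsingleton_ext_self (X : ModuleCat.{u} R) (e : ℕ)
    (hX : HasProjectiveDimensionLT X (e + 1 + 1))
    (h : Subsingleton (Ext X (ModuleCat.of R R) (e + 1))) (I : Ideal R) :
    Subsingleton (Ext X (ModuleCat.of R (R ⧸ I)) (e + 1)) := by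
  have hS : (Submodule.mkQ I).shortComplexKer.ShortExact :=
    LinearMap.shortExact_shortComplexKer (Submodule.mkQ_surjective I)
  exact subsingleton_ext_X₃ hS X (e + 1) h
    (HasProjectiveDimensionLT.subsingleton X (e + 1 + 1) (e + 1 + 1) le_rfl _)

end

section Local

variable (R : Type u) [CommRing R] [IsLocalRing R] [IsNoetherianRing R]

/-- `Ext^{pd M}(M, R) ≠ 0` for a finite module of finite projective dimension. -/
theorem nontrivial_ext_self_of_pd (M : Type u) [AddCommGroup M] [Module R M] [Module.Finite R M]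
    (e : ℕ) (h1 : HasProjectiveDimensionLT (ModuleCat.of R M) (e + 1))
    (h2 : ¬ HasProjectiveDimensionLT (ModuleCat.of R M) e) :
    Nontrivial (Ext (ModuleCat.of R M) (ModuleCat.of R R) e) := by
  by_contra hcon
  rw [not_nontrivial_iff_subsingleton] at hcon
  apply h2
  rcases e with _ | e
  · have hM : Subsingleton M := by
      by_contra hne
      rw [not_subsingleton_iff_nontrivial] at hne
      rw [zero_add, ← projective_iff_hasProjectiveDimensionLT_one,
        ← IsProjective.iff_projective] at h1
      haveI : Module.Projective R M := h1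
      haveI : Module.Free R M := Module.free_of_flat_of_isLocalRing
      obtain ⟨v, ρ, hρ⟩ := exists_dual_eq_one_of_nontrivial (R := R) M
      have h0 : Ext.mk₀ (ModuleCat.ofHom ρ) = Ext.mk₀ (0 : ModuleCat.of R M ⟶ ModuleCat.of R R) :=
        Subsingleton.elim _ _
      have h3 := (Ext.mk₀_bijective _ _).injective h0
      have h4 : ρ v = 0 := by
        have := congrArg (fun f => (ModuleCat.Hom.hom f) v) h3
        simpa using this
      rw [hρ] at h4
      exact one_ne_zero h4
    exact (hasProjectiveDimensionLT_zero_iff_isZero _).mpr (ModuleCat.isZero_of_subsingleton _)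
  · rw [hasProjectiveDimensionLT_iff_forall_cyclic]
    intro I
    exact subsingleton_ext_cyclic_of_subsingleton_ext_self R _ e h1 hcon I

/-- `depth R ≤ depth M + n` when `pd M ≤ n` (from Auslander–Buchsbaum). -/
theorem depth_self_le_depth_add_of_pd (M : Type u) [AddCommGroup M] [Module R M]
    [Module.Finite R M] [Nontrivial M] (n : ℕ)
    (h : HasProjectiveDimensionLT (ModuleCat.of R M) (n + 1)) :
    LocCoh.depth R R ≤ LocCoh.depth R M + n := by
  have hX : ¬ Limits.IsZero (ModuleCat.of R M) := fun hz =>
    not_subsingleton M (ModuleCat.subsingleton_of_isZero hz)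
  obtain ⟨e, hen, he1, he2⟩ := exists_pd_eq R (ModuleCat.of R M) hX n h
  rw [← depth_add_eq_depth_self_of_pd R e M he1 he2]
  gcongr

/-- Exact value: a nonzero finite module with `pd M ≤ n` has `pd M = e` for some `e ≤ n`
with `depth M + e = depth R` and `Ext^e(M, R) ≠ 0`. -/
theorem exists_pd_eq_and_depth_and_ext (M : Type u) [AddCommGroup M] [Module R M]
    [Module.Finite R M] [Nontrivial M] (n : ℕ)
    (h : HasProjectiveDimensionLT (ModuleCat.of R M) (n + 1)) :
    ∃ e : ℕ, e ≤ n ∧ HasProjectiveDimensionLT (ModuleCat.of R M) (e + 1) ∧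
      ¬ HasProjectiveDimensionLT (ModuleCat.of R M) e ∧
      LocCoh.depth R M + e = LocCoh.depth R R ∧
      Nontrivial (Ext (ModuleCat.of R M) (ModuleCat.of R R) e) := by
  have hX : ¬ Limits.IsZero (ModuleCat.of R M) := fun hz =>
    not_subsingleton M (ModuleCat.subsingleton_of_isZero hz)
  obtain ⟨e, hen, he1, he2⟩ := exists_pd_eq R (ModuleCat.of R M) hX n h
  exact ⟨e, hen, he1, he2, depth_add_eq_depth_self_of_pd R e M he1 he2,
    nontrivial_ext_self_of_pd R M e he1 he2⟩

end Local

section Regular

variable (A : Type u) [CommRing A] [IsRegularLocalRing A]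

/-- Over a regular local ring of dimension `n`, a nonzero finite module has `pd M = e ≤ n` with
`depth M + e = n` and `Ext^e(M, A) ≠ 0`. -/
theorem exists_pd_eq_of_isRegularLocalRing (n : ℕ) (hn : ringKrullDim A = n)
    (M : Type u) [AddCommGroup M] [Module A M] [Module.Finite A M] [Nontrivial M] :
    ∃ e : ℕ, e ≤ n ∧ HasProjectiveDimensionLT (ModuleCat.of A M) (e + 1) ∧
      ¬ HasProjectiveDimensionLT (ModuleCat.of A M) e ∧
      LocCoh.depth A M + e = n ∧
      Nontrivial (Ext (ModuleCat.of A M) (ModuleCat.of A A) e) := by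
  obtain ⟨e, hen, he1, he2, he3, he4⟩ := exists_pd_eq_and_depth_and_ext A M n
    (hasProjectiveDimensionLT_of_isRegularLocalRing A n hn _)
  rw [depth_self_eq_ringKrullDim_of_isRegularLocalRing_aux n A hn] at he3
  exact ⟨e, hen, he1, he2, he3, he4⟩

end Regular

end Groth.Agent.H29
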