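import Mathlib

/-!
# Free ideals in a domain are principal (helper29)
-/

set_option autoImplicit false
set_option linter.style.haveILetI false
universe u

namespace Groth.Agent.H29

theorem exists_eq_span_singleton_of_free (A : Type u) [CommRing A] [IsDomain A] (I : Ideal A)
    [Module.Free A I] : ∃ f : A, I = Ideal.span {f} := by
  classical
  let b := Module.Free.chooseBasis A I
  have hsub : Subsingleton (Module.Free.ChooseBasisIndex A I) := by
    refine ⟨fun i j => ?_⟩
    by_contra hij
    have hx : ((b j : I) : A) • b i = ((b i : I) : A) • b j :=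
      Subtype.ext (by simp [mul_comm])
    have h1 := congrArg (fun x => b.repr x i) hx
    simp only [map_smul, Module.Basis.repr_self, Finsupp.smul_apply, Finsupp.single_apply,
      if_true, smul_eq_mul, mul_one] at h1
    rw [if_neg (Ne.symm hij), mul_zero] at h1
    exact b.ne_zero j (Subtype.ext h1)
  rcases isEmpty_or_nonempty (Module.Free.ChooseBasisIndex A I) with hemp | ⟨⟨i₀⟩⟩
  · refine ⟨0, ?_⟩
    rw [Ideal.span_singleton_zero, eq_bot_iff]
    intro x hx
    have hx' : (⟨x, hx⟩ : I) ∈ Submodule.span A (Set.range b) := b.mem_span _
    rw [Set.range_eq_empty, Submodule.span_empty, Submodule.mem_bot] at hx'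
    exact congrArg Subtype.val hx'
  · refine ⟨(b i₀ : A), ?_⟩
    apply le_antisymm
    · intro x hx
      have hx' : (⟨x, hx⟩ : I) ∈ Submodule.span A (Set.range b) := b.mem_span _
      haveI : Unique (Module.Free.ChooseBasisIndex A I) := uniqueOfSubsingleton i₀
      rw [Set.range_unique, Submodule.mem_span_singleton] at hx'
      obtain ⟨a, ha⟩ := hx'
      have h2 : a * ((b default : I) : A) = x := by
        have := congrArg Subtype.val ha
        simpa using this
      rw [Subsingleton.elim i₀ default]
      exact Ideal.mem_span_singleton'.mpr ⟨a, h2⟩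
    · rw [Ideal.span_singleton_le_iff_mem]
      exact (b i₀).2

end Groth.Agent.H29
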