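import Mathlib
import Groth.Agent.H29.CMLib
import Groth.Agent.S16234

/-!
# Systems of parameters over semi-local Noetherian rings (helper29)

* `isMaximal_of_jacobson_le`: over a ring with finitely many maximal ideals, a prime containing the
  Jacobson radical is maximal;
* `supportDim_le_zero_iff_isFiniteLength`;
* `supportDim_le_supportDim_quotient_add_length` (elements of the Jacobson radical);
* `supportDim_lt_top`, `exists_natCast_supportDim`;
* `exists_mem_jacobson_supportDim_quotSMulTop_le`, `exists_sop`.
-/

set_option autoImplicit false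
universe u v

namespace Groth.Agent.H29.SemiSOP

open RingTheory.Sequence
open scoped Pointwise

variable (A : Type u) [CommRing A]

theorem isMaximal_of_jacobson_le [Finite (MaximalSpectrum A)] (p : Ideal A) [hp : p.IsPrime]
    (h : Ring.jacobson A ≤ p) : p.IsMaximal := by
  classical
  have hfin : {I : Ideal A | I.IsMaximal}.Finite := by
    have : {I : Ideal A | I.IsMaximal} = Set.range (fun m : MaximalSpectrum A => m.asIdeal) := by
      ext I
      constructor
      · intro hI
        exact ⟨⟨I, hI⟩, rfl⟩
      · rintro ⟨m, rfl⟩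
        exact m.isMaximal
    rw [this]
    exact Set.finite_range _
  rw [Ring.jacobson_eq_sInf_isMaximal] at h
  have h2 : hfin.toFinset.inf id ≤ p := by
    rw [Finset.inf_id_eq_sInf, Set.Finite.coe_toFinset]
    exact h
  obtain ⟨m, hm, hmp⟩ := (Ideal.IsPrime.inf_le' hp).mp h2
  rw [Set.Finite.mem_toFinset] at hm
  have hm' : m.IsMaximal := hm
  have e : m = p := hm'.eq_of_le hp.ne_top hmp
  exact e ▸ hm'

theorem natCast_lt_top (n : ℕ) : (n : WithBot ℕ∞) < ⊤ := by
  show ((n : ℕ∞) : WithBot ℕ∞) < ((⊤ : ℕ∞) : WithBot ℕ∞)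
  exact WithBot.coe_lt_coe.mpr (ENat.coe_lt_top n)

variable [IsNoetherianRing A]

theorem supportDim_le_zero_iff_isFiniteLength (N : Type v) [AddCommGroup N] [Module A N]
    [Module.Finite A N] : Module.supportDim A N ≤ 0 ↔ IsFiniteLength A N := by
  rw [← Groth.Agent.S16234.result, Module.supportDim, Order.krullDim_nonpos_iff_forall_isMax]
  constructor
  · intro h p hp
    obtain ⟨m, hm, hpm⟩ := Ideal.exists_le_maximal p.asIdeal p.2.ne_top
    have hms : (⟨m, hm.isPrime⟩ : PrimeSpectrum A) ∈ Module.support A N :=
      Module.mem_support_mono (show p ≤ ⟨m, hm.isPrime⟩ from hpm) hp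
    have h1 : (⟨⟨m, hm.isPrime⟩, hms⟩ : Module.support A N) ≤ ⟨p, hp⟩ :=
      h ⟨p, hp⟩ (b := ⟨⟨m, hm.isPrime⟩, hms⟩) hpm
    have e : p.asIdeal = m := le_antisymm hpm h1
    rw [e]
    exact hm
  · intro h a b hle
    have hmax := h a.1 a.2
    have hle' : a.1.asIdeal ≤ b.1.asIdeal := hle
    have e : a.1.asIdeal = b.1.asIdeal := hmax.eq_of_le b.1.2.ne_top hle'
    show b.1.asIdeal ≤ a.1.asIdeal
    exact e.ge

theorem jacobson_le_jacobson_annihilator (M : Type v) [AddCommGroup M] [Module A M] :
    Ring.jacobson A ≤ (Module.annihilator A M).jacobson := by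
  rw [← Ideal.jacobson_bot]
  exact Ideal.jacobson_mono bot_le

/-- For a sequence in the Jacobson radical the dimension drops at most by the length. -/
theorem supportDim_le_supportDim_quotient_add_length (xs : List A) :
    ∀ (M : Type v) [AddCommGroup M] [Module A M] [Module.Finite A M],
      (∀ x ∈ xs, x ∈ Ring.jacobson A) →
      Module.supportDim A M ≤
        Module.supportDim A (M ⧸ Ideal.ofList xs • (⊤ : Submodule A M)) + xs.length := by
  induction xs with
  | nil =>
    intro M _ _ _ _
    rw [List.length_nil, Nat.cast_zero, add_zero]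
    exact (Module.supportDim_eq_of_equiv (Submodule.quotEquivOfEqBot _
      (by rw [Ideal.ofList_nil, Submodule.bot_smul])).symm).le
  | cons x xs ih =>
    intro M _ _ _ hmem
    have hxm := hmem x (List.mem_cons_self ..)
    have h1 := Module.supportDim_le_supportDim_quotSMulTop_succ_of_mem_jacobson (M := M)
      (jacobson_le_jacobson_annihilator A M hxm)
    have h2 := ih (QuotSMulTop x M) (fun y hy => hmem y (List.mem_cons_of_mem _ hy))
    have h3 := Module.supportDim_eq_of_equiv
      (Submodule.quotOfListConsSMulTopEquivQuotSMulTopInner M x xs)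
    rw [h3, List.length_cons, Nat.cast_succ, ← add_assoc]
    exact h1.trans (add_le_add h2 le_rfl)

variable [Finite (MaximalSpectrum A)]

theorem supportDim_lt_top (M : Type v) [AddCommGroup M] [Module A M] [Module.Finite A M] :
    Module.supportDim A M < ⊤ := by
  classical
  obtain ⟨s, hs⟩ := (IsNoetherian.noetherian (Ring.jacobson A : Ideal A))
  have hof : Ideal.ofList s.toList = Ring.jacobson A := by
    rw [← hs]
    exact congrArg Ideal.span (Set.ext fun a => by simp)
  have h1 := supportDim_le_supportDim_quotient_add_length A s.toList M (by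
    intro x hx
    rw [← hof]
    exact Ideal.subset_span hx)
  have h2 : Module.supportDim A (M ⧸ Ideal.ofList s.toList • (⊤ : Submodule A M)) ≤ 0 := by
    rw [supportDim_le_zero_iff_isFiniteLength, ← Groth.Agent.S16234.result]
    intro p hp
    rw [Module.support_quotient, hof] at hp
    have hle : Ring.jacobson A ≤ p.asIdeal := fun a ha =>
      (PrimeSpectrum.mem_zeroLocus _ _).mp hp.2 ha
    exact isMaximal_of_jacobson_le A p.asIdeal hle
  refine lt_of_le_of_lt (h1.trans (add_le_add h2 le_rfl)) ?_
  rw [zero_add]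
  exact natCast_lt_top _

theorem exists_natCast_supportDim (M : Type v) [AddCommGroup M] [Module A M] [Module.Finite A M]
    [Nontrivial M] : ∃ d : ℕ, Module.supportDim A M = d :=
  withBot_exists_natCast (Module.supportDim_ne_bot_of_nontrivial A M) (supportDim_lt_top A M).ne

theorem exists_mem_jacobson_supportDim_quotSMulTop_le (M : Type v) [AddCommGroup M] [Module A M]
    [Module.Finite A M] (d : ℕ) (h : Module.supportDim A M ≤ (d : WithBot ℕ∞) + 1) :
    ∃ x ∈ Ring.jacobson A, Module.supportDim A (QuotSMulTop x M) ≤ d := by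
  classical
  set P : Set (Ideal A) :=
    {p | p ∈ (Module.annihilator A M).minimalPrimes ∧ ¬ p.IsMaximal} with hP
  have hPfin : P.Finite :=
    (Ideal.finite_minimalPrimes_of_isNoetherianRing A _).subset (fun p hp => hp.1)
  have hx : ∃ x ∈ Ring.jacobson A, ∀ p ∈ P, x ∉ p := by
    by_contra hcon
    push Not at hcon
    have hsub : ((Ring.jacobson A : Ideal A) : Set A) ⊆
        ⋃ p ∈ (hPfin.toFinset : Set (Ideal A)), ((id p : Ideal A) : Set A) := by
      intro x hx
      obtain ⟨p, hp, hxp⟩ := hcon x hx
      exact Set.mem_biUnion (show p ∈ (hPfin.toFinset : Set (Ideal A)) by simpa using hp) hxp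
    obtain ⟨p, hp, hle⟩ := (Ideal.subset_union_prime (f := id) (⊥ : Ideal A) ⊥ (fun i hi _ _ => by
      have : i ∈ P := by simpa using hi
      exact this.1.1.1)).mp hsub
    have hpP : p ∈ P := by simpa using hp
    haveI : p.IsPrime := hpP.1.1.1
    exact hpP.2 (isMaximal_of_jacobson_le A p hle)
  obtain ⟨x, hxr, hxP⟩ := hx
  refine ⟨x, hxr, ?_⟩
  rw [Module.supportDim, Order.krullDim]
  refine iSup_le fun p => ?_
  have hp := p.head.2
  simp only [Module.support_quotSMulTop, Set.mem_inter_iff, PrimeSpectrum.mem_zeroLocus,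
    Set.singleton_subset_iff] at hp
  have le : Module.support A (QuotSMulTop x M) ⊆ Module.support A M := by simp
  let q : LTSeries (Module.support A M) :=
    p.map (Set.MapsTo.restrict id (Module.support A (QuotSMulTop x M)) (Module.support A M) le)
      (fun _ _ h => h)
  obtain ⟨r, hrm, hr⟩ := Ideal.exists_minimalPrimes_le
    (Module.mem_support_iff_of_finite.mp q.head.2)
  by_cases hmax : r.IsMaximal
  · have hlen : p.length = 0 := by
      by_contra hne
      have hpos : (0 : Fin (q.length + 1)) < Fin.last q.length := by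
        rw [Fin.lt_def]
        simp only [Fin.val_zero, Fin.val_last]
        have : q.length = p.length := by simp [q]
        omega
      have hlt : q.head < q.last := q.strictMono hpos
      have hlt' : q.head.1.asIdeal < q.last.1.asIdeal := hlt
      have e : r = q.last.1.asIdeal := hmax.eq_of_le q.last.1.2.ne_top (hr.trans hlt'.le)
      have e' : r = q.head.1.asIdeal := hmax.eq_of_le q.head.1.2.ne_top hr
      rw [← e, ← e'] at hlt'
      exact lt_irrefl _ hlt'
    rw [hlen]
    exact_mod_cast (withBot_natCast_le.mpr (Nat.zero_le d))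
  · have hxr' : x ∉ r := hxP r ⟨hrm, hmax⟩
    let r' : Module.support A M :=
      ⟨⟨r, hrm.1.1⟩, Module.mem_support_iff_of_finite.mpr hrm.1.2⟩
    have hlt : r' < q.head :=
      lt_of_le_of_ne hr (fun h => hxr' (by
        have : x ∈ q.head.1.asIdeal := by simpa [q] using hp.2
        rwa [← h] at this))
    have h1 : ((q.cons r' hlt).length : WithBot ℕ∞) ≤ Module.supportDim A M :=
      Order.LTSeries.length_le_krullDim _
    have h2 : ((p.length + 1 : ℕ) : WithBot ℕ∞) ≤ ((d + 1 : ℕ) : WithBot ℕ∞) := by
      have := h1.trans h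
      simpa [q] using this
    have h3 : p.length + 1 ≤ d + 1 := withBot_natCast_le.mp h2
    exact withBot_natCast_le.mpr (by omega)

theorem exists_sop (d : ℕ) : ∀ (M : Type v) [AddCommGroup M] [Module A M] [Module.Finite A M],
    Module.supportDim A M ≤ d →
    ∃ xs : List A, xs.length = d ∧ (∀ x ∈ xs, x ∈ Ring.jacobson A) ∧
      IsFiniteLength A (M ⧸ Ideal.ofList xs • (⊤ : Submodule A M)) := by
  induction d with
  | zero =>
    intro M _ _ _ h
    refine ⟨[], rfl, by simp, ?_⟩
    have e : (M ⧸ Ideal.ofList ([] : List A) • (⊤ : Submodule A M)) ≃ₗ[A] M :=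
      Submodule.quotEquivOfEqBot _ (by rw [Ideal.ofList_nil, Submodule.bot_smul])
    exact e.symm.isFiniteLength
      ((supportDim_le_zero_iff_isFiniteLength A M).mp (by simpa using h))
  | succ d ih =>
    intro M _ _ _ h
    obtain ⟨x, hx, hdim⟩ := exists_mem_jacobson_supportDim_quotSMulTop_le A M d
      (by simpa using h)
    obtain ⟨xs, hlen, hmem, hfl⟩ := ih (QuotSMulTop x M) hdim
    refine ⟨x :: xs, by simp [hlen], ?_, ?_⟩
    · intro y hy
      rcases List.mem_cons.mp hy with rfl | hy
      exacts [hx, hmem y hy]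
    · exact (Submodule.quotOfListConsSMulTopEquivQuotSMulTopInner M x xs).symm.isFiniteLength hfl

end Groth.Agent.H29.SemiSOP
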