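import Mathlib
import Groth.Agent.H29.BaseChangePD

/-!
# Projective dimension modulo a regular element (helper29)

If `a` is regular on `A` and on `E`, then `pd_{A/a} (E/aE) ≤ pd_A E`.
-/

set_option autoImplicit false
set_option linter.style.haveILetI false
set_option linter.unusedSectionVars false
universe u

namespace Groth.Agent.H29

open CategoryTheory TensorProduct

variable (A : Type u) [CommRing A] (a : A)

theorem isSMulRegular_of_flat (hA : IsSMulRegular A a) (P : Type*) [AddCommGroup P] [Module A P]
    [Module.Flat A P] : IsSMulRegular P a :=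
  ((TensorProduct.rid A P).isSMulRegular_congr a).mp (IsSMulRegular.lTensor P hA)

theorem injective_quotSMulTop_map_subtype_ker {P M : Type*} [AddCommGroup P] [Module A P]
    [AddCommGroup M] [Module A M] (f : P →ₗ[A] M) (hM : IsSMulRegular M a) :
    Function.Injective (QuotSMulTop.map a (LinearMap.ker f).subtype) := by
  rw [← LinearMap.ker_eq_bot, LinearMap.ker_eq_bot']
  intro y hy
  obtain ⟨k, rfl⟩ := Submodule.Quotient.mk_surjective _ y
  rw [QuotSMulTop.map_apply_mk, Submodule.Quotient.mk_eq_zero] at hy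
  obtain ⟨p, -, hp⟩ := (Submodule.mem_smul_pointwise_iff_exists _ _ _).mp hy
  have hp' : a • p = (k : P) := hp
  have hfp : f p = 0 := by
    apply hM
    show a • f p = a • 0
    rw [smul_zero, ← map_smul, hp']
    exact k.2
  rw [Submodule.Quotient.mk_eq_zero]
  refine (Submodule.mem_smul_pointwise_iff_exists _ _ _).mpr ⟨⟨p, hfp⟩, trivial, ?_⟩
  exact Subtype.ext hp'

theorem injective_baseChange_subtype_ker {P M : Type u} [AddCommGroup P] [Module A P]
    [AddCommGroup M] [Module A M] (f : P →ₗ[A] M) (hM : IsSMulRegular M a) :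
    Function.Injective ((LinearMap.ker f).subtype.baseChange (A ⧸ Ideal.span {a})) := by
  have hmap := injective_quotSMulTop_map_subtype_ker A a f hM
  have hnat := QuotSMulTop.equivQuotTensor_naturality a (LinearMap.ker f).subtype
  have h2 : ⇑((LinearMap.ker f).subtype.lTensor (A ⧸ Ideal.span {a})) ∘
      ⇑(QuotSMulTop.equivQuotTensor a (LinearMap.ker f)) =
      ⇑(QuotSMulTop.equivQuotTensor a P) ∘ ⇑(QuotSMulTop.map a (LinearMap.ker f).subtype) := by
    funext x
    exact (LinearMap.congr_fun hnat x).symm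
  have h3 : Function.Injective (⇑((LinearMap.ker f).subtype.lTensor (A ⧸ Ideal.span {a})) ∘
      ⇑(QuotSMulTop.equivQuotTensor a (LinearMap.ker f))) := by
    rw [h2]
    exact (QuotSMulTop.equivQuotTensor a P).injective.comp hmap
  exact (Function.Injective.of_comp_iff' _
    (QuotSMulTop.equivQuotTensor a (LinearMap.ker f)).bijective).mp h3

/-- If `a` is regular on `A` and on `E`, then `pd_{A/a} (A/a ⊗ E) ≤ pd_A E`. -/
theorem hasProjectiveDimensionLT_baseChange_quotient (hA : IsSMulRegular A a) (n : ℕ)
    (E : Type u) [AddCommGroup E] [Module A E] (hE : IsSMulRegular E a)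
    (h : HasProjectiveDimensionLT (ModuleCat.of A E) (n + 1)) :
    HasProjectiveDimensionLT
      (ModuleCat.of (A ⧸ Ideal.span {a}) ((A ⧸ Ideal.span {a}) ⊗[A] E)) (n + 1) := by
  refine hasProjectiveDimensionLT_baseChange_of_class A (A ⧸ Ideal.span {a})
    (fun M _ _ => IsSMulRegular M a) ?_ n E hE h
  intro P M _ _ _ _ _ f _ hM
  exact ⟨(isSMulRegular_of_flat A a hA P).submodule _ _, injective_baseChange_subtype_ker A a f hM⟩

/-- The `A/a`-linear identification `A/a ⊗ E ≃ E/aE`. -/
noncomputable def quotTensorEquivQuotSMulOfQuotient (E : Type u) [AddCommGroup E] [Module A E] :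
    ((A ⧸ Ideal.span {a}) ⊗[A] E) ≃ₗ[A ⧸ Ideal.span {a}]
      (E ⧸ (Ideal.span {a} • (⊤ : Submodule A E))) :=
  (TensorProduct.quotTensorEquivQuotSMul E (Ideal.span {a})).extendScalarsOfSurjective
    Ideal.Quotient.mk_surjective

/-- If `a` is regular on `A` and on `E`, then `pd_{A/a} (E/aE) ≤ pd_A E`. -/
theorem hasProjectiveDimensionLT_quotient_of_isSMulRegular (hA : IsSMulRegular A a) (n : ℕ)
    (E : Type u) [AddCommGroup E] [Module A E] (hE : IsSMulRegular E a)
    (h : HasProjectiveDimensionLT (ModuleCat.of A E) (n + 1)) :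
    HasProjectiveDimensionLT
      (ModuleCat.of (A ⧸ Ideal.span {a}) (E ⧸ (Ideal.span {a} • (⊤ : Submodule A E)))) (n + 1) := by
  have h1 : HasProjectiveDimensionLE
      (ModuleCat.of (A ⧸ Ideal.span {a}) ((A ⧸ Ideal.span {a}) ⊗[A] E)) n :=
    hasProjectiveDimensionLT_baseChange_quotient A a hA n E hE h
  let e : (ModuleCat.of (A ⧸ Ideal.span {a}) ((A ⧸ Ideal.span {a}) ⊗[A] E)) ≃ₗ[A ⧸ Ideal.span {a}]
      (ModuleCat.of (A ⧸ Ideal.span {a}) (E ⧸ (Ideal.span {a} • (⊤ : Submodule A E)))) :=
    quotTensorEquivQuotSMulOfQuotient A a E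
  exact ModuleCat.hasProjectiveDimensionLE_of_linearEquiv e n

theorem projectiveDimension_quotient_le_of_isSMulRegular (hA : IsSMulRegular A a)
    (E : Type u) [AddCommGroup E] [Module A E] (hE : IsSMulRegular E a) :
    projectiveDimension
      (ModuleCat.of (A ⧸ Ideal.span {a}) (E ⧸ (Ideal.span {a} • (⊤ : Submodule A E)))) ≤
      projectiveDimension (ModuleCat.of A E) := by
  refine le_of_forall_ge (fun N ↦ ?_)
  induction N with
  | bot =>
    simp only [le_bot_iff, projectiveDimension_eq_bot_iff, ModuleCat.isZero_iff_subsingleton]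
    intro h
    infer_instance
  | coe N =>
    induction N with
    | top => simp
    | coe n =>
      intro h
      have h1 : projectiveDimension (ModuleCat.of A E) ≤ n := h
      rw [projectiveDimension_le_iff] at h1
      have h2 : projectiveDimension
          (ModuleCat.of (A ⧸ Ideal.span {a}) (E ⧸ (Ideal.span {a} • (⊤ : Submodule A E)))) ≤ n := by
        rw [projectiveDimension_le_iff]
        exact hasProjectiveDimensionLT_quotient_of_isSMulRegular A a hA n E hE h1
      exact h2

end Groth.Agent.H29
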