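import Mathlib
import Groth.Prelude.Def_CAlg
import Groth.Agent.H29.ABFormula
import Groth.Agent.H29.QuotRegPD
import Groth.Agent.H29.RegLocal3
import Groth.Agent.H29.DepthFinite

/-!
# Serre's characterization of regular local rings (helper29)

* `exists_retract_residueField` : for `x ∈ m \ m²`, the residue field of `S = R/(x)` is a retract
  of `S ⊗ m`.
* `isRegularLocalRing_of_hasProjectiveDimensionLT_residueField` : a Noetherian local ring whose
  residue field has finite projective dimension is regular.
-/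

set_option autoImplicit false
set_option linter.style.haveILetI false
set_option linter.unusedSectionVars false
universe u v

namespace Groth.Agent.H29

open RingTheory.Sequence CategoryTheory Abelian IsLocalRing
open scoped Pointwise TensorProduct

section Retract

variable (R : Type u) [CommRing R] [IsLocalRing R] (x : R)
  [IsLocalRing (R ⧸ Ideal.span {x})] [IsLocalHom (algebraMap R (R ⧸ Ideal.span {x}))]

/-- A linear functional on `m` with values in the residue field of `R/(x)` taking the value `1`
at `x`, for `x ∈ m \ m²`. -/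
theorem exists_linearMap_maximalIdeal_eq_one (hx : x ∈ maximalIdeal R)
    (hx2 : x ∉ maximalIdeal R ^ 2) :
    ∃ φ : maximalIdeal R →ₗ[R] ResidueField (R ⧸ Ideal.span {x}), φ ⟨x, hx⟩ = 1 := by
  have hne : (maximalIdeal R).toCotangent ⟨x, hx⟩ ≠ 0 := by
    rw [Ne, Ideal.toCotangent_eq_zero]
    exact hx2
  obtain ⟨g, hg⟩ := Module.Projective.exists_dual_eq_one (ResidueField R)
    (V := CotangentSpace R) hne
  let θ : ResidueField R →ₗ[R] ResidueField (R ⧸ Ideal.span {x}) :=
    (Algebra.linearMap (ResidueField R) (ResidueField (R ⧸ Ideal.span {x}))).restrictScalars R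
  refine ⟨θ ∘ₗ (g.restrictScalars R) ∘ₗ (maximalIdeal R).toCotangent, ?_⟩
  show θ (g ((maximalIdeal R).toCotangent ⟨x, hx⟩)) = 1
  rw [hg]
  show algebraMap (ResidueField R) (ResidueField (R ⧸ Ideal.span {x})) 1 = 1
  exact map_one _

theorem smul_one_tmul_eq_zero (hx : x ∈ maximalIdeal R) (s : R ⧸ Ideal.span {x})
    (hs : s ∈ maximalIdeal (R ⧸ Ideal.span {x})) :
    s • ((1 : R ⧸ Ideal.span {x}) ⊗ₜ[R] (⟨x, hx⟩ : maximalIdeal R)) = 0 := by
  obtain ⟨y, rfl⟩ := Ideal.Quotient.mk_surjective s
  have hy : y ∈ maximalIdeal R := by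
    rw [mem_maximalIdeal, mem_nonunits_iff] at hs ⊢
    intro hu
    exact hs (hu.map _)
  rw [TensorProduct.smul_tmul', smul_eq_mul, mul_one]
  have h1 : (Ideal.Quotient.mk (Ideal.span {x}) y) = y • (1 : R ⧸ Ideal.span {x}) := by
    rw [Algebra.smul_def, mul_one]
    rfl
  rw [h1, TensorProduct.smul_tmul]
  have h2 : y • (⟨x, hx⟩ : maximalIdeal R) = x • (⟨y, hy⟩ : maximalIdeal R) := by
    apply Subtype.ext
    show y * x = x * y
    exact mul_comm _ _
  rw [h2, ← TensorProduct.smul_tmul]
  have h3 : x • (1 : R ⧸ Ideal.span {x}) = 0 := by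
    rw [Algebra.smul_def, mul_one]
    exact Ideal.Quotient.eq_zero_iff_mem.mpr (Ideal.mem_span_singleton_self x)
  rw [h3, TensorProduct.zero_tmul]

/-- For `x ∈ m \ m²` the residue field of `S = R/(x)` is a retract of the `S`-module `S ⊗ m`. -/
theorem exists_retract_residueField (hx : x ∈ maximalIdeal R) (hx2 : x ∉ maximalIdeal R ^ 2) :
    ∃ (j : ResidueField (R ⧸ Ideal.span {x}) →ₗ[R ⧸ Ideal.span {x}]
        ((R ⧸ Ideal.span {x}) ⊗[R] maximalIdeal R))
      (ρ : ((R ⧸ Ideal.span {x}) ⊗[R] maximalIdeal R) →ₗ[R ⧸ Ideal.span {x}]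
        ResidueField (R ⧸ Ideal.span {x})), ρ ∘ₗ j = LinearMap.id := by
  obtain ⟨φ, hφ⟩ := exists_linearMap_maximalIdeal_eq_one R x hx hx2
  let u : (R ⧸ Ideal.span {x}) ⊗[R] maximalIdeal R :=
    (1 : R ⧸ Ideal.span {x}) ⊗ₜ[R] (⟨x, hx⟩ : maximalIdeal R)
  have hker : maximalIdeal (R ⧸ Ideal.span {x}) ≤
      LinearMap.ker (LinearMap.toSpanSingleton (R ⧸ Ideal.span {x}) _ u) := by
    intro s hs
    rw [LinearMap.mem_ker, LinearMap.toSpanSingleton_apply]
    exact smul_one_tmul_eq_zero R x hx s hs
  let j : ResidueField (R ⧸ Ideal.span {x}) →ₗ[R ⧸ Ideal.span {x}]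
      ((R ⧸ Ideal.span {x}) ⊗[R] maximalIdeal R) :=
    Submodule.liftQ (maximalIdeal (R ⧸ Ideal.span {x}))
      (LinearMap.toSpanSingleton (R ⧸ Ideal.span {x}) _ u) hker
  let ρ : ((R ⧸ Ideal.span {x}) ⊗[R] maximalIdeal R) →ₗ[R ⧸ Ideal.span {x}]
      ResidueField (R ⧸ Ideal.span {x}) := LinearMap.liftBaseChange (R ⧸ Ideal.span {x}) φ
  refine ⟨j, ρ, ?_⟩
  refine LinearMap.ext fun z => ?_
  obtain ⟨s, rfl⟩ := Submodule.Quotient.mk_surjective (maximalIdeal (R ⧸ Ideal.span {x})) z
  show ρ (Submodule.liftQ _ _ hker (Submodule.Quotient.mk s)) = Submodule.Quotient.mk s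
  rw [Submodule.liftQ_apply, LinearMap.toSpanSingleton_apply, map_smul]
  show s • (LinearMap.liftBaseChange (R ⧸ Ideal.span {x}) φ)
    ((1 : R ⧸ Ideal.span {x}) ⊗ₜ[R] (⟨x, hx⟩ : maximalIdeal R)) = _
  rw [LinearMap.liftBaseChange_tmul, hφ, one_smul]
  show s • (Submodule.Quotient.mk (1 : R ⧸ Ideal.span {x}) :
    (R ⧸ Ideal.span {x}) ⧸ maximalIdeal (R ⧸ Ideal.span {x})) = _
  rw [← Submodule.Quotient.mk_smul, smul_eq_mul, mul_one]

end Retract


section Main

/-- Prime avoidance: outside `m²` and all associated primes. -/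
theorem exists_regular_mem_maximalIdeal_notMem_sq (A : Type u) [CommRing A] [IsLocalRing A]
    [IsNoetherianRing A] (hnf : ¬ IsField A)
    (hass : maximalIdeal A ∉ associatedPrimes A A) :
    ∃ x ∈ maximalIdeal A, x ∉ maximalIdeal A ^ 2 ∧ IsSMulRegular A x := by
  classical
  have hPfin := associatedPrimes.finite A A
  obtain ⟨x, hxm, hx2, hxP⟩ : ∃ x ∈ maximalIdeal A, x ∉ maximalIdeal A ^ 2 ∧
      ∀ p ∈ associatedPrimes A A, x ∉ p := by
    by_contra hcon
    have hsub : ((maximalIdeal A : Ideal A) : Set A) ⊆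
        ⋃ i ∈ ((insert (maximalIdeal A ^ 2) hPfin.toFinset : Finset (Ideal A)) : Set (Ideal A)),
          (i : Set A) := by
      intro x hx
      by_contra hx'
      apply hcon
      refine ⟨x, hx, fun h2 => hx' ?_, fun p hp hxp => hx' ?_⟩
      · exact Set.mem_biUnion (by simp) h2
      · exact Set.mem_biUnion (by simp [hp]) hxp
    rw [Ideal.subset_union_prime (R := A) (f := fun p : Ideal A => p) (maximalIdeal A ^ 2)
      (maximalIdeal A ^ 2)] at hsub
    · obtain ⟨i, hi, hle⟩ := hsub
      rw [Finset.mem_insert] at hi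
      rcases hi with rfl | hi
      · obtain ⟨y, hym, hy2⟩ := exists_mem_maximalIdeal_notMem_sq A hnf
        exact hy2 (hle hym)
      · have hiP : i ∈ associatedPrimes A A := hPfin.mem_toFinset.mp hi
        have hiprime : i.IsPrime := hiP.isPrime
        have him : i = maximalIdeal A :=
          ((maximalIdeal.isMaximal A).eq_of_le hiprime.ne_top hle).symm
        exact hass (him ▸ hiP)
    · intro i hi hne _
      rw [Finset.mem_insert] at hi
      rcases hi with rfl | hi
      · exact absurd rfl hne
      · exact (hPfin.mem_toFinset.mp hi).isPrime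
  refine ⟨x, hxm, hx2, ?_⟩
  have hx : x ∉ (⋃ p ∈ associatedPrimes A A, (p : Set A)) := by
    intro h
    obtain ⟨p, hp, hxp⟩ := Set.mem_iUnion₂.mp h
    exact hxP p hp hxp
  rw [biUnion_associatedPrimes_eq_compl_regular] at hx
  simpa using hx

theorem isRegularLocalRing_of_pd_residueField_aux (t : ℕ) :
    ∀ (R : Type u) [CommRing R] [IsLocalRing R] [IsNoetherianRing R],
      LocCoh.depth R R = t → ∀ n : ℕ,
      HasProjectiveDimensionLT (ModuleCat.of R (ResidueField R)) n → IsRegularLocalRing R := by
  induction t with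
  | zero =>
    intro R _ _ _ ht n h
    rw [Nat.cast_zero] at ht
    have h1 := projective_of_depth_eq_zero_of_pd R ht n (R ⧸ maximalIdeal R) h
    rw [← projective_iff_hasProjectiveDimensionLT_one, ← IsProjective.iff_projective] at h1
    haveI : Module.Free R (R ⧸ maximalIdeal R) := Module.free_of_flat_of_isLocalRing
    haveI : Nontrivial (R ⧸ maximalIdeal R) :=
      Ideal.Quotient.nontrivial_iff.mpr (maximalIdeal.isMaximal R).ne_top
    have hm : maximalIdeal R = ⊥ := by
      have h2 : Module.annihilator R (R ⧸ maximalIdeal R) = ⊥ :=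
        Module.annihilator_eq_bot.mpr inferInstance
      rw [Ideal.annihilator_quotient] at h2
      exact h2
    apply IsRegularLocalRing.of_spanFinrank_maximalIdeal_le
    rw [hm, Submodule.spanFinrank_bot, Nat.cast_zero]
    exact ringKrullDim_nonneg_of_nontrivial
  | succ t ih =>
    intro R _ _ _ ht n h
    -- `R` is not a field and `m` is not associated
    have hass : maximalIdeal R ∉ associatedPrimes R R := by
      intro hcon
      have := (depth_eq_zero_iff_mem_ass R R).mpr hcon
      rw [this] at ht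
      have h0 : (0 : ℕ) = t + 1 := by exact_mod_cast ht
      omega
    have hnf : ¬ IsField R := by
      intro hF
      have h1 := depth_le_supportDim R R
      rw [Module.supportDim_self_eq_ringKrullDim, ringKrullDim_eq_zero_of_isField hF, ht] at h1
      have h2 : ((t + 1 : ℕ) : ℕ∞) ≤ 0 := by exact_mod_cast h1
      have h3 : t + 1 ≤ 0 := by exact_mod_cast h2
      omega
    obtain ⟨x, hxm, hx2, hreg⟩ := exists_regular_mem_maximalIdeal_notMem_sq R hnf hass
    -- the quotient ring
    have hne : Ideal.span {x} ≠ ⊤ := fun h =>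
      (maximalIdeal.isMaximal R).ne_top (top_le_iff.mp (h.ge.trans
        ((Ideal.span_singleton_le_iff_mem _).mpr hxm)))
    haveI : Nontrivial (R ⧸ Ideal.span {x}) := Ideal.Quotient.nontrivial_iff.mpr hne
    haveI : IsLocalRing (R ⧸ Ideal.span {x}) :=
      IsLocalRing.of_surjective' (Ideal.Quotient.mk _) Ideal.Quotient.mk_surjective
    haveI : IsLocalHom (algebraMap R (R ⧸ Ideal.span {x})) :=
      IsLocalHom.of_surjective _ Ideal.Quotient.mk_surjective
    -- depth drops by one
    have hdepth : LocCoh.depth (R ⧸ Ideal.span {x}) (R ⧸ Ideal.span {x}) = t := by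
      have h1 := depth_quotSMulTop_add_one R R x hxm hreg
      have h1' : LocCoh.depth R (QuotSMulTop x R) = LocCoh.depth R (R ⧸ Ideal.span {x}) :=
        idealDepth_congr _ (quotSMulTopEquivQuotientSpan R x)
      rw [ht, h1'] at h1
      have h2 : LocCoh.depth R (R ⧸ Ideal.span {x}) = t := by
        have h3 : LocCoh.depth R (R ⧸ Ideal.span {x}) + 1 = ((t : ℕ∞) + 1) := by
          rw [h1]; push_cast; rfl
        exact ENat.add_left_injective_of_ne_top (ENat.one_ne_top) h3
      rw [← depth_eq_depth_of_isLocalHom R (R ⧸ Ideal.span {x}) (R ⧸ Ideal.span {x})]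
      exact h2
    -- finite projective dimension of the residue field of the quotient
    have hS : (ModuleCat.shortComplexOfCompEqZero (maximalIdeal R).subtype
        (Submodule.mkQ (maximalIdeal R))
        (LinearMap.exact_subtype_mkQ (maximalIdeal R)).linearMap_comp_eq_zero).ShortExact :=
      ModuleCat.shortComplex_shortExact _ (LinearMap.exact_subtype_mkQ (maximalIdeal R))
        (maximalIdeal R).injective_subtype (Submodule.mkQ_surjective _)
    have hm : HasProjectiveDimensionLT (ModuleCat.of R (maximalIdeal R)) (n + 1) := by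
      have h2 : HasProjectiveDimensionLT (ModuleCat.of R R) (n + 1) := by
        haveI : Projective (ModuleCat.of R R) :=
          (IsProjective.iff_projective (R := R) (P := R)).mp inferInstance
        exact hasProjectiveDimensionLT_of_ge _ 1 _ (by omega)
      have h3 : HasProjectiveDimensionLT (ModuleCat.of R (R ⧸ maximalIdeal R)) (n + 1 + 1) :=
        haveI : HasProjectiveDimensionLT (ModuleCat.of R (R ⧸ maximalIdeal R)) n := h
        hasProjectiveDimensionLT_of_ge _ n _ (by omega)
      exact hS.hasProjectiveDimensionLT_X₁ (n + 1) h2 h3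
    have hmreg : IsSMulRegular (maximalIdeal R) x := hreg.submodule _ _
    have hN := hasProjectiveDimensionLT_baseChange_quotient R x hreg n (maximalIdeal R) hmreg hm
    obtain ⟨j, ρ, hjρ⟩ := exists_retract_residueField R x hxm hx2
    have hret : Retract (ModuleCat.of (R ⧸ Ideal.span {x}) (ResidueField (R ⧸ Ideal.span {x})))
        (ModuleCat.of (R ⧸ Ideal.span {x}) ((R ⧸ Ideal.span {x}) ⊗[R] maximalIdeal R)) :=
      { i := ModuleCat.ofHom j
        r := ModuleCat.ofHom ρ
        retract := by
          rw [← ModuleCat.ofHom_comp, hjρ]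
          rfl }
    have hk := hret.hasProjectiveDimensionLT (n + 1)
    haveI := ih (R ⧸ Ideal.span {x}) hdepth (n + 1) hk
    refine isRegularLocalRing_of_quotient_span_singleton R x hxm ?_
    rw [mem_nonZeroDivisors_iff_right]
    intro z hz
    exact hreg (by simpa [mul_comm] using hz)

/-- **Serre**: a Noetherian local ring whose residue field has finite projective dimension is
regular. -/
theorem isRegularLocalRing_of_hasProjectiveDimensionLT_residueField (R : Type u) [CommRing R]
    [IsLocalRing R] [IsNoetherianRing R] (n : ℕ)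
    (h : HasProjectiveDimensionLT (ModuleCat.of R (ResidueField R)) n) :
    IsRegularLocalRing R := by
  obtain ⟨t, ht⟩ := exists_natCast_eq_depth R R
  exact isRegularLocalRing_of_pd_residueField_aux t R ht n h

end Main

end Groth.Agent.H29
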