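import Mathlib
import Groth.Prelude.Def_CAlg
import Groth.Agent.H29.SerreConverse
import Groth.Agent.H29.RegGlobalDim

/-!
# Localizations of regular local rings are regular (helper29)

* `hasProjectiveDimensionLT_localization` : global dimension does not increase under localization.
* `isRegularLocalRing_localization_atPrime` : `R_p` is regular for `R` regular local.
* `isRegularRing_of_isRegularLocalRing` : a regular local ring is a regular ring.
-/

set_option autoImplicit false
set_option linter.style.haveILetI false
set_option linter.unusedSectionVars false
universe u

namespace Groth.Agent.H29

open CategoryTheory IsLocalRing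

/-- If every `R`-module has projective dimension `≤ n`, so does every module over a
localization of `R`. -/
theorem hasProjectiveDimensionLT_localization (R : Type u) [CommRing R] (S : Submonoid R) (n : ℕ)
    (h : ∀ M : ModuleCat.{u} R, HasProjectiveDimensionLT M (n + 1))
    (N : Type u) [AddCommGroup N] [Module (Localization S) N] :
    HasProjectiveDimensionLT (ModuleCat.of (Localization S) N) (n + 1) := by
  letI : Module R N := Module.compHom N (algebraMap R (Localization S))
  haveI : IsScalarTower R (Localization S) N := IsScalarTower.of_compHom R (Localization S) N
  haveI : HasProjectiveDimensionLE (ModuleCat.of R N) n := h (ModuleCat.of R N)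
  have h1 : HasProjectiveDimensionLE ((ModuleCat.of R N).localizedModule S) n :=
    ModuleCat.localizedModule_hasProjectiveDimensionLE n S (ModuleCat.of R N)
  haveI := isLocalizedModule_id S N (Localization S)
  let e1 : LocalizedModule S N ≃ₗ[Localization S] N :=
    (IsLocalizedModule.linearEquiv S (LocalizedModule.mkLinearMap S N)
      (LinearMap.id : N →ₗ[R] N)).extendScalarsOfIsLocalization S (Localization S)
  let e : ((ModuleCat.of R N).localizedModule S) ≃ₗ[Localization S]
      (ModuleCat.of (Localization S) N) :=
    (Shrink.linearEquiv (Localization S) (LocalizedModule S N)).trans e1
  exact ModuleCat.hasProjectiveDimensionLE_of_linearEquiv e n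

/-- The localization of a regular local ring at a prime is a regular local ring. -/
theorem isRegularLocalRing_localization_atPrime (R : Type u) [CommRing R] [IsRegularLocalRing R]
    (p : Ideal R) [p.IsPrime] : IsRegularLocalRing (Localization.AtPrime p) := by
  obtain ⟨d, hd⟩ := ringKrullDim_eq_natCast_of_isLocalRing R
  have h := hasProjectiveDimensionLT_localization R p.primeCompl d
    (hasProjectiveDimensionLT_of_isRegularLocalRing R d hd)
    (ResidueField (Localization.AtPrime p))
  exact isRegularLocalRing_of_hasProjectiveDimensionLT_residueField _ (d + 1) h

/-- A regular local ring is a regular ring. -/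
theorem isRegularRing_of_isRegularLocalRing (R : Type u) [CommRing R] [IsRegularLocalRing R] :
    IsRegularRing R :=
  isRegularRing_iff.mpr fun p _ => isRegularLocalRing_localization_atPrime R p

end Groth.Agent.H29
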