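import Mathlib
import Groth.Prelude.Def_CAlg
import Groth.Agent.H29.CMLib

/-!
# Regular sequences inside an ideal of a Cohen–Macaulay module (helper29)

* `exists_isWeaklyRegular_in_ideal` : for a CM module `M` over a Noetherian local ring and a proper
  ideal `I` with `dim A/I + r = dim M`, there are `M`-regular sequences of every length `k ≤ r`
  inside `I`.
-/

set_option autoImplicit false
universe u v

namespace Groth.Agent.H29

open RingTheory.Sequence
open scoped Pointwise

variable (A : Type u) [CommRing A] [IsNoetherianRing A] [IsLocalRing A]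

theorem exists_isWeaklyRegular_in_ideal (M : Type u) [AddCommGroup M] [Module A M]
    [Module.Finite A M] (hM : LocCoh.IsCohenMacaulayModule A M) (I : Ideal A) (hI : I ≠ ⊤)
    (k : ℕ) :
    ∀ r : ℕ, k ≤ r → ringKrullDim (A ⧸ I) + r = Module.supportDim A M →
      ∃ xs : List A, xs.length = k ∧ (∀ x ∈ xs, x ∈ I) ∧ IsWeaklyRegular M xs := by
  have hIbot : ringKrullDim (A ⧸ I) ≠ ⊥ := by
    have : Nontrivial (A ⧸ I) := Ideal.Quotient.nontrivial_iff.mpr hI
    intro h
    have h0 : (0 : WithBot ℕ∞) ≤ ringKrullDim (A ⧸ I) := ringKrullDim_nonneg_of_nontrivial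
    rw [h] at h0
    exact absurd (le_bot_iff.mp h0) (by simp)
  induction k with
  | zero =>
    intro r _ _
    exact ⟨[], rfl, by simp, IsWeaklyRegular.nil A M⟩
  | succ k ih =>
    intro r hkr hr
    obtain ⟨xs, hlen, hmem, hreg⟩ := ih r (by omega) hr
    have hmemm : ∀ x ∈ xs, x ∈ IsLocalRing.maximalIdeal A :=
      fun x hx => IsLocalRing.le_maximalIdeal hI (hmem x hx)
    have hnt := IsCohenMacaulayModule.nontrivial A hM
    have hN : LocCoh.IsCohenMacaulayModule A (M ⧸ Ideal.ofList xs • (⊤ : Submodule A M)) :=
      isCohenMacaulayModule_quotient_of_isWeaklyRegular A xs M hM hmemm hreg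
    have hntN := IsCohenMacaulayModule.nontrivial A hN
    have hNdim := supportDim_quotient_add_length_of_isWeaklyRegular A M xs hmemm hreg
    obtain ⟨x, hxp, hxreg⟩ : ∃ x ∈ I,
        IsSMulRegular (M ⧸ Ideal.ofList xs • (⊤ : Submodule A M)) x := by
      apply exists_isSMulRegular_mem_of_forall_not_le A _ I
      intro q hq hpq
      have h1 := ringKrullDim_quotient_eq_supportDim_of_isCohenMacaulayModule A _ hN q hq
      have h2 := ringKrullDim_quotient_le_of_le A _ _ hpq
      rw [h1] at h2
      obtain ⟨a, ha⟩ := withBot_exists_natCast hIbot (ringKrullDim_quotient_ne_top A I)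
      obtain ⟨b, hb⟩ := withBot_exists_natCast
        (Module.supportDim_ne_bot_of_nontrivial A (M ⧸ Ideal.ofList xs • (⊤ : Submodule A M)))
        (supportDim_lt_top A _).ne
      obtain ⟨d, hd⟩ := withBot_exists_natCast (Module.supportDim_ne_bot_of_nontrivial A M)
        (supportDim_lt_top A M).ne
      rw [ha, hb] at h2
      rw [ha, hd, ← withBot_natCast_add] at hr
      rw [hb, hd, ← withBot_natCast_add] at hNdim
      have e1 := withBot_natCast_inj hr
      have e2 := withBot_natCast_inj hNdim
      have e3 := withBot_natCast_le.mp h2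
      omega
    refine ⟨xs ++ [x], by simp [hlen], ?_, ?_⟩
    · intro y hy
      rcases List.mem_append.mp hy with hy | hy
      · exact hmem y hy
      · rw [List.mem_singleton.mp hy]
        exact hxp
    · exact (isWeaklyRegular_append_iff M xs [x]).mpr
        ⟨hreg, (isWeaklyRegular_singleton_iff _ x).mpr hxreg⟩

end Groth.Agent.H29
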