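import Groth.Prelude.Def_HopfRep
import Groth.Prelude.Def_Hoch
import Mathlib

set_option autoImplicit false

namespace Groth.Agent.H29

open TensorProduct

section Lemmas

variable {k : Type*} [CommRing k] {C D V : Type*} [AddCommGroup C] [Module k C]
  [AddCommGroup D] [Module k D] [AddCommGroup V] [Module k V]

lemma assoc_lTensor_tmul (i : C →ₗ[k] D) (y : V ⊗[k] C) (c : C) :
    TensorProduct.assoc k V D D ((i.lTensor V y) ⊗ₜ[k] i c) =
      (TensorProduct.map i i).lTensor V (TensorProduct.assoc k V C C (y ⊗ₜ[k] c)) := by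
  induction y using TensorProduct.induction_on with
  | zero => simp
  | tmul v c' => simp
  | add y₁ y₂ h₁ h₂ => simp only [map_add, TensorProduct.add_tmul, h₁, h₂]

lemma assoc_rTensor_lTensor (i : C →ₗ[k] D) (ρ : V →ₗ[k] V ⊗[k] C) (z : V ⊗[k] C) :
    TensorProduct.assoc k V D D (((i.lTensor V ∘ₗ ρ).rTensor D) (i.lTensor V z)) =
      (TensorProduct.map i i).lTensor V (TensorProduct.assoc k V C C (ρ.rTensor C z)) := by
  induction z using TensorProduct.induction_on with
  | zero => simp
  | tmul v c =>
    simp only [LinearMap.lTensor_tmul, LinearMap.rTensor_tmul, LinearMap.comp_apply]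
    exact assoc_lTensor_tmul i (ρ v) c
  | add z₁ z₂ h₁ h₂ => simp only [map_add, h₁, h₂]

end Lemmas

section Corestrict

variable (k : Type*) [CommRing k] (C D V : Type*) [AddCommGroup C] [Module k C] [Coalgebra k C]
  [AddCommGroup D] [Module k D] [Coalgebra k D] [AddCommGroup V] [Module k V]

/-- A `C`-comodule is a `D`-comodule along a coalgebra map `C → D`. -/
@[reducible] def comodOfCoalgHom (i : C →ₗc[k] D) [HopfRep.Comod k C V] : HopfRep.Comod k D V where
  coact := (i : C →ₗ[k] D).lTensor V ∘ₗ HopfRep.Comod.coact (k := k) (A := C)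
  coassoc := by
    ext v
    simp only [LinearMap.comp_apply, LinearEquiv.coe_coe]
    rw [assoc_rTensor_lTensor]
    have h := LinearMap.congr_fun (HopfRep.Comod.coassoc (k := k) (A := C) (V := V)) v
    simp only [LinearMap.comp_apply, LinearEquiv.coe_coe] at h
    rw [h, ← LinearMap.comp_apply, ← LinearMap.lTensor_comp, CoalgHomClass.map_comp_comul i,
      LinearMap.lTensor_comp]
    rfl
  counit_comp := by
    rw [← LinearMap.comp_assoc, ← LinearMap.lTensor_comp, CoalgHomClass.counit_comp]
    exact HopfRep.Comod.counit_comp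

end Corestrict

end Groth.Agent.H29
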