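import Mathlib
import Groth.Prelude.Def_CAlg
import Groth.Agent.H29.DepthFlat

/-!
# Depth and height under flat base change hitting `V(I)` (helper29)

`A → B` flat, every prime containing `I` is a contraction of a prime of `B`. Then
`ht(IB) = ht(I)` and `depth_{IB}(B ⊗ M) = depth_I M` for finite `M`.
-/

set_option autoImplicit false
set_option linter.style.haveILetI false
universe u v

namespace Groth.Agent.H29

open RingTheory.Sequence TensorProduct
open scoped Pointwise

variable (A B : Type u) [CommRing A] [CommRing B] [Algebra A B]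

/-- If `Ann(m)` is contained in the contraction of a proper ideal `q` of the flat algebra `B`,
then `1 ⊗ m ≠ 0`. -/
theorem one_tmul_ne_zero_of_forall_mem [Module.Flat A B] (M : Type v) [AddCommGroup M]
    [Module A M] (m : M) (q : Ideal B) (hq : q ≠ ⊤)
    (hann : ∀ a : A, a • m = 0 → algebraMap A B a ∈ q) :
    (1 : B) ⊗ₜ[A] m ≠ 0 := by
  intro h0
  obtain ⟨J, hJ⟩ : ∃ J : Ideal A, J = LinearMap.ker (LinearMap.toSpanSingleton A M m) := ⟨_, rfl⟩
  let f : A ⧸ J →ₗ[A] M := Submodule.liftQ J (LinearMap.toSpanSingleton A M m) hJ.le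
  have hf : Function.Injective f := by
    rw [← LinearMap.ker_eq_bot]
    exact Submodule.ker_liftQ_eq_bot _ _ _ hJ.ge
  have hinj := Module.Flat.lTensor_preserves_injective_linearMap (M := B) f hf
  have hf1 : f (Ideal.Quotient.mk J 1) = m := by
    change Submodule.liftQ J _ _ (Submodule.Quotient.mk 1) = m
    rw [Submodule.liftQ_apply, LinearMap.toSpanSingleton_apply, one_smul]
  have h1 : (f.lTensor B) ((1 : B) ⊗ₜ[A] (Ideal.Quotient.mk J 1)) = 0 := by
    rw [LinearMap.lTensor_tmul, hf1, h0]
  have h2 : (1 : B) ⊗ₜ[A] (Ideal.Quotient.mk J 1) = 0 := hinj (by rw [h1, map_zero])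
  have h3 := congrArg (TensorProduct.tensorQuotEquivQuotSMul B J) h2
  rw [TensorProduct.tensorQuotEquivQuotSMul_tmul_mk, map_zero, one_smul,
    Submodule.Quotient.mk_eq_zero] at h3
  have h4 : (J • (⊤ : Submodule A B)) ≤ q.restrictScalars A := by
    rw [Submodule.smul_le]
    intro a ha b _
    change a • b ∈ q
    rw [Algebra.smul_def]
    refine q.mul_mem_right _ (hann a ?_)
    rw [hJ, LinearMap.mem_ker, LinearMap.toSpanSingleton_apply] at ha
    exact ha
  exact hq ((Ideal.eq_top_iff_one q).mpr (h4 h3))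

/-- `I M ≠ M` ascends along a flat map hitting `V(I)`. -/
theorem map_smul_top_tensor_ne_top_of_image [IsNoetherianRing A] [Module.Flat A B] (I : Ideal A)
    (hI : ∀ p : Ideal A, p.IsPrime → I ≤ p →
      ∃ q : Ideal B, q.IsPrime ∧ q.comap (algebraMap A B) = p)
    (M : Type v) [AddCommGroup M] [Module A M]
    (hIM : I • (⊤ : Submodule A M) ≠ ⊤) :
    I.map (algebraMap A B) • (⊤ : Submodule B (B ⊗[A] M)) ≠ ⊤ := by
  intro htop
  haveI : Nontrivial (M ⧸ I • (⊤ : Submodule A M)) :=
    Submodule.Quotient.nontrivial_iff.mpr hIM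
  obtain ⟨p, hp⟩ := associatedPrimes.nonempty A (M ⧸ I • (⊤ : Submodule A M))
  obtain ⟨hpp, n, hn⟩ := isAssociatedPrime_iff.mp hp
  have hIp : I ≤ p := by
    intro a ha
    rw [hn, Submodule.mem_colon_singleton, Submodule.mem_bot]
    obtain ⟨x, rfl⟩ := Submodule.Quotient.mk_surjective _ n
    rw [← Submodule.Quotient.mk_smul, Submodule.Quotient.mk_eq_zero]
    exact Submodule.smul_mem_smul ha Submodule.mem_top
  obtain ⟨q, hq, hqp⟩ := hI p hpp hIp
  have hne := one_tmul_ne_zero_of_forall_mem A B (M ⧸ I • (⊤ : Submodule A M)) n q hq.ne_top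
    (fun a ha => by
      have : a ∈ p := by
        rw [hn, Submodule.mem_colon_singleton, Submodule.mem_bot]
        exact ha
      rw [← hqp] at this
      exact this)
  apply hne
  obtain ⟨x, rfl⟩ := Submodule.Quotient.mk_surjective _ n
  have hkill : ∀ b ∈ I.map (algebraMap A B),
      ∀ t : B ⊗[A] (M ⧸ I • (⊤ : Submodule A M)), b • t = 0 := by
    intro b hb
    have hle : I.map (algebraMap A B) ≤
        Module.annihilator B (B ⊗[A] (M ⧸ I • (⊤ : Submodule A M))) := by
      rw [Ideal.map_le_iff_le_comap]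
      intro a ha
      rw [Ideal.mem_comap, Module.mem_annihilator]
      intro t
      induction t using TensorProduct.induction_on with
      | zero => exact smul_zero _
      | tmul b' y =>
        obtain ⟨y, rfl⟩ := Submodule.Quotient.mk_surjective _ y
        rw [algebraMap_smul, ← TensorProduct.tmul_smul, ← Submodule.Quotient.mk_smul,
          (Submodule.Quotient.mk_eq_zero _).mpr (Submodule.smul_mem_smul ha Submodule.mem_top),
          TensorProduct.tmul_zero]
      | add t₁ t₂ h₁ h₂ => rw [smul_add, h₁, h₂, add_zero]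
    exact fun t => Module.mem_annihilator.mp (hle hb) t
  have hx : ((1 : B) ⊗ₜ[A] x : B ⊗[A] M) ∈
      I.map (algebraMap A B) • (⊤ : Submodule B (B ⊗[A] M)) := by
    rw [htop]; exact Submodule.mem_top
  have hg : ∀ t ∈ I.map (algebraMap A B) • (⊤ : Submodule B (B ⊗[A] M)),
      ((I • (⊤ : Submodule A M)).mkQ.baseChange B) t = 0 := by
    intro t ht
    refine Submodule.smul_induction_on ht ?_ ?_
    · intro b hb t' _
      rw [map_smul]
      exact hkill b hb _
    · intro t₁ t₂ h₁ h₂
      rw [map_add, h₁, h₂, add_zero]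
  have := hg _ hx
  rwa [LinearMap.baseChange_tmul] at this

theorem le_idealDepth_of_le_idealDepth_tensor_of_image [IsNoetherianRing A] [IsNoetherianRing B]
    [Module.Flat A B] (I : Ideal A)
    (hI : ∀ p : Ideal A, p.IsPrime → I ≤ p →
      ∃ q : Ideal B, q.IsPrime ∧ q.comap (algebraMap A B) = p) (n : ℕ) :
    ∀ (M : Type u) [AddCommGroup M] [Module A M] [Module.Finite A M],
      I • (⊤ : Submodule A M) ≠ ⊤ →
      (n : ℕ∞) ≤ LocCoh.idealDepth (I.map (algebraMap A B)) (B ⊗[A] M) →
      (n : ℕ∞) ≤ LocCoh.idealDepth I M := by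
  induction n with
  | zero =>
    intro M _ _ _ _ _
    simp
  | succ n ih =>
    intro M _ _ _ hIM h
    have hIB : I.map (algebraMap A B) • (⊤ : Submodule B (B ⊗[A] M)) ≠ ⊤ :=
      map_smul_top_tensor_ne_top_of_image A B I hI M hIM
    have hex : ∃ x ∈ I, IsSMulRegular M x := by
      by_contra hcon
      have hnall : ¬ ∀ q ∈ associatedPrimes A M, ¬ I ≤ q := fun hall =>
        hcon (exists_isSMulRegular_mem_of_forall_not_le A M I hall)
      push Not at hnall
      obtain ⟨p, hp, hIp⟩ := hnall
      obtain ⟨hpp, m, hm⟩ := isAssociatedPrime_iff.mp hp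
      have hkill : ∀ a ∈ I, a • m = 0 := by
        intro a ha
        have : a ∈ (⊥ : Submodule A M).colon {m} := hm ▸ hIp ha
        rwa [Submodule.mem_colon_singleton, Submodule.mem_bot] at this
      obtain ⟨q, hq, hqp⟩ := hI p hpp hIp
      have hne : (1 : B) ⊗ₜ[A] m ≠ 0 :=
        one_tmul_ne_zero_of_forall_mem A B M m q hq.ne_top (fun a ha => by
          have : a ∈ p := by
            rw [hm, Submodule.mem_colon_singleton, Submodule.mem_bot]
            exact ha
          rw [← hqp] at this
          exact this)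
      have hle : I.map (algebraMap A B) ≤
          LinearMap.ker (LinearMap.toSpanSingleton B (B ⊗[A] M) ((1 : B) ⊗ₜ[A] m)) := by
        rw [Ideal.map_le_iff_le_comap]
        intro a ha
        rw [Ideal.mem_comap, LinearMap.mem_ker, LinearMap.toSpanSingleton_apply, algebraMap_smul,
          ← TensorProduct.tmul_smul, hkill a ha, TensorProduct.tmul_zero]
      obtain ⟨y, hyI, hyreg⟩ := exists_isSMulRegular_mem_of_one_le_idealDepth (B ⊗[A] M)
        (I.map (algebraMap A B)) hIB
        (le_trans (by exact_mod_cast Nat.succ_le_succ (Nat.zero_le n)) h)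
      have hy0 : y • ((1 : B) ⊗ₜ[A] m) = 0 := by
        have := hle hyI
        rwa [LinearMap.mem_ker, LinearMap.toSpanSingleton_apply] at this
      exact hne (hyreg (by simp only [hy0, smul_zero]))
    obtain ⟨x, hxI, hreg⟩ := hex
    have hregB : IsSMulRegular (B ⊗[A] M) (algebraMap A B x) :=
      hreg.of_flat_of_isBaseChange (TensorProduct.isBaseChange A M B)
    have hxIB : algebraMap A B x ∈ I.map (algebraMap A B) := Ideal.mem_map_of_mem _ hxI
    have h1 := idealDepth_quotSMulTop_add_one (I.map (algebraMap A B)) (B ⊗[A] M) hIB _ hxIB hregB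
    have h2 : (n : ℕ∞) ≤ LocCoh.idealDepth (I.map (algebraMap A B))
        (QuotSMulTop (algebraMap A B x) (B ⊗[A] M)) := by
      rw [← h1, Nat.cast_succ] at h
      exact (ENat.add_le_add_iff_right ENat.one_ne_top).mp h
    rw [idealDepth_congr _ (QuotSMulTop.algebraMapTensorEquivTensorQuotSMulTop x M B)] at h2
    have h3 := ih (QuotSMulTop x M) (smul_top_quotSMulTop_ne_top I M hIM x hxI) h2
    exact le_idealDepth_of_le_quotSMulTop I M hIM x hxI hreg n h3

theorem idealDepth_tensor_eq_of_image [IsNoetherianRing A] [IsNoetherianRing B]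
    [Module.Flat A B] (I : Ideal A)
    (hI : ∀ p : Ideal A, p.IsPrime → I ≤ p →
      ∃ q : Ideal B, q.IsPrime ∧ q.comap (algebraMap A B) = p)
    (M : Type u) [AddCommGroup M] [Module A M] [Module.Finite A M] :
    LocCoh.idealDepth (I.map (algebraMap A B)) (B ⊗[A] M) = LocCoh.idealDepth I M := by
  apply le_antisymm _ (idealDepth_le_idealDepth_tensor A B I M)
  by_cases hIM : I • (⊤ : Submodule A M) = ⊤
  · rw [idealDepth_eq_top_of_smul_top_eq_top I M hIM]
    exact le_top
  · exact ENat.forall_natCast_le_iff_le.mp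
      (fun n hn => le_idealDepth_of_le_idealDepth_tensor_of_image A B I hI n M hIM hn)

theorem height_map_eq_of_image [IsNoetherianRing A] [IsNoetherianRing B] [Module.Flat A B] (I : Ideal A)
    (hI : ∀ p : Ideal A, p.IsPrime → I ≤ p →
      ∃ q : Ideal B, q.IsPrime ∧ q.comap (algebraMap A B) = p) :
    (I.map (algebraMap A B)).height = I.height := by
  apply le_antisymm
  · rw [Ideal.height_eq_inf_minimalPrimes I]
    refine le_iInf₂ fun p hp => ?_
    haveI := hp.1.1
    obtain ⟨q, hq, hqp⟩ := hI p hp.1.1 hp.1.2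
    have hpq : p.map (algebraMap A B) ≤ q := by rw [Ideal.map_le_iff_le_comap, hqp]
    obtain ⟨Q, hQ, hQq⟩ := Ideal.exists_minimalPrimes_le hpq
    haveI := hQ.1.1
    have hQp : Q.comap (algebraMap A B) = p :=
      le_antisymm (by rw [← hqp]; exact Ideal.comap_mono hQq)
        (Ideal.map_le_iff_le_comap.mp hQ.1.2)
    haveI : Q.LiesOver p := ⟨by rw [Ideal.under_def, hQp]⟩
    have h1 := Ideal.height_le_height_add_of_liesOver p Q
    have h2 : (Q.map (Ideal.Quotient.mk (p.map (algebraMap A B)))).height = 0 := by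
      have hQ' := hQ
      rw [Ideal.minimalPrimes_eq_comap] at hQ'
      obtain ⟨Q', hQ'm, hQ'e⟩ := hQ'
      rw [← hQ'e, Ideal.map_comap_of_surjective _ Ideal.Quotient.mk_surjective]
      haveI : Q'.IsPrime := Ideal.minimalPrimes_isPrime hQ'm
      exact Ideal.height_eq_zero_iff.mpr hQ'm
    rw [h2, add_zero] at h1
    exact (Ideal.height_mono ((Ideal.map_mono hp.1.2).trans hQ.1.2)).trans h1
  · rw [Ideal.height_eq_inf_minimalPrimes (I.map (algebraMap A B))]
    refine le_iInf₂ fun Q hQ => ?_
    haveI := hQ.1.1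
    have h1 := Ideal.height_eq_height_add_of_liesOver_of_hasGoingDown (Q.under A) Q
    rw [h1]
    exact (Ideal.height_mono (Ideal.map_le_iff_le_comap.mp hQ.1.2)).trans le_self_add

end Groth.Agent.H29
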