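import Mathlib
import Groth.Prelude.Def_Cyc
import Groth.Prelude.Def_CAlg
import Groth.Agent.H29.CMLib

/-!
# Dimension functions versus dimensions of local rings (helper29)

* `eq_coheight_of_dimFun`: on a partial order with a greatest element `m`, a function `d` to `ℤ`
  vanishing at `m`, strictly antitone and dropping by exactly one along covers equals the coheight.
* `delta_eq`: for a dimension function `δ` on a scheme and a prime `p` of the local ring at `x`
  with associated point `z` (a generization of `x`), `δ z - δ x = coheight p`.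
* `coheight_eq_ringKrullDim_quotient`, `ringKrullDim_quotient_eq_of_CM`,
  `exists_minimal_of_generic`, `exists_open_generic_specializes`.
-/

set_option autoImplicit false
universe u

namespace Groth.Agent.H29.DimFun

open AlgebraicGeometry TopologicalSpace

theorem eq_coheight_of_dimFun {P : Type*} [PartialOrder P] (d : P → ℤ) (m : P)
    (hm : ∀ p, p ≤ m) (hd0 : d m = 0) (h1 : ∀ p q, p < q → d q < d p)
    (h2 : ∀ p q, p ⋖ q → d p = d q + 1) (p : P) :
    0 ≤ d p ∧ (((d p).toNat : ℕ) : ℕ∞) = Order.coheight p := by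
  have hnonneg : ∀ p, 0 ≤ d p := by
    intro p
    rcases (hm p).eq_or_lt with h | h
    · rw [h, hd0]
    · have := h1 p m h
      rw [hd0] at this
      exact this.le
  refine ⟨hnonneg p, le_antisymm ?_ ?_⟩
  · have key : ∀ n : ℕ, ∀ p, d p = n → (n : ℕ∞) ≤ Order.coheight p := by
      intro n
      induction n with
      | zero => intro p _; simp
      | succ n ih =>
        intro p hp
        have hpm : p < m := by
          refine lt_of_le_of_ne (hm p) ?_
          rintro rfl
          rw [hd0] at hp
          push_cast at hp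
          omega
        obtain ⟨z, ⟨q, hq, hqz⟩, hzmax⟩ := Int.exists_greatest_of_bdd
          (P := fun z => ∃ q, p < q ∧ d q = z)
          ⟨d p, fun z ⟨q, hq, hqz⟩ => hqz ▸ (h1 p q hq).le⟩ ⟨d m, m, hpm, rfl⟩
        have hcov : p ⋖ q := by
          refine ⟨hq, fun r hpr hrq => ?_⟩
          have h3 := hzmax (d r) ⟨r, hpr, rfl⟩
          have h4 := h1 r q hrq
          omega
        have hdq : d q = n := by
          have h3 := h2 p q hcov
          rw [hp] at h3
          push_cast at h3
          omega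
        calc ((n + 1 : ℕ) : ℕ∞) = (n : ℕ∞) + 1 := by norm_cast
          _ ≤ Order.coheight q + 1 := by gcongr; exact ih q hdq
          _ ≤ Order.coheight p := Order.coheight_add_one_le hq
    exact key _ p (Int.toNat_of_nonneg (hnonneg p)).symm
  · have key : ∀ n : ℕ, ∀ p, d p ≤ n → Order.coheight p ≤ (n : ℕ∞) := by
      intro n
      induction n with
      | zero =>
        intro p hp
        rw [Order.coheight_le_coe_iff]
        intro y hy
        exfalso
        have h3 := h1 p y hy
        have h4 := hnonneg y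
        push_cast at hp
        omega
      | succ n ih =>
        intro p hp
        rw [Order.coheight_le_coe_iff]
        intro y hy
        have h3 := h1 p y hy
        have hy' : d y ≤ n := by push_cast at hp; omega
        exact lt_of_le_of_lt (ih y hy') (by norm_cast; exact Nat.lt_succ_self n)
    exact key _ p (by rw [Int.toNat_of_nonneg (hnonneg p)])

theorem coheight_eq_ringKrullDim_quotient {R : Type*} [CommRing R] (p : PrimeSpectrum R) :
    ((Order.coheight p : ℕ∞) : WithBot ℕ∞) = ringKrullDim (R ⧸ p.asIdeal) := by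
  rw [Order.coheight_eq_krullDim_Ici, ringKrullDim_quotient]
  have h : Set.Ici p = PrimeSpectrum.zeroLocus (p.asIdeal : Set R) := by
    ext q
    rw [Set.mem_Ici, PrimeSpectrum.mem_zeroLocus, SetLike.coe_subset_coe,
      PrimeSpectrum.asIdeal_le_asIdeal]
  rw [h]

theorem ringKrullDim_quotient_eq_of_CM (R : Type u) [CommRing R]
    [hR : LocCoh.IsCohenMacaulayLocalRing R] (p : Ideal R) (hp : p ∈ minimalPrimes R) :
    ringKrullDim (R ⧸ p) = ringKrullDim R := by
  have hass : p ∈ associatedPrimes R R := by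
    apply Module.associatedPrimes.minimalPrimes_annihilator_subset_associatedPrimes R R
    rw [Module.annihilator_eq_bot.mpr inferInstance]
    exact hp
  rw [Groth.Agent.H29.ringKrullDim_quotient_eq_supportDim_of_isCohenMacaulayModule R R
    hR.supportDim_eq_depth p hass, Module.supportDim_self_eq_ringKrullDim]

variable {X : Scheme.{u}}

theorem le_closedPoint (x : X) (p : PrimeSpectrum (X.presheaf.stalk x)) :
    p ≤ IsLocalRing.closedPoint (X.presheaf.stalk x) :=
  (PrimeSpectrum.le_iff_specializes _ _).mpr (IsLocalRing.specializes_closedPoint p)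

theorem specializes_of_le (x : X) {p q : PrimeSpectrum (X.presheaf.stalk x)} (h : p ≤ q) :
    X.fromSpecStalk x p ⤳ X.fromSpecStalk x q :=
  ((PrimeSpectrum.le_iff_specializes p q).mp h).map (X.fromSpecStalk x).continuous

theorem le_of_specializes (x : X) {p q : PrimeSpectrum (X.presheaf.stalk x)}
    (h : X.fromSpecStalk x p ⤳ X.fromSpecStalk x q) : p ≤ q :=
  (PrimeSpectrum.le_iff_specializes p q).mpr
    ((X.fromSpecStalk x).isEmbedding.isInducing.specializes_iff.mp h)

theorem delta_eq (δ : X → ℤ) (hδ : Cyc.IsDimFun X δ) (x : X)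
    (p : PrimeSpectrum (X.presheaf.stalk x)) :
    0 ≤ δ (X.fromSpecStalk x p) - δ x ∧
      (((δ (X.fromSpecStalk x p) - δ x).toNat : ℕ) : ℕ∞) = Order.coheight p := by
  have hinj : Function.Injective (X.fromSpecStalk x) :=
    (X.fromSpecStalk x).isEmbedding.injective
  refine eq_coheight_of_dimFun (P := PrimeSpectrum (X.presheaf.stalk x))
    (fun p : PrimeSpectrum (X.presheaf.stalk x) => δ (X.fromSpecStalk x p) - δ x)
    (IsLocalRing.closedPoint _) (le_closedPoint x) ?_ ?_ ?_ p
  · show δ (X.fromSpecStalk x (IsLocalRing.closedPoint _)) - δ x = 0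
    rw [Scheme.fromSpecStalk_closedPoint, sub_self]
  · intro p q hpq
    have hne : X.fromSpecStalk x p ≠ X.fromSpecStalk x q := fun h => hpq.ne (hinj h)
    have := (hδ _ _ (specializes_of_le x hpq.le) hne).1
    show δ (X.fromSpecStalk x q) - δ x < δ (X.fromSpecStalk x p) - δ x
    omega
  · intro p q hpq
    have hne : X.fromSpecStalk x p ≠ X.fromSpecStalk x q := fun h => hpq.lt.ne (hinj h)
    have := (hδ _ _ (specializes_of_le x hpq.lt.le) hne).2 (by
      intro z hz1 hz2
      have hzx : z ⤳ x := hz2.trans (by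
        have : X.fromSpecStalk x q ∈ Set.range (X.fromSpecStalk x) := ⟨q, rfl⟩
        rw [Scheme.range_fromSpecStalk] at this
        exact this)
      obtain ⟨r, rfl⟩ : z ∈ Set.range (X.fromSpecStalk x) := by
        rw [Scheme.range_fromSpecStalk]; exact hzx
      rcases hpq.eq_or_eq (le_of_specializes x hz1) (le_of_specializes x hz2) with h | h
      · left; rw [h]
      · right; rw [h])
    show δ (X.fromSpecStalk x p) - δ x = δ (X.fromSpecStalk x q) - δ x + 1
    omega

theorem exists_minimal_of_generic (x ξ : X) (hξ : ∀ ξ' : X, ξ' ⤳ ξ → ξ' = ξ) (hx : ξ ⤳ x) :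
    ∃ p : PrimeSpectrum (X.presheaf.stalk x), X.fromSpecStalk x p = ξ ∧
      p.asIdeal ∈ minimalPrimes (X.presheaf.stalk x) := by
  obtain ⟨p, hp⟩ : ξ ∈ Set.range (X.fromSpecStalk x) := by
    rw [Scheme.range_fromSpecStalk]; exact hx
  refine ⟨p, hp, ?_⟩
  show Minimal (fun q : Ideal (X.presheaf.stalk x) => q.IsPrime ∧ ⊥ ≤ q) p.asIdeal
  refine ⟨⟨p.isPrime, bot_le⟩, ?_⟩
  rintro q ⟨hq, -⟩ hqp
  have h1 : X.fromSpecStalk x ⟨q, hq⟩ ⤳ X.fromSpecStalk x p :=
    specializes_of_le x (show (⟨q, hq⟩ : PrimeSpectrum _) ≤ p from hqp)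
  rw [hp] at h1
  have h2 := hξ _ h1
  have h3 : (⟨q, hq⟩ : PrimeSpectrum _) = p :=
    (X.fromSpecStalk x).isEmbedding.injective (h2.trans hp.symm)
  rw [← h3]

theorem exists_open_generic_specializes (X : Scheme.{u}) [IsLocallyNoetherian X] (x : X) :
    ∃ U : X.Opens, x ∈ U ∧ ∀ ξ : X, ξ ∈ U → (∀ ξ' : X, ξ' ⤳ ξ → ξ' = ξ) → ξ ⤳ x := by
  obtain ⟨V, hV, hxV, -⟩ := exists_isAffineOpen_mem_and_subset (X := X) (x := x)
    (U := ⊤) trivial
  haveI : IsNoetherianRing Γ(X, V) := IsLocallyNoetherian.component_noetherian ⟨V, hV⟩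
  haveI : NoetherianSpace V := noetherianSpace_of_isAffineOpen V hV
  let x' : V := ⟨x, hxV⟩
  let T : Set (Set V) := {Z | Z ∈ irreducibleComponents V ∧ x' ∉ Z}
  have hTfin : T.Finite :=
    (NoetherianSpace.finite_irreducibleComponents (α := V)).subset (fun Z hZ => hZ.1)
  have hWclosed : IsClosed (⋃ Z ∈ T, Z) :=
    hTfin.isClosed_biUnion (fun Z hZ => isClosed_of_mem_irreducibleComponents Z hZ.1)
  have hUopen : IsOpen (V.ι '' (⋃ Z ∈ T, Z)ᶜ : Set X) :=
    V.ι.isOpenEmbedding.isOpenMap _ hWclosed.isOpen_compl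
  refine ⟨⟨V.ι '' (⋃ Z ∈ T, Z)ᶜ, hUopen⟩, ⟨x', ?_, rfl⟩, ?_⟩
  · intro hx
    simp only [Set.mem_iUnion] at hx
    obtain ⟨Z, hZ, hxZ⟩ := hx
    exact hZ.2 hxZ
  · rintro ξ ⟨ξ', hξ'U, rfl⟩ hgen
    have hZmem : irreducibleComponent ξ' ∈ irreducibleComponents V :=
      irreducibleComponent_mem_irreducibleComponents ξ'
    have hξZ : ξ' ∈ irreducibleComponent ξ' := mem_irreducibleComponent
    have hxZ : x' ∈ irreducibleComponent ξ' := by
      by_contra h
      apply hξ'U
      simp only [Set.mem_iUnion]
      exact ⟨_, ⟨hZmem, h⟩, hξZ⟩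
    have hZirr : IsIrreducible (irreducibleComponent ξ') := isIrreducible_irreducibleComponent
    have hZcl : IsClosed (irreducibleComponent ξ') := isClosed_irreducibleComponent
    have hη : IsGenericPoint hZirr.genericPoint (irreducibleComponent ξ') :=
      hZirr.isGenericPoint_genericPoint hZcl
    have h1 : hZirr.genericPoint ⤳ ξ' := hη.specializes hξZ
    have h2 : V.ι hZirr.genericPoint ⤳ V.ι ξ' := h1.map V.ι.continuous
    have h3 : V.ι hZirr.genericPoint = V.ι ξ' := hgen _ h2
    have h4 : hZirr.genericPoint = ξ' := V.ι.isOpenEmbedding.injective h3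
    have h5 : ξ' ⤳ x' := h4 ▸ hη.specializes hxZ
    exact h5.map V.ι.continuous

end Groth.Agent.H29.DimFun

namespace Groth.Agent.H29.DimFun

open AlgebraicGeometry TopologicalSpace

theorem exists_generic_specializes (X : Scheme.{u}) (y : X) :
    ∃ ξ : X, ξ ⤳ y ∧ ∀ ξ' : X, ξ' ⤳ ξ → ξ' = ξ := by
  have hZirr : IsIrreducible (irreducibleComponent y) := isIrreducible_irreducibleComponent
  have hZcl : IsClosed (irreducibleComponent y) := isClosed_irreducibleComponent
  have hη := hZirr.isGenericPoint_genericPoint hZcl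
  refine ⟨hZirr.genericPoint, hη.specializes mem_irreducibleComponent, fun ξ' h => ?_⟩
  have h1 : irreducibleComponent y ⊆ closure {ξ'} := by
    rw [← hη.def]; exact specializes_iff_closure_subset.mp h
  have hmax := irreducibleComponent_mem_irreducibleComponents y
  have h2 : closure {ξ'} = irreducibleComponent y :=
    le_antisymm (hmax.2 isIrreducible_singleton.closure h1) h1
  have h3 : IsGenericPoint ξ' (irreducibleComponent y) := h2
  exact h3.eq hη

end Groth.Agent.H29.DimFun
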