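import Mathlib

/-!
# Dimension inequality for local homomorphisms (helper29)
-/

set_option autoImplicit false
universe u v

namespace Groth.Agent.H29

/-- `dim B ≤ dim A + dim B/𝔪_A B` for a local homomorphism of Noetherian local rings. -/
theorem ringKrullDim_le_add_fibre {A : Type u} {B : Type v} [CommRing A] [CommRing B]
    [IsLocalRing A] [IsLocalRing B] [IsNoetherianRing A] [IsNoetherianRing B] (f : A →+* B)
    [IsLocalHom f] :
    ringKrullDim B ≤ ringKrullDim A +
      ringKrullDim (B ⧸ (IsLocalRing.maximalIdeal A).map f) := by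
  letI : Algebra A B := f.toAlgebra
  have hlo : (IsLocalRing.maximalIdeal B).LiesOver (IsLocalRing.maximalIdeal A) := ⟨by
    rw [Ideal.under_def]; exact (IsLocalRing.maximalIdeal_comap f).symm⟩
  have h := Ideal.height_le_height_add_of_liesOver (IsLocalRing.maximalIdeal A)
    (IsLocalRing.maximalIdeal B)
  have hle : (IsLocalRing.maximalIdeal A).map f ≤ IsLocalRing.maximalIdeal B := by
    rw [Ideal.map_le_iff_le_comap, IsLocalRing.maximalIdeal_comap]
  have hne : (IsLocalRing.maximalIdeal B).map
      (Ideal.Quotient.mk ((IsLocalRing.maximalIdeal A).map f)) ≠ ⊤ := by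
    intro htop
    have h1 : (1 : B ⧸ (IsLocalRing.maximalIdeal A).map f) ∈ (IsLocalRing.maximalIdeal B).map
      (Ideal.Quotient.mk ((IsLocalRing.maximalIdeal A).map f)) := by rw [htop]; trivial
    rw [Ideal.mem_map_iff_of_surjective _ Ideal.Quotient.mk_surjective] at h1
    obtain ⟨x, hx, hx1⟩ := h1
    have h2 : x - 1 ∈ (IsLocalRing.maximalIdeal A).map f := by
      rw [← Ideal.Quotient.eq, hx1, map_one]
    have h3 : (1 : B) ∈ IsLocalRing.maximalIdeal B := by
      have := (IsLocalRing.maximalIdeal B).sub_mem hx (hle h2)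
      simpa using this
    exact (IsLocalRing.maximalIdeal.isMaximal B).ne_top ((Ideal.eq_top_iff_one _).mpr h3)
  have h2 := Ideal.height_le_ringKrullDim_of_ne_top hne
  rw [← IsLocalRing.maximalIdeal_height_eq_ringKrullDim,
    ← IsLocalRing.maximalIdeal_height_eq_ringKrullDim (R := A)]
  calc ((IsLocalRing.maximalIdeal B).height : WithBot ℕ∞)
      ≤ (((IsLocalRing.maximalIdeal A).height + ((IsLocalRing.maximalIdeal B).map
        (Ideal.Quotient.mk ((IsLocalRing.maximalIdeal A).map f))).height : ℕ∞) : WithBot ℕ∞) := by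
        exact_mod_cast h
    _ = ((IsLocalRing.maximalIdeal A).height : WithBot ℕ∞) + (((IsLocalRing.maximalIdeal B).map
        (Ideal.Quotient.mk ((IsLocalRing.maximalIdeal A).map f))).height : WithBot ℕ∞) := by
        rw [WithBot.coe_add]
    _ ≤ _ := add_le_add le_rfl h2

end Groth.Agent.H29
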