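import Mathlib
import Groth.Prelude.Def_CAlg
import Groth.Prelude.Def_EGA4b
import Groth.Prelude.Def_Found
import Groth.Agent.H29.LocLoc

/-!
# Transporting geometric properties of fibre rings along isomorphisms

* `key`: for a ring iso of fields `e : k₁ ≃+* k₂` and a compatible ring iso `φ : F₁ ≃+* F₂`
  of algebras, every `k₂`-field `K` becomes a `k₁`-field with `K ⊗[k₁] F₁ ≃+* K ⊗[k₂] F₂`.
* `geomReduced`, `geomNormal`, `geomRegular`, `cm_of_ringEquiv`: transports.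
* `fiber_iso`: for a pushout square `C' = B₀ ⊗[A₀] C` with `A₀ → B₀` surjective on stalks,
  the fibre of `C'` at a prime `P` of `B₀` is the fibre of `C` at `P ∩ A₀`.
-/

namespace Groth.Agent.H29.FibTransport

open TensorProduct

universe u

set_option linter.style.haveILetI false

section Transport

variable {k₁ k₂ : Type u} [Field k₁] [Field k₂] (e : k₁ ≃+* k₂)
  {F₁ F₂ : Type u} [CommRing F₁] [CommRing F₂] [Algebra k₁ F₁] [Algebra k₂ F₂] (φ : F₁ ≃+* F₂)
  (hφ : ∀ x, φ (algebraMap k₁ F₁ x) = algebraMap k₂ F₂ (e x))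

include hφ in
theorem key (K : Type u) [Field K] [Algebra k₂ K] :
    ∃ (_ : Algebra k₁ K), (Module.Finite k₂ K → Module.Finite k₁ K) ∧
      (Algebra.IsAlgebraic k₂ K → Algebra.IsAlgebraic k₁ K) ∧
      Nonempty (K ⊗[k₁] F₁ ≃+* K ⊗[k₂] F₂) := by
  letI a3 : Algebra k₁ k₂ := (e : k₁ →+* k₂).toAlgebra
  letI a1 : Algebra k₁ K := ((algebraMap k₂ K).comp (e : k₁ →+* k₂)).toAlgebra
  letI a2 : Algebra k₁ F₂ := ((algebraMap k₂ F₂).comp (e : k₁ →+* k₂)).toAlgebra
  haveI t1 : IsScalarTower k₁ k₂ K := IsScalarTower.of_algebraMap_eq' rfl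
  haveI t2 : IsScalarTower k₁ k₂ F₂ := IsScalarTower.of_algebraMap_eq' rfl
  have hsurj : Function.Surjective (algebraMap k₁ k₂) := e.surjective
  refine ⟨a1, fun hfin => ?_, fun halg => ?_, ?_⟩
  · haveI : Module.Finite k₁ k₂ := Module.Finite.of_surjective (Algebra.linearMap k₁ k₂) hsurj
    exact Module.Finite.trans k₂ K
  · haveI : Algebra.IsIntegral k₁ k₂ := Algebra.isIntegral_of_surjective hsurj
    haveI : Algebra.IsAlgebraic k₁ k₂ := Algebra.IsIntegral.isAlgebraic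
    exact Algebra.IsAlgebraic.trans k₁ k₂ K
  · let φa : F₁ ≃ₐ[k₁] F₂ := { φ with commutes' := fun x => hφ x }
    haveI c : TensorProduct.CompatibleSMul k₁ k₂ K F₂ := ⟨fun r m n => by
      obtain ⟨r', rfl⟩ := e.surjective r
      have h1 : (e r') • m = r' • m := algebraMap_smul k₂ r' m
      have h2 : (e r') • n = r' • n := algebraMap_smul k₂ r' n
      rw [h1, h2, TensorProduct.smul_tmul]⟩
    exact ⟨(Algebra.TensorProduct.congr (AlgEquiv.refl : K ≃ₐ[k₁] K) φa).toRingEquiv.trans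
      (Algebra.TensorProduct.equivOfCompatibleSMul k₁ k₂ k₁ K F₂).symm.toRingEquiv⟩

include hφ in
theorem geomReduced (h : Algebra.IsGeometricallyReduced k₁ F₁) :
    Algebra.IsGeometricallyReduced k₂ F₂ := by
  rw [Algebra.isGeometricallyReduced_field_iff]
  obtain ⟨a, -, halg, ⟨iso⟩⟩ := key e φ hφ (AlgebraicClosure k₂)
  haveI := halg inferInstance
  exact isReduced_of_injective iso.symm.toRingHom iso.symm.injective

theorem isNormalRing_of_ringEquiv {R S : Type u} [CommRing R] [CommRing S] (e : R ≃+* S)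
    (h : EGA4.IsNormalRing R) : EGA4.IsNormalRing S := by
  intro q hq
  haveI : (q.comap e).IsPrime := Ideal.comap_isPrime _ _
  obtain ⟨h1, h2⟩ := h (q.comap e)
  have e' : Localization.AtPrime (q.comap e) ≃+* Localization.AtPrime q :=
    Localization.localRingEquiv (q.comap e) q e rfl
  exact ⟨MulEquiv.isDomain _ e'.symm.toMulEquiv, IsIntegrallyClosed.of_equiv e'⟩

include hφ in
theorem geomNormal (h : EGA4.IsGeomNormal k₁ F₁) : EGA4.IsGeomNormal k₂ F₂ := by
  intro K _ _ hfin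
  obtain ⟨a, hf, -, ⟨iso⟩⟩ := key e φ hφ K
  exact isNormalRing_of_ringEquiv iso (h K (hf hfin))

include hφ in
theorem geomRegular (h : CAlg.IsGeometricallyRegular k₁ F₁) :
    CAlg.IsGeometricallyRegular k₂ F₂ := by
  intro K _ _ hfin
  obtain ⟨a, hf, -, ⟨iso⟩⟩ := key e φ hφ K
  haveI := h K (hf hfin)
  exact IsRegularRing.of_ringEquiv iso

end Transport

theorem cmLocal_of_ringEquiv {R S : Type u} [CommRing R] [CommRing S] (e : R ≃+* S)
    (h : LocCoh.IsCohenMacaulayLocalRing R) : LocCoh.IsCohenMacaulayLocalRing S := by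
  haveI := h
  haveI : IsNoetherianRing R := inferInstance
  haveI : IsLocalRing R := inferInstance
  haveI : IsNoetherianRing S := isNoetherianRing_of_ringEquiv R e
  haveI : IsLocalRing S := e.isLocalRing
  obtain ⟨h1, h2⟩ := Groth.Agent.H29.LocLoc.depth_supportDim_eq_of_semilinear (M := R) (M' := S)
    e e.toAddEquiv (fun r m => by simp)
  refine { supportDim_eq_depth := ?_ }
  rw [← h1, ← h2]
  exact h.supportDim_eq_depth

theorem cm_of_ringEquiv {R S : Type u} [CommRing R] [CommRing S] (e : R ≃+* S)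
    (h : LocCoh.IsCohenMacaulayRing R) : LocCoh.IsCohenMacaulayRing S := by
  haveI := h
  haveI : IsNoetherianRing R := inferInstance
  haveI : IsNoetherianRing S := isNoetherianRing_of_ringEquiv R e
  refine { isCohenMacaulayLocalRing_localization := fun q hq => ?_ }
  haveI : (q.comap e).IsPrime := Ideal.comap_isPrime _ _
  have hCM := h.isCohenMacaulayLocalRing_localization (q.comap e)
  exact cmLocal_of_ringEquiv (Localization.localRingEquiv (q.comap e) q e rfl) hCM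

/-- The fibre of a pushout `C' = B₀ ⊗[A₀] C` at a prime `P` of `B₀` is the fibre of `C` at the
contraction of `P`, when `A₀ → B₀` is surjective on stalks. -/
theorem fiber_iso {A₀ B₀ C C' : Type u} [CommRing A₀] [CommRing B₀] [CommRing C] [CommRing C']
    [Algebra A₀ B₀] [Algebra A₀ C] [Algebra B₀ C'] [Algebra C C'] [Algebra A₀ C']
    [IsScalarTower A₀ B₀ C'] [IsScalarTower A₀ C C']
    [Algebra.IsPushout A₀ C B₀ C']
    (hs : (algebraMap A₀ B₀).SurjectiveOnStalks)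
    (P : Ideal B₀) [P.IsPrime] (p : Ideal A₀) [p.IsPrime]
    (hp : p = P.comap (algebraMap A₀ B₀)) :
    ∃ (e : p.ResidueField ≃+* P.ResidueField) (φ : p.Fiber C ≃+* P.Fiber C'),
      ∀ x, φ (algebraMap p.ResidueField (p.Fiber C) x) =
        algebraMap P.ResidueField (P.Fiber C') (e x) := by
  have hbij := hs.residueFieldMap_bijective p P hp
  let e₀ : p.ResidueField →ₐ[A₀] P.ResidueField :=
    Ideal.ResidueField.mapₐ p P (Algebra.ofId A₀ B₀) hp
  let ea : p.ResidueField ≃ₐ[A₀] P.ResidueField := AlgEquiv.ofBijective e₀ hbij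
  let φ₁ : p.Fiber C ≃ₐ[A₀] (P.ResidueField ⊗[A₀] C) :=
    Algebra.TensorProduct.congr ea AlgEquiv.refl
  let φ₂ : (P.ResidueField ⊗[A₀] C) ≃ₐ[A₀] (C ⊗[A₀] P.ResidueField) :=
    Algebra.TensorProduct.comm A₀ _ _
  let φ₃ : (C' ⊗[B₀] P.ResidueField) ≃ₐ[C] (C ⊗[A₀] P.ResidueField) :=
    Algebra.IsPushout.cancelBaseChangeAlg A₀ C B₀ C' P.ResidueField
  let φ₄ : (C' ⊗[B₀] P.ResidueField) ≃ₐ[B₀] (P.ResidueField ⊗[B₀] C') :=
    Algebra.TensorProduct.comm B₀ _ _
  refine ⟨ea.toRingEquiv, φ₁.toRingEquiv.trans (φ₂.toRingEquiv.trans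
    (φ₃.symm.toRingEquiv.trans φ₄.toRingEquiv)), fun x => ?_⟩
  have h1 : φ₁ (x ⊗ₜ 1) = ea x ⊗ₜ 1 := by simp [φ₁]
  have h2 : φ₂ (ea x ⊗ₜ 1) = 1 ⊗ₜ ea x := by simp [φ₂]
  have h3 : φ₃.symm (1 ⊗ₜ ea x) = 1 ⊗ₜ ea x := by simp [φ₃]
  have h4 : φ₄ (1 ⊗ₜ ea x) = ea x ⊗ₜ 1 := by simp [φ₄]
  rw [Algebra.TensorProduct.algebraMap_apply, Algebra.TensorProduct.algebraMap_apply]
  simp only [Algebra.algebraMap_self, RingHom.id_apply]
  show φ₄ (φ₃.symm (φ₂ (φ₁ (x ⊗ₜ 1)))) = _
  rw [h1, h2, h3, h4]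
  rfl

end Groth.Agent.H29.FibTransport
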