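import Mathlib

set_option autoImplicit false

namespace Groth.Agent.H29

open TensorProduct

/-- If `T` is faithfully flat over `S` and flat over `R`, then `S` is flat over `R`. -/
theorem flat_of_faithfullyFlat_of_flat_comp (R S T : Type*) [CommRing R] [CommRing S] [CommRing T]
    [Algebra R S] [Algebra S T] [Algebra R T] [IsScalarTower R S T]
    [Module.FaithfullyFlat S T] [Module.Flat R T] : Module.Flat R S := by
  rw [Module.Flat.iff_lTensor_preserves_injective_linearMap]
  intro N P _ _ _ _ f hf
  have h1 : Function.Injective (f.lTensor T) := Module.Flat.lTensor_preserves_injective_linearMap f hf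
  -- the S-linear version of `lTensor S f`
  let g : S ⊗[R] N →ₗ[S] S ⊗[R] P := f.baseChange S
  have hg : ⇑g = ⇑(f.lTensor S) := rfl
  rw [← hg, ← Module.FaithfullyFlat.lTensor_injective_iff_injective S T]
  have key : (AlgebraTensorModule.cancelBaseChange R S S T P).toLinearMap ∘ₗ (g.lTensor T) =
      (AlgebraTensorModule.lTensor S T f) ∘ₗ (AlgebraTensorModule.cancelBaseChange R S S T N).toLinearMap := by
    ext; simp [g]
  have h1' : Function.Injective (AlgebraTensorModule.lTensor S T f) := h1
  have h2 : Function.Injective ((AlgebraTensorModule.cancelBaseChange R S S T P).toLinearMap ∘ₗ (g.lTensor T)) := by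
    rw [key]
    simp only [LinearMap.coe_comp, LinearEquiv.coe_coe]
    exact h1'.comp (AlgebraTensorModule.cancelBaseChange R S S T N).injective
  simp only [LinearMap.coe_comp, LinearEquiv.coe_coe] at h2
  exact Function.Injective.of_comp h2

end Groth.Agent.H29
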