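import Mathlib
import Groth.Prelude.Def_CAlg
import Groth.Prelude.Def_EGA4b
import Groth.Prelude.Def_Found
import Groth.Agent.H29.FibTransport
import Groth.Agent.H29.FFDescentPD
import Groth.Agent.H29.SerreConverse
import Groth.Agent.H29.RegGlobalDim
import Groth.Agent.H29.FlatDescent

/-!
# Faithfully flat descent of normality and regularity (helper29)

* `isIntegrallyClosed_descent` (copied from helper1's `NormalCpl`)
* `exists_ff_local`: for `R → R'` faithfully flat and `q` prime of `R`, some localization
  `R'_Q` is a faithfully flat `R_q`-algebra.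
* `isNormalRing_descent`, `isRegularLocalRing_descent`, `isRegularRing_descent`,
  `isNoetherianRing_descent`.
* `fibre isos`: `tensorIso₁ : K ⊗[κ] (κ ⊗[A] B) ≃+* B ⊗[A] K`, `tensorIso₂ : (B ⊗[A] K) ⊗[B] C ≃+* C ⊗[A] K`.
-/

namespace Groth.Agent.H29.FFDescent

open TensorProduct IsLocalRing CategoryTheory

universe u

set_option linter.style.haveILetI false

/-- Integrally closed domains descend along faithfully flat maps (helper1). -/
theorem isIntegrallyClosed_descent (A B : Type u) [CommRing A] [CommRing B] [Algebra A B]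
    [Module.FaithfullyFlat A B] [IsDomain B] [IsIntegrallyClosed B] :
    ∃ _ : IsDomain A, IsIntegrallyClosed A := by
  have hinj : Function.Injective (algebraMap A B) := FaithfulSMul.algebraMap_injective A B
  haveI : IsDomain A := hinj.isDomain _
  refine ⟨inferInstance, ?_⟩
  have hinjL : Function.Injective (algebraMap A (FractionRing B)) := by
    rw [IsScalarTower.algebraMap_eq A B (FractionRing B)]
    exact (IsFractionRing.injective B (FractionRing B)).comp hinj
  let φ : FractionRing A →ₐ[A] FractionRing B :=
    IsFractionRing.liftAlgHom (g := Algebra.ofId A (FractionRing B)) hinjL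
  rw [isIntegrallyClosed_iff (FractionRing A)]
  intro x hx
  obtain ⟨β, hβ⟩ := (isIntegrallyClosed_iff (FractionRing B)).mp ‹IsIntegrallyClosed B›
    ((hx.map φ).tower_top (A := B))
  obtain ⟨a, b, hb, rfl⟩ := IsFractionRing.div_surjective A x
  have hb0 : b ≠ 0 := nonZeroDivisors.ne_zero hb
  have hbL : algebraMap A (FractionRing B) b ≠ 0 :=
    fun h => hb0 (hinjL (by rw [h, map_zero]))
  have hbK : algebraMap A (FractionRing A) b ≠ 0 :=
    fun h => hb0 (IsFractionRing.injective A (FractionRing A) (by rw [h, map_zero]))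
  rw [map_div₀, AlgHom.commutes, AlgHom.commutes, eq_div_iff hbL] at hβ
  have hB : β * algebraMap A B b = algebraMap A B a := by
    apply IsFractionRing.injective B (FractionRing B)
    rw [map_mul, ← IsScalarTower.algebraMap_apply, ← IsScalarTower.algebraMap_apply]
    exact hβ
  have hmem : a ∈ Ideal.span {b} := by
    rw [← Ideal.comap_map_eq_self_of_faithfullyFlat (B := B) (Ideal.span {b}), Ideal.mem_comap,
      Ideal.map_span, Set.image_singleton, Ideal.mem_span_singleton']
    exact ⟨β, hB⟩
  obtain ⟨c, hc⟩ := Ideal.mem_span_singleton'.mp hmem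
  refine ⟨c, ?_⟩
  rw [eq_div_iff hbK, ← map_mul, hc]

theorem exists_ff_local {R R' : Type u} [CommRing R] [CommRing R'] [Algebra R R']
    [Module.FaithfullyFlat R R'] (q : Ideal R) [q.IsPrime] :
    ∃ (Q : Ideal R') (_ : Q.IsPrime)
      (_ : Algebra (Localization.AtPrime q) (Localization.AtPrime Q)),
      Module.FaithfullyFlat (Localization.AtPrime q) (Localization.AtPrime Q) := by
  obtain ⟨Q, hQ, hQq⟩ := Ideal.exists_isPrime_liesOver_of_faithfullyFlat (B := R') q
  have hQq' : q = Q.comap (algebraMap R R') := hQq.over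
  let g := Localization.localRingHom q Q (algebraMap R R') hQq'
  letI alg : Algebra (Localization.AtPrime q) (Localization.AtPrime Q) := g.toAlgebra
  haveI : IsLocalHom (algebraMap (Localization.AtPrime q) (Localization.AtPrime Q)) :=
    Localization.isLocalHom_localRingHom _ _ _ hQq'
  haveI : Module.Flat (Localization.AtPrime q) (Localization.AtPrime Q) :=
    RingHom.Flat.localRingHom (f := algebraMap R R')
      (RingHom.flat_algebraMap_iff.mpr inferInstance) Q q hQq'
  exact ⟨Q, hQ, alg, Module.FaithfullyFlat.of_flat_of_isLocalHom⟩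

theorem isNormalRing_descent (R R' : Type u) [CommRing R] [CommRing R'] [Algebra R R']
    [Module.FaithfullyFlat R R'] (h : EGA4.IsNormalRing R') : EGA4.IsNormalRing R := by
  intro q hq
  obtain ⟨Q, hQ, alg, hff⟩ := exists_ff_local (R' := R') q
  obtain ⟨h1, h2⟩ := h Q
  obtain ⟨hd, hic⟩ := isIntegrallyClosed_descent (Localization.AtPrime q) (Localization.AtPrime Q)
  exact ⟨hd, hic⟩

theorem isRegularLocalRing_descent (A B : Type u) [CommRing A] [CommRing B] [IsLocalRing A]
    [IsNoetherianRing A] [IsRegularLocalRing B] [Algebra A B] [Module.FaithfullyFlat A B] :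
    IsRegularLocalRing A := by
  obtain ⟨d, hd⟩ := Groth.Agent.H29.ringKrullDim_eq_natCast_of_isLocalRing B
  have h1 : HasProjectiveDimensionLT (ModuleCat.of B (B ⊗[A] ResidueField A)) (d + 1) :=
    Groth.Agent.H29.hasProjectiveDimensionLT_of_isRegularLocalRing B d hd _
  have h2 := Groth.Agent.H29.hasProjectiveDimensionLT_of_baseChange_of_faithfullyFlat A B d
    (ResidueField A) h1
  exact Groth.Agent.H29.isRegularLocalRing_of_hasProjectiveDimensionLT_residueField A (d + 1) h2

theorem isNoetherianRing_descent (R R' : Type u) [CommRing R] [CommRing R'] [Algebra R R']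
    [Module.FaithfullyFlat R R'] [IsNoetherianRing R'] : IsNoetherianRing R := by
  have h : IsNoetherian R' (R' ⊗[R] R) :=
    isNoetherian_of_linearEquiv (TensorProduct.AlgebraTensorModule.rid R R' R').symm
  exact Submodule.IsNoetherian.of_isNoetherian_tensorProduct_of_faithfullyFlat h

theorem isRegularRing_descent (R R' : Type u) [CommRing R] [CommRing R'] [Algebra R R']
    [Module.FaithfullyFlat R R'] [IsRegularRing R'] : IsRegularRing R := by
  haveI : IsNoetherianRing R := isNoetherianRing_descent R R'
  rw [isRegularRing_iff]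
  intro q hq
  obtain ⟨Q, hQ, alg, hff⟩ := exists_ff_local (R' := R') q
  exact isRegularLocalRing_descent (Localization.AtPrime q) (Localization.AtPrime Q)

/-- Regularity descends pointwise along flat ring maps: if `R'_Q` is regular then so is
`R_{Q ∩ R}`. -/
theorem isRegularLocalRing_comap_of_flat {R R' : Type u} [CommRing R] [CommRing R'] [Algebra R R']
    [IsNoetherianRing R] [Module.Flat R R'] (Q : Ideal R') [Q.IsPrime]
    (h : IsRegularLocalRing (Localization.AtPrime Q)) :
    IsRegularLocalRing (Localization.AtPrime (Q.comap (algebraMap R R'))) := by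
  let g := Localization.localRingHom (Q.comap (algebraMap R R')) Q (algebraMap R R') rfl
  letI alg : Algebra (Localization.AtPrime (Q.comap (algebraMap R R'))) (Localization.AtPrime Q) :=
    g.toAlgebra
  haveI : IsLocalHom (algebraMap (Localization.AtPrime (Q.comap (algebraMap R R')))
      (Localization.AtPrime Q)) :=
    Localization.isLocalHom_localRingHom _ _ _ rfl
  haveI : Module.Flat (Localization.AtPrime (Q.comap (algebraMap R R'))) (Localization.AtPrime Q) :=
    RingHom.Flat.localRingHom (f := algebraMap R R')
      (RingHom.flat_algebraMap_iff.mpr inferInstance) Q _ rfl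
  have hff : Module.FaithfullyFlat (Localization.AtPrime (Q.comap (algebraMap R R')))
      (Localization.AtPrime Q) := Module.FaithfullyFlat.of_flat_of_isLocalHom
  exact isRegularLocalRing_descent _ (Localization.AtPrime Q)

section Iso

variable (A B C K : Type u) [CommRing A] [CommRing B] [CommRing C] [CommRing K]
  [Algebra A B] [Algebra B C] [Algebra A C] [IsScalarTower A B C] [Algebra A K]

/-- `(B ⊗[A] K) ⊗[B] C ≃+* C ⊗[A] K`. -/
noncomputable def tensorIso₂ : (B ⊗[A] K) ⊗[B] C ≃+* C ⊗[A] K :=
  ((Algebra.TensorProduct.comm B (B ⊗[A] K) C).toRingEquiv).trans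
    (Algebra.TensorProduct.cancelBaseChange A B C C K).toRingEquiv

/-- `K ⊗[κ] (κ ⊗[A] B) ≃+* B ⊗[A] K` for a `κ`-algebra `K` (with `A → κ → K` a tower). -/
noncomputable def tensorIso₁ (κ : Type u) [CommRing κ] [Algebra A κ] [Algebra κ K]
    [IsScalarTower A κ K] : K ⊗[κ] (κ ⊗[A] B) ≃+* B ⊗[A] K :=
  ((Algebra.TensorProduct.cancelBaseChange A κ K K B).toRingEquiv).trans
    (Algebra.TensorProduct.comm A K B).toRingEquiv

end Iso

end Groth.Agent.H29.FFDescent
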