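import Groth.Agent.H29.TopDim
import Mathlib.AlgebraicGeometry.Fiber

set_option autoImplicit false
universe u
open TopologicalSpace Topology AlgebraicGeometry CategoryTheory

namespace Groth.Agent.H29.FibreLocal

/-- `localDim` is invariant under open embeddings. -/
theorem localDim_of_isOpenEmbedding {A B : Type u} [TopologicalSpace A] [TopologicalSpace B]
    (ι : A → B) (hι : IsOpenEmbedding ι) (a : A) :
    FlatMor.localDim A a = FlatMor.localDim B (ι a) := by
  apply le_antisymm
  · refine le_iInf fun V => ?_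
    let U : Opens A := ⟨ι ⁻¹' (V.1 : Set B), V.1.isOpen.preimage hι.continuous⟩
    refine iInf_le_of_le ⟨U, V.2⟩ ?_
    exact Groth.Agent.H29.topologicalKrullDim_le_of_val_comp (X := B) (A := (U : Set A))
      (B := (V.1 : Set B)) (fun y => ι y.1) Subtype.val
      (hι.isInducing.comp IsInducing.subtypeVal) IsInducing.subtypeVal
      (fun y => ⟨ι y.1, y.2⟩) rfl
  · refine le_iInf fun U => ?_
    let V : Opens B := ⟨ι '' (U.1 : Set A), hι.isOpenMap _ U.1.isOpen⟩
    refine iInf_le_of_le ⟨V, ⟨a, U.2, rfl⟩⟩ ?_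
    -- `V ≃ₜ U`
    have hinj : Function.Injective ι := hι.injective
    let g : ↥(V : Set B) → ↥(U.1 : Set A) := fun y =>
      ⟨Classical.choose y.2, (Classical.choose_spec y.2).1⟩
    have hg : ∀ y : ↥(V : Set B), ι (g y).1 = y.1 := fun y => (Classical.choose_spec y.2).2
    exact Groth.Agent.H29.topologicalKrullDim_le_of_val_comp (X := B) (A := (V : Set B))
      (B := (U.1 : Set A)) Subtype.val (fun y => ι y.1)
      IsInducing.subtypeVal (hι.isInducing.comp IsInducing.subtypeVal)
      g (funext fun y => hg y)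

/-- restriction of an open embedding to preimages of a subset -/
theorem localDim_preimage_of_isOpenEmbedding {A B : Type u} [TopologicalSpace A]
    [TopologicalSpace B] (ι : A → B) (hι : IsOpenEmbedding ι) (F : Set B) (a : A) (ha : ι a ∈ F) :
    FlatMor.localDim (ι ⁻¹' F) ⟨a, ha⟩ = FlatMor.localDim F ⟨ι a, ha⟩ := by
  let r : ↥(ι ⁻¹' F) → ↥F := fun y => ⟨ι y.1, y.2⟩
  have hr : IsOpenEmbedding r := by
    have := hι.restrictPreimage F
    exact this
  exact localDim_of_isOpenEmbedding r hr ⟨a, ha⟩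

/-- `fibreDimAt` as the local dimension of the set-theoretic fibre. -/
theorem fibreDimAt_eq_localDim_preimage {X Y : Scheme.{u}} (f : X ⟶ Y) (x : X) :
    FlatMor.fibreDimAt f x = FlatMor.localDim (f ⁻¹' {f x}) ⟨x, rfl⟩ := by
  unfold FlatMor.fibreDimAt
  have h := localDim_of_isOpenEmbedding (f.fiberHomeo (f x)) (f.fiberHomeo (f x)).isOpenEmbedding
    (f.asFiber x)
  rw [h]
  congr 1
  simp [Scheme.Hom.asFiber]

/-- `fibreDimAt` is local on the source. -/
theorem fibreDimAt_comp_openImmersion {U X Y : Scheme.{u}} (j : U ⟶ X) [IsOpenImmersion j]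
    (f : X ⟶ Y) (u : U) :
    FlatMor.fibreDimAt (j ≫ f) u = FlatMor.fibreDimAt f (j u) := by
  rw [fibreDimAt_eq_localDim_preimage, fibreDimAt_eq_localDim_preimage]
  exact localDim_preimage_of_isOpenEmbedding j j.isOpenEmbedding (f ⁻¹' {f (j u)}) u rfl

end Groth.Agent.H29.FibreLocal
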