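import Groth.Agent.S18423

set_option autoImplicit false
universe u
open IsLocalRing

namespace Groth.Agent.H29.FinFlatEtale

variable (A B : Type u) [CommRing A] [CommRing B] [Algebra A B]

/-- T1 -/
theorem isEtaleAt_loc_of_isEtaleAt (p : Ideal A) [p.IsPrime]
    (Q : Ideal (Localization (Algebra.algebraMapSubmonoid B p.primeCompl))) [Q.IsPrime]
    (h : Algebra.IsEtaleAt A (Q.comap
      (algebraMap B (Localization (Algebra.algebraMapSubmonoid B p.primeCompl))))) :
    Algebra.IsEtaleAt (Localization.AtPrime p) Q := by
  let e : Localization.AtPrime (Q.comap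
      (algebraMap B (Localization (Algebra.algebraMapSubmonoid B p.primeCompl)))) ≃ₐ[B]
      Localization.AtPrime Q :=
    IsLocalization.localizationLocalizationAtPrimeIsoLocalization
      (Algebra.algebraMapSubmonoid B p.primeCompl) Q
  have : Algebra.FormallyEtale A (Localization.AtPrime Q) :=
    Algebra.FormallyEtale.of_equiv (e.restrictScalars A)
  exact Algebra.FormallyEtale.localization_base p.primeCompl

/-- T2 -/
theorem isEtaleAt_of_etale_loc (p : Ideal A) [p.IsPrime]
    [Algebra.FormallyEtale (Localization.AtPrime p)
      (Localization (Algebra.algebraMapSubmonoid B p.primeCompl))]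
    (Q : Ideal (Localization (Algebra.algebraMapSubmonoid B p.primeCompl))) [Q.IsPrime] :
    Algebra.IsEtaleAt A (Q.comap
      (algebraMap B (Localization (Algebra.algebraMapSubmonoid B p.primeCompl)))) := by
  let e : Localization.AtPrime (Q.comap
      (algebraMap B (Localization (Algebra.algebraMapSubmonoid B p.primeCompl)))) ≃ₐ[B]
      Localization.AtPrime Q :=
    IsLocalization.localizationLocalizationAtPrimeIsoLocalization
      (Algebra.algebraMapSubmonoid B p.primeCompl) Q
  have : Algebra.FormallyEtale A (Localization.AtPrime p) :=
    Algebra.FormallyEtale.of_isLocalization p.primeCompl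
  have : Algebra.FormallyEtale A (Localization (Algebra.algebraMapSubmonoid B p.primeCompl)) :=
    Algebra.FormallyEtale.comp A (Localization.AtPrime p) _
  have : Algebra.FormallyEtale (Localization (Algebra.algebraMapSubmonoid B p.primeCompl))
      (Localization.AtPrime Q) := Algebra.FormallyEtale.of_isLocalization Q.primeCompl
  have : Algebra.FormallyEtale A (Localization.AtPrime Q) :=
    Algebra.FormallyEtale.comp A (Localization (Algebra.algebraMapSubmonoid B p.primeCompl)) _
  exact Algebra.FormallyEtale.of_equiv (e.symm.restrictScalars A)


/-- Ring-level theorem. -/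
theorem etale_of_finite_flat [IsNoetherianRing A] [Module.Finite A B] [Module.Flat A B]
    (W : Set (PrimeSpectrum A))
    (hW : ∀ p : PrimeSpectrum A, p ∉ W →
      (2 : WithBot ℕ∞) ≤ ringKrullDim (Localization.AtPrime p.asIdeal))
    (het : ∀ q : PrimeSpectrum B, q.comap (algebraMap A B) ∈ W → Algebra.IsEtaleAt A q.asIdeal) :
    Algebra.Etale A B := by
  have key : ∀ p : PrimeSpectrum A, ∀ q : PrimeSpectrum B, q.comap (algebraMap A B) = p →
      Algebra.IsEtaleAt A q.asIdeal := by
    intro p
    induction p using (InvImage.wf (fun p : PrimeSpectrum A => p.asIdeal.height)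
      wellFounded_lt).induction with
    | _ p ih =>
    intro q hq
    by_cases hpW : p ∈ W
    · exact het q (hq ▸ hpW)
    have hdim := hW p hpW
    -- apply S18423 to A_p → B_p
    have : Module.Finite (Localization.AtPrime p.asIdeal)
        (Localization (Algebra.algebraMapSubmonoid B p.asIdeal.primeCompl)) :=
      Module.Finite.of_isLocalization A B p.asIdeal.primeCompl
    have : Module.Flat (Localization.AtPrime p.asIdeal)
        (Localization (Algebra.algebraMapSubmonoid B p.asIdeal.primeCompl)) :=
      (Module.flat_iff_of_isLocalization (Localization.AtPrime p.asIdeal)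
        p.asIdeal.primeCompl _).mpr inferInstance
    have hEt : Algebra.Etale (Localization.AtPrime p.asIdeal)
        (Localization (Algebra.algebraMapSubmonoid B p.asIdeal.primeCompl)) := by
      apply Groth.Agent.S18423.result _ _ hdim
      intro Q hQ
      apply isEtaleAt_loc_of_isEtaleAt
      let q' : PrimeSpectrum B := Q.comap
        (algebraMap B (Localization (Algebra.algebraMapSubmonoid B p.asIdeal.primeCompl)))
      refine ih (q'.comap (algebraMap A B)) ?_ q' rfl
      have hle : (q'.comap (algebraMap A B)).asIdeal ≤ p.asIdeal := by
        intro a ha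
        by_contra hap
        have hmem : algebraMap A B a ∈ Algebra.algebraMapSubmonoid B p.asIdeal.primeCompl :=
          ⟨a, hap, rfl⟩
        have hunit : IsUnit (algebraMap B
            (Localization (Algebra.algebraMapSubmonoid B p.asIdeal.primeCompl))
            (algebraMap A B a)) :=
          IsLocalization.map_units _
            (⟨_, hmem⟩ : Algebra.algebraMapSubmonoid B p.asIdeal.primeCompl)
        have hin : algebraMap B
            (Localization (Algebra.algebraMapSubmonoid B p.asIdeal.primeCompl))
            (algebraMap A B a) ∈ Q.asIdeal := ha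
        exact Q.2.ne_top (Ideal.eq_top_of_isUnit_mem _ hin hunit)
      have hne : (q'.comap (algebraMap A B)).asIdeal ≠ p.asIdeal := by
        intro heq
        apply hQ
        rw [← Localization.AtPrime.eq_maximalIdeal_iff_under_eq]
        refine Eq.trans ?_ heq
        ext a
        simp only [Ideal.under, Ideal.mem_comap, PrimeSpectrum.comap_asIdeal, q']
        rw [← IsScalarTower.algebraMap_apply, ← IsScalarTower.algebraMap_apply]
      exact Ideal.height_strict_mono_of_isPrime_of_isPrime (lt_of_le_of_ne hle hne)
    have : Algebra.FormallyEtale (Localization.AtPrime p.asIdeal)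
        (Localization (Algebra.algebraMapSubmonoid B p.asIdeal.primeCompl)) := hEt.1
    have hdisj : Disjoint
        (Algebra.algebraMapSubmonoid B p.asIdeal.primeCompl : Set B) (q.asIdeal : Set B) := by
      rw [Set.disjoint_left]
      rintro _ ⟨a, ha, rfl⟩ hq'
      apply ha
      rw [← hq]
      exact hq'
    have hQp := IsLocalization.isPrime_of_isPrime_disjoint
      (Algebra.algebraMapSubmonoid B p.asIdeal.primeCompl)
      (Localization (Algebra.algebraMapSubmonoid B p.asIdeal.primeCompl)) q.asIdeal q.2 hdisj
    have hQc := IsLocalization.under_map_of_isPrime_disjoint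
      (Algebra.algebraMapSubmonoid B p.asIdeal.primeCompl)
      (Localization (Algebra.algebraMapSubmonoid B p.asIdeal.primeCompl)) q.2 hdisj
    have h2 := isEtaleAt_of_etale_loc A B p.asIdeal (q.asIdeal.map (algebraMap B
      (Localization (Algebra.algebraMapSubmonoid B p.asIdeal.primeCompl))))
    have hgen : ∀ (I J : Ideal B) [I.IsPrime] [J.IsPrime], I = J →
        Algebra.IsEtaleAt A I → Algebra.IsEtaleAt A J := by
      intro I J _ _ hIJ hI
      subst hIJ
      exact hI
    exact hgen _ _ hQc h2
  have : Algebra.FinitePresentation A B := by
    have : Algebra.FiniteType A B := inferInstance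
    exact Algebra.FinitePresentation.of_finiteType.mp this
  rw [← Algebra.etaleLocus_eq_univ_iff_etale, Set.eq_univ_iff_forall]
  intro q
  exact key _ q rfl

end Groth.Agent.H29.FinFlatEtale
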