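import Groth.Agent.H29.FlatDescent

set_option autoImplicit false
universe u

namespace Groth.Agent.H29

open AlgebraicGeometry CategoryTheory Limits

/-- Flatness descends along flat surjective morphisms on the source. -/
theorem flat_of_flat_comp_of_flat_surjective {X Y W : Scheme.{u}} (f : X ⟶ Y) (h : Y ⟶ W)
    [Flat f] [Surjective f] [Flat (f ≫ h)] : Flat h := by
  rw [Flat.iff_flat_stalkMap]
  intro y
  obtain ⟨x, rfl⟩ := f.surjective y
  have h1 : ((f ≫ h).stalkMap x).hom.Flat := Flat.stalkMap (f ≫ h) x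
  have h2 : (f.stalkMap x).hom.Flat := Flat.stalkMap f x
  rw [Scheme.Hom.stalkMap_comp] at h1
  let a1 : Algebra (W.presheaf.stalk (h (f x))) (Y.presheaf.stalk (f x)) :=
    (h.stalkMap (f x)).hom.toAlgebra
  let a2 : Algebra (Y.presheaf.stalk (f x)) (X.presheaf.stalk x) := (f.stalkMap x).hom.toAlgebra
  let a3 : Algebra (W.presheaf.stalk (h (f x))) (X.presheaf.stalk x) :=
    (h.stalkMap (f x) ≫ f.stalkMap x).hom.toAlgebra
  have : IsScalarTower (W.presheaf.stalk (h (f x))) (Y.presheaf.stalk (f x)) (X.presheaf.stalk x) :=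
    IsScalarTower.of_algebraMap_eq' rfl
  have : IsLocalHom (algebraMap (Y.presheaf.stalk (f x)) (X.presheaf.stalk x)) :=
    inferInstanceAs (IsLocalHom (f.stalkMap x).hom)
  have : Module.Flat (Y.presheaf.stalk (f x)) (X.presheaf.stalk x) := h2
  have : Module.Flat (W.presheaf.stalk (h (f x))) (X.presheaf.stalk x) := h1
  have : Module.FaithfullyFlat (Y.presheaf.stalk (f x)) (X.presheaf.stalk x) :=
    Module.FaithfullyFlat.of_flat_of_isLocalHom
  exact flat_of_faithfullyFlat_of_flat_comp _ (Y.presheaf.stalk (f x)) (X.presheaf.stalk x)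

end Groth.Agent.H29
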