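import Mathlib
import Groth.Prelude.Def_CAlg
import Groth.Agent.H29.QuotLocCM
import Groth.Agent.H29.CMLib
import Groth.Agent.H29.RegLocal
import Groth.Agent.Helper1.CMCatenary
import Groth.Agent.Lib.Helper7.SatChain
import Groth.Agent.S2680

/-!
# Global complete intersections over a field (helper29)

* `mvPolynomial_height_add_dim` : `ht P + dim k[x]/P = n` for primes of `k[x_1..x_n]`.
-/

set_option autoImplicit false
set_option linter.style.haveILetI false
set_option linter.unusedSectionVars false
universe u

namespace Groth.Agent.H29.GCI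

open IsLocalRing

section Poly

variable (k : Type u) [Field k] (n : ℕ)

/-- The dimension formula in a polynomial ring over a field. -/
theorem mvPolynomial_height_add_dim (P : Ideal (MvPolynomial (Fin n) k)) [hP : P.IsPrime] :
    ((P.height : ℕ∞) : WithBot ℕ∞) + ringKrullDim (MvPolynomial (Fin n) k ⧸ P) = n := by
  haveI : IsDomain (MvPolynomial (Fin n) k ⧸ P) := Ideal.Quotient.isDomain P
  obtain ⟨q, hq⟩ := Ideal.exists_maximal (MvPolynomial (Fin n) k ⧸ P)
  haveI := hq
  set M : Ideal (MvPolynomial (Fin n) k) := q.comap (Ideal.Quotient.mk P) with hM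
  haveI hMmax : M.IsMaximal :=
    Ideal.comap_isMaximal_of_surjective _ Ideal.Quotient.mk_surjective
  haveI : M.IsPrime := hMmax.isPrime
  have hPM : P ≤ M := by
    intro x hx
    rw [hM, Ideal.mem_comap, Ideal.Quotient.eq_zero_iff_mem.mpr hx]
    exact q.zero_mem
  let L := Localization.AtPrime M
  haveI : IsRegularLocalRing L := IsRegularRing.isRegularLocalRing_localization M
  haveI : LocCoh.IsCohenMacaulayLocalRing L :=
    { supportDim_eq_depth := Groth.Agent.H29.isCohenMacaulayModule_self_of_isRegularLocalRing L }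
  have hdisj : Disjoint (M.primeCompl : Set (MvPolynomial (Fin n) k)) (P : Set _) := by
    rw [Set.disjoint_left]
    intro x hx hxP
    exact hx (hPM hxP)
  set 𝔭 : Ideal L := P.map (algebraMap (MvPolynomial (Fin n) k) L) with h𝔭
  haveI : 𝔭.IsPrime := IsLocalization.isPrime_of_isPrime_disjoint M.primeCompl L P hP hdisj
  have hform := Groth.Agent.Helper1.CMCatenary.dim_formula L 𝔭
  have h1 : ringKrullDim L = M.height := IsLocalization.AtPrime.ringKrullDim_eq_height M L
  have h2 : M.height = n := Groth.Agent.Helper7.SatChain.maxht k n M hMmax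
  have h3 : 𝔭.height = P.height :=
    IsLocalization.height_map_of_disjoint M.primeCompl P hdisj
  have hsub : Algebra.algebraMapSubmonoid (MvPolynomial (Fin n) k ⧸ P) M.primeCompl =
      q.primeCompl := by
    ext x
    constructor
    · rintro ⟨y, hy, rfl⟩
      exact hy
    · intro hx
      obtain ⟨y, rfl⟩ := Ideal.Quotient.mk_surjective x
      exact ⟨y, hx, rfl⟩
  haveI : IsLocalization.AtPrime (L ⧸ 𝔭) q := by
    have h := (inferInstance : IsLocalization (Algebra.algebraMapSubmonoid
      (MvPolynomial (Fin n) k ⧸ P) M.primeCompl)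
      (L ⧸ P.map (algebraMap (MvPolynomial (Fin n) k) L)))
    rwa [hsub] at h
  have h4 : ringKrullDim (L ⧸ 𝔭) = q.height :=
    IsLocalization.AtPrime.ringKrullDim_eq_height q (L ⧸ 𝔭)
  have h5 : (q.height : WithBot ℕ∞) = ringKrullDim (MvPolynomial (Fin n) k ⧸ P) :=
    Groth.Agent.S2680.height_eq_of_isMaximal k (MvPolynomial (Fin n) k ⧸ P) q
  rw [h1, h2, h4, h3, h5] at hform
  rw [add_comm]
  exact hform.symm

/-- In a global complete intersection `k[x]/(r_1..r_c)` of dimension `n - c`, every prime has
height exactly `c` less than its preimage in `k[x]`. -/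
theorem gci_height {c : ℕ} (hcn : c ≤ n) (r : Fin c → MvPolynomial (Fin n) k)
    (hdim : ringKrullDim (MvPolynomial (Fin n) k ⧸ Ideal.span (Set.range r)) =
      ((n - c : ℕ) : WithBot ℕ∞))
    (q : Ideal (MvPolynomial (Fin n) k ⧸ Ideal.span (Set.range r))) [hq : q.IsPrime] :
    (c : ℕ∞) + q.height = (q.comap (Ideal.Quotient.mk (Ideal.span (Set.range r)))).height := by
  set P : Ideal (MvPolynomial (Fin n) k) :=
    q.comap (Ideal.Quotient.mk (Ideal.span (Set.range r))) with hPdef
  haveI hP : P.IsPrime := Ideal.comap_isPrime _ q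
  have hmap : P.map (Ideal.Quotient.mk (Ideal.span (Set.range r))) = q :=
    Ideal.map_comap_of_surjective _ Ideal.Quotient.mk_surjective q
  have hIP : Ideal.span (Set.range r) ≤ P := by
    intro x hx
    rw [hPdef, Ideal.mem_comap, Ideal.Quotient.eq_zero_iff_mem.mpr hx]
    exact q.zero_mem
  have hsub : Set.range r ⊆ (P : Set (MvPolynomial (Fin n) k)) :=
    fun x hx => hIP (Ideal.subset_span hx)
  -- lower bound
  have hge : P.height ≤ q.height + c := by
    have h := Ideal.height_le_height_add_encard_of_subset (Set.range r) (p := P) hsub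
    rw [hmap] at h
    refine h.trans (add_le_add le_rfl ?_)
    have h1 : (Set.range r).encard ≤ (Set.univ : Set (Fin c)).encard := by
      rw [← Set.image_univ]
      exact Set.encard_image_le r Set.univ
    rw [Set.encard_univ, ENat.card_eq_coe_fintype_card, Fintype.card_fin] at h1
    exact h1
  -- upper bound
  have h6 := Groth.Agent.H29.height_add_ringKrullDim_quotient_le
    (MvPolynomial (Fin n) k ⧸ Ideal.span (Set.range r)) q
  let e : (MvPolynomial (Fin n) k ⧸ Ideal.span (Set.range r)) ⧸ q ≃+*
      MvPolynomial (Fin n) k ⧸ P :=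
    (Ideal.quotEquivOfEq hmap.symm).trans
      ((DoubleQuot.quotQuotEquivQuotSup (Ideal.span (Set.range r)) P).trans
        (Ideal.quotEquivOfEq (sup_eq_right.mpr hIP)))
  have h7 : ringKrullDim ((MvPolynomial (Fin n) k ⧸ Ideal.span (Set.range r)) ⧸ q) =
      ringKrullDim (MvPolynomial (Fin n) k ⧸ P) := ringKrullDim_eq_of_ringEquiv e
  have h8 := mvPolynomial_height_add_dim k n P
  rw [h7, hdim] at h6
  have hbfin : P.height ≠ ⊤ := Ideal.height_ne_top_of_isPrime
  have hafin : q.height ≠ ⊤ := Ideal.height_ne_top_of_isPrime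
  obtain ⟨b, hb⟩ := ENat.ne_top_iff_exists.mp hbfin
  obtain ⟨a, ha⟩ := ENat.ne_top_iff_exists.mp hafin
  have hd1 : ringKrullDim (MvPolynomial (Fin n) k ⧸ P) ≠ ⊥ :=
    Groth.Agent.H29.ringKrullDim_quotient_ne_bot _ P
  have hd2 : ringKrullDim (MvPolynomial (Fin n) k ⧸ P) ≠ ⊤ := by
    intro h
    rw [h, ← hb] at h8
    exact absurd h8 (by
      show ((b : ℕ∞) : WithBot ℕ∞) + ⊤ ≠ (n : WithBot ℕ∞)
      intro h'
      have : ((b : ℕ∞) : WithBot ℕ∞) + ((⊤ : ℕ∞) : WithBot ℕ∞) = (((n : ℕ) : ℕ∞) : WithBot ℕ∞) := h'
      rw [← WithBot.coe_add, WithBot.coe_eq_coe] at this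
      simp at this)
  obtain ⟨d, hd⟩ := Groth.Agent.H29.withBot_exists_natCast hd1 hd2
  rw [hd, ← hb] at h8
  rw [hd, ← ha] at h6
  rw [← hb, ← ha] at hge
  rw [← hb, ← ha]
  have h8' : b + d = n := by exact_mod_cast h8
  have h6' : a + d ≤ n - c := by
    have : (((a + d : ℕ) : ℕ∞) : WithBot ℕ∞) ≤ (((n - c : ℕ) : ℕ∞) : WithBot ℕ∞) := by
      push_cast
      exact h6
    exact_mod_cast this
  have hge' : b ≤ a + c := by exact_mod_cast hge
  have : c + a = b := by omega
  exact_mod_cast this

end Poly

section CMQuot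

open RingTheory.Sequence

/-- The local rings of `T/(r_1..r_c)` at primes where the height drops by exactly `c` are
Cohen–Macaulay, when all local rings of `T` are. -/
theorem cm_localization_quotient (T : Type u) [CommRing T] [IsNoetherianRing T]
    (hCM : ∀ (P : Ideal T) [P.IsPrime], LocCoh.IsCohenMacaulayLocalRing (Localization.AtPrime P))
    {c : ℕ} (r : Fin c → T) (q : Ideal (T ⧸ Ideal.span (Set.range r))) [hq : q.IsPrime]
    (hc : (c : ℕ∞) + q.height =
      (q.comap (Ideal.Quotient.mk (Ideal.span (Set.range r)))).height) :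
    LocCoh.IsCohenMacaulayLocalRing (Localization.AtPrime q) := by
  set P : Ideal T := q.comap (Ideal.Quotient.mk (Ideal.span (Set.range r))) with hPdef
  haveI hP : P.IsPrime := Ideal.comap_isPrime _ q
  have hIP : Ideal.span (Set.range r) ≤ P := by
    intro x hx
    rw [hPdef, Ideal.mem_comap, Ideal.Quotient.eq_zero_iff_mem.mpr hx]
    exact q.zero_mem
  let R := Localization.AtPrime P
  haveI hR := hCM P
  have hCMR : LocCoh.IsCohenMacaulayModule R R := hR.supportDim_eq_depth
  set J : Ideal R := (Ideal.span (Set.range r)).map (algebraMap T R) with hJ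
  let f : Fin c → R := fun i => algebraMap T R (r i)
  have hspan : Ideal.span (Set.range f) = J := by
    rw [hJ, Ideal.map_span]
    congr 1
    ext y
    constructor
    · rintro ⟨i, rfl⟩
      exact ⟨r i, ⟨i, rfl⟩, rfl⟩
    · rintro ⟨_, ⟨i, rfl⟩, rfl⟩
      exact ⟨i, rfl⟩
  have hJm : J ≤ maximalIdeal R := by
    rw [← IsLocalization.AtPrime.map_eq_maximalIdeal P R]
    exact Ideal.map_mono hIP
  have hmem : ∀ y ∈ List.ofFn f, y ∈ maximalIdeal R := by
    intro y hy
    rw [List.mem_ofFn] at hy
    apply hJm
    rw [← hspan]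
    exact Ideal.subset_span hy
  have hof : Ideal.ofList (List.ofFn f) = J := by
    rw [Ideal.ofList, ← hspan]
    congr 1
    ext y
    simp [List.mem_ofFn]
  have e1 : Ideal.ofList (List.ofFn f) • (⊤ : Submodule R R) = J := by
    rw [smul_eq_mul, Ideal.mul_top, hof]
  -- the quotient is the localization of `T/I` at `q`
  have hsub : Algebra.algebraMapSubmonoid (T ⧸ Ideal.span (Set.range r)) P.primeCompl =
      q.primeCompl := by
    ext x
    constructor
    · rintro ⟨y, hy, rfl⟩
      exact hy
    · intro hx
      obtain ⟨y, rfl⟩ := Ideal.Quotient.mk_surjective x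
      exact ⟨y, hx, rfl⟩
  haveI hloc : IsLocalization.AtPrime (R ⧸ J) q := by
    have h := (inferInstance : IsLocalization (Algebra.algebraMapSubmonoid
      (T ⧸ Ideal.span (Set.range r)) P.primeCompl)
      (R ⧸ (Ideal.span (Set.range r)).map (algebraMap T R)))
    rwa [hsub] at h
  haveI : IsLocalRing (R ⧸ J) := IsLocalization.AtPrime.isLocalRing _ q
  have h3 : ringKrullDim R = P.height := IsLocalization.AtPrime.ringKrullDim_eq_height P R
  have h4 : ringKrullDim (R ⧸ J) = q.height :=
    IsLocalization.AtPrime.ringKrullDim_eq_height q (R ⧸ J)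
  have hdim : ringKrullDim (R ⧸ J) + (c : WithBot ℕ∞) = ringKrullDim R := by
    rw [h3, h4, ← hc, add_comm]
    push_cast
    rfl
  have hreg : IsWeaklyRegular R (List.ofFn f) := by
    apply Groth.Agent.H29.isWeaklyRegular_of_supportDim_quotient_add_length R _ R hCMR hmem
    rw [e1, List.length_ofFn, Module.supportDim_self_eq_ringKrullDim,
      Module.supportDim_quotient_eq_ringKrullDim]
    exact hdim
  have hq1 := Groth.Agent.H29.isCohenMacaulayModule_quotient_of_isWeaklyRegular R
    (List.ofFn f) R hCMR hmem hreg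
  rw [e1] at hq1
  have hq2 : Module.supportDim R (R ⧸ J) = ((LocCoh.depth R (R ⧸ J) : ℕ∞) : WithBot ℕ∞) := hq1
  haveI : IsLocalHom (algebraMap R (R ⧸ J)) :=
    IsLocalHom.of_surjective _ Ideal.Quotient.mk_surjective
  have hdep := Groth.Agent.H29.depth_eq_depth_of_isLocalHom R (R ⧸ J) (R ⧸ J)
  rw [Module.supportDim_quotient_eq_ringKrullDim, hdep] at hq2
  let e : Localization.AtPrime q ≃+* (R ⧸ J) :=
    (IsLocalization.algEquiv q.primeCompl (Localization.AtPrime q) (R ⧸ J)).toRingEquiv
  exact { supportDim_eq_depth := by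
            rw [Module.supportDim_self_eq_ringKrullDim, ringKrullDim_eq_of_ringEquiv e,
              Groth.Agent.H29.depth_self_eq_of_ringEquiv e]
            exact hq2 }

end CMQuot

section Transfer

theorem cmLocal_of_ringEquiv {A B : Type u} [CommRing A] [CommRing B] (e : A ≃+* B)
    (hA : LocCoh.IsCohenMacaulayLocalRing A) : LocCoh.IsCohenMacaulayLocalRing B := by
  haveI : IsNoetherianRing B := isNoetherianRing_of_ringEquiv A e
  haveI : IsLocalRing B := e.isLocalRing
  exact { supportDim_eq_depth := by
            rw [Module.supportDim_self_eq_ringKrullDim, ← ringKrullDim_eq_of_ringEquiv e,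
              ← Groth.Agent.H29.depth_self_eq_of_ringEquiv e,
              ← Module.supportDim_self_eq_ringKrullDim]
            exact hA.supportDim_eq_depth }

theorem cmRing_of_ringEquiv {A B : Type u} [CommRing A] [CommRing B] (e : A ≃+* B)
    (hA : LocCoh.IsCohenMacaulayRing A) : LocCoh.IsCohenMacaulayRing B := by
  haveI : IsNoetherianRing B := isNoetherianRing_of_ringEquiv A e
  refine { isCohenMacaulayLocalRing_localization := ?_ }
  intro p hp
  set q : Ideal A := p.comap (e : A →+* B) with hq
  haveI : q.IsPrime := Ideal.comap_isPrime _ p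
  have H : q.primeCompl.map e.toMonoidHom = p.primeCompl := by
    ext x
    constructor
    · rintro ⟨y, hy, rfl⟩
      exact hy
    · intro hx
      refine ⟨e.symm x, ?_, e.apply_symm_apply x⟩
      show e.symm x ∉ q
      rw [hq, Ideal.mem_comap]
      intro h
      apply hx
      have : (e : A →+* B) (e.symm x) = x := e.apply_symm_apply x
      rwa [this] at h
  let e' : Localization.AtPrime q ≃+* Localization.AtPrime p :=
    IsLocalization.ringEquivOfRingEquiv (Localization.AtPrime q) (Localization.AtPrime p) e H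
  exact cmLocal_of_ringEquiv e' (hA.isCohenMacaulayLocalRing_localization q)

/-- If `S_g` is a Cohen–Macaulay ring, then `S_p` is Cohen–Macaulay for `g ∉ p`. -/
theorem cmLocal_of_away {S : Type u} [CommRing S] (g : S)
    (hg : LocCoh.IsCohenMacaulayRing (Localization.Away g)) (p : Ideal S) [hp : p.IsPrime]
    (hgp : g ∉ p) : LocCoh.IsCohenMacaulayLocalRing (Localization.AtPrime p) := by
  have hdisj : Disjoint (Submonoid.powers g : Set S) (p : Set S) := by
    rw [Set.disjoint_left]
    rintro _ ⟨m, rfl⟩ hm
    exact hgp (hp.mem_of_pow_mem m hm)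
  set p' : Ideal (Localization.Away g) := p.map (algebraMap S (Localization.Away g)) with hp'
  haveI : p'.IsPrime :=
    IsLocalization.isPrime_of_isPrime_disjoint (Submonoid.powers g) _ p hp hdisj
  have hcomap : p'.comap (algebraMap S (Localization.Away g)) = p :=
    IsLocalization.comap_map_of_isPrime_disjoint (Submonoid.powers g) _ hp hdisj
  have hM : (p'.comap (algebraMap S (Localization.Away g))).primeCompl = p.primeCompl := by
    ext x
    show x ∉ p'.comap (algebraMap S (Localization.Away g)) ↔ x ∉ p
    rw [hcomap]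
  have inst : IsLocalization (p'.comap (algebraMap S (Localization.Away g))).primeCompl
      (Localization.AtPrime p') :=
    IsLocalization.isLocalization_isLocalization_atPrime_isLocalization
      (Submonoid.powers g) (Localization.AtPrime p') p'
  rw [hM] at inst
  let e : Localization.AtPrime p' ≃+* Localization.AtPrime p :=
    (IsLocalization.algEquiv p.primeCompl (Localization.AtPrime p')
      (Localization.AtPrime p)).toRingEquiv
  exact cmLocal_of_ringEquiv e (hg.isCohenMacaulayLocalRing_localization p')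

end Transfer

section GCICM

variable (k : Type u) [Field k] (n : ℕ)

theorem mvPolynomial_cmLocal (P : Ideal (MvPolynomial (Fin n) k)) [P.IsPrime] :
    LocCoh.IsCohenMacaulayLocalRing (Localization.AtPrime P) := by
  haveI : IsRegularLocalRing (Localization.AtPrime P) :=
    IsRegularRing.isRegularLocalRing_localization P
  exact { supportDim_eq_depth :=
    Groth.Agent.H29.isCohenMacaulayModule_self_of_isRegularLocalRing (Localization.AtPrime P) }

/-- A global complete intersection `k[x]/(r_1..r_c)` of dimension `n - c` is Cohen–Macaulay. -/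
theorem gci_cmRing {c : ℕ} (hcn : c ≤ n) (r : Fin c → MvPolynomial (Fin n) k)
    (hdim : ringKrullDim (MvPolynomial (Fin n) k ⧸ Ideal.span (Set.range r)) =
      ((n - c : ℕ) : WithBot ℕ∞)) :
    LocCoh.IsCohenMacaulayRing (MvPolynomial (Fin n) k ⧸ Ideal.span (Set.range r)) := by
  refine { isCohenMacaulayLocalRing_localization := ?_ }
  intro q hq
  exact cm_localization_quotient (MvPolynomial (Fin n) k)
    (fun P _ => mvPolynomial_cmLocal k n P) r q (gci_height k n hcn r hdim q)

end GCICM

end Groth.Agent.H29.GCI
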