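import Mathlib
import Groth.Prelude.Def_RegImm
import Groth.Agent.H29.GCILib
import Groth.Agent.Lib.Helper7.GlobCI

/-!
# Localizations of global complete intersections over a field (helper29)
-/

set_option autoImplicit false
set_option linter.style.haveILetI false
set_option linter.unusedSectionVars false
universe u

namespace Groth.Agent.H29.GCI

open Polynomial

section

variable (k : Type u) [Field k]

/-- `IsGlobalCI` is invariant under `k`-algebra isomorphisms. -/
theorem isGlobalCI_of_algEquiv {A B : Type u} [CommRing A] [CommRing B] [Algebra k A] [Algebra k B]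
    (e : A ≃ₐ[k] B) (h : Synt.IsGlobalCI k A) : Synt.IsGlobalCI k B := by
  rcases h with hsub | ⟨n, c, hcn, φ, r, hφ, hker, hdim⟩
  · exact Or.inl e.symm.toEquiv.subsingleton
  · refine Or.inr ⟨n, c, hcn, e.toAlgHom.comp φ, r, e.surjective.comp hφ, ?_, ?_⟩
    · rw [← hker]
      ext x
      simp only [RingHom.mem_ker]
      constructor
      · intro hx
        apply e.injective
        rw [map_zero]
        exact hx
      · intro hx
        show e (φ x) = 0
        have : φ x = 0 := hx
        rw [this, map_zero]
    · rw [← ringKrullDim_eq_of_ringEquiv e.toRingEquiv]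
      exact hdim

/-- Every maximal ideal of a (nonzero) global complete intersection has height `n - c`. -/
theorem gci_maximal_height {S : Type u} [CommRing S] [Algebra k S] {n c : ℕ} (hcn : c ≤ n)
    (φ : MvPolynomial (Fin n) k →ₐ[k] S) (r : Fin c → MvPolynomial (Fin n) k)
    (hφ : Function.Surjective φ)
    (hker : RingHom.ker φ.toRingHom = Ideal.span (Set.range r))
    (hdim : ringKrullDim S = ((n - c : ℕ) : WithBot ℕ∞)) (m : Ideal S) [hm : m.IsMaximal] :
    m.height = ((n - c : ℕ) : ℕ∞) := by
  let e : (MvPolynomial (Fin n) k ⧸ Ideal.span (Set.range r)) ≃+* S :=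
    (Ideal.quotEquivOfEq hker.symm).trans
      (RingHom.quotientKerEquivOfSurjective (f := φ.toRingHom) hφ)
  have hdim' : ringKrullDim (MvPolynomial (Fin n) k ⧸ Ideal.span (Set.range r)) =
      ((n - c : ℕ) : WithBot ℕ∞) := by
    rw [ringKrullDim_eq_of_ringEquiv e]; exact hdim
  set q : Ideal (MvPolynomial (Fin n) k ⧸ Ideal.span (Set.range r)) :=
    m.comap (e : _ →+* S) with hq
  haveI hqmax : q.IsMaximal := Ideal.comap_isMaximal_of_surjective _ e.surjective
  haveI : q.IsPrime := hqmax.isPrime
  have h1 : q.height = m.height := RingEquiv.height_comap e m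
  have hPmax : (q.comap (Ideal.Quotient.mk (Ideal.span (Set.range r)))).IsMaximal :=
    Ideal.comap_isMaximal_of_surjective _ Ideal.Quotient.mk_surjective
  have h2 := Groth.Agent.Helper7.SatChain.maxht k n _ hPmax
  have h3 := gci_height k n hcn r hdim' q
  rw [h2, h1] at h3
  have hfin : m.height ≠ ⊤ := by
    haveI : m.IsPrime := hm.isPrime
    haveI : IsNoetherianRing S := isNoetherianRing_of_ringEquiv _ e
    exact Ideal.height_ne_top_of_isPrime
  obtain ⟨a, ha⟩ := ENat.ne_top_iff_exists.mp hfin
  rw [← ha] at h3 ⊢
  have : c + a = n := by exact_mod_cast h3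
  have : a = n - c := by omega
  exact_mod_cast this

end

section Away

variable (k : Type u) [Field k]

theorem pci_of_algEquiv {A B : Type u} [CommRing A] [CommRing B] [Algebra k A] [Algebra k B]
    (e : A ≃ₐ[k] B) {n c : ℕ} (h : Groth.Agent.Helper7.GlobCI.PCI k A n c) :
    Groth.Agent.Helper7.GlobCI.PCI k B n c := by
  obtain ⟨φ, r, hφ, hker⟩ := h
  refine ⟨e.toAlgHom.comp φ, r, e.surjective.comp hφ, ?_⟩
  rw [← hker]
  ext x
  simp only [RingHom.mem_ker]
  constructor
  · intro hx
    apply e.injective
    rw [map_zero]
    exact hx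
  · intro hx
    show e (φ x) = 0
    have : φ x = 0 := hx
    rw [this, map_zero]

/-- The localization `S_g` of a global complete intersection is a global complete
intersection. -/
theorem isGlobalCI_away {S : Type u} [CommRing S] [Algebra k S] [Algebra.FiniteType k S] (g : S)
    (h : Synt.IsGlobalCI k S) : Synt.IsGlobalCI k (Localization.Away g) := by
  rcases h with hsub | ⟨n, c, hcn, φ, r, hφ, hker, hdim⟩
  · left
    refine subsingleton_of_zero_eq_one ?_
    have h01 : (0 : S) = 1 := Subsingleton.elim _ _
    rw [← map_zero (algebraMap S (Localization.Away g)), h01, map_one]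
  · by_cases hsg : Subsingleton (Localization.Away g)
    · exact Or.inl hsg
    · right
      haveI : Nontrivial (Localization.Away g) := not_subsingleton_iff_nontrivial.mp hsg
      have hp : Groth.Agent.Helper7.GlobCI.PCI k S n c := ⟨φ, r, hφ, hker⟩
      have hp1 := Groth.Agent.Helper7.GlobCI.pci_adjoinRoot hp (C g * X - 1)
      let e0 : AdjoinRoot (C g * X - 1) ≃ₐ[k] Localization.Away g :=
        (Localization.awayEquivAdjoin g).symm.restrictScalars k
      obtain ⟨φ', r', hφ', hker'⟩ := pci_of_algEquiv k e0 hp1
      refine ⟨n + 1, c + 1, by omega, φ', r', hφ', hker', ?_⟩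
      haveI : IsJacobsonRing S := isJacobsonRing_of_finiteType (A := k)
      have key : ∀ J : Ideal (Localization.Away g), J.IsMaximal →
          J.height = ((n - c : ℕ) : ℕ∞) := by
        intro J hJ
        have h1 := (IsLocalization.isMaximal_iff_isMaximal_disjoint (Localization.Away g) g J).mp hJ
        haveI := h1.1
        rw [← IsLocalization.height_under (Submonoid.powers g) J]
        exact gci_maximal_height k hcn φ r hφ hker hdim (J.under S)
      have hsub : n + 1 - (c + 1) = n - c := by omega
      rw [hsub]
      apply le_antisymm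
      · rw [ringKrullDim_le_iff_isMaximal_height_le]
        intro J hJ
        rw [key J hJ]
        rfl
      · obtain ⟨J, hJ⟩ := Ideal.exists_maximal (Localization.Away g)
        have := Ideal.height_le_ringKrullDim_of_ne_top hJ.ne_top
        rw [key J hJ] at this
        exact this

end Away

end Groth.Agent.H29.GCI
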