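import Mathlib

/-!
# Kernel of the stalk map of an immersion which is closed over an affine open (helper29)

The proof of `ker_stalkMap_eq_of_surjective` is helper4's `RegSeqCodim.ker_stalkMap_eq` with the two
facts used about closed immersions turned into hypotheses.
-/

set_option autoImplicit false
set_option linter.style.haveILetI false

open CategoryTheory CategoryTheory.Limits AlgebraicGeometry TopologicalSpace Opposite

namespace Groth.Agent.H29.KerStalk

universe u

variable {X Y : Scheme.{u}}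

theorem ker_stalkMap_eq_of_surjective (i : Y ⟶ X) (y : Y) {U : X.Opens}
    (hU : IsAffineOpen U) (hy : i y ∈ U) (hV : IsAffineOpen (i ⁻¹ᵁ U))
    (hsurj : Function.Surjective (i.app U).hom) :
    RingHom.ker (i.stalkMap y).hom =
      (RingHom.ker (i.app U).hom).map (X.presheaf.germ U (i y) hy).hom := by
  have hyV : y ∈ i ⁻¹ᵁ U := hy
  have hlocX := hU.isLocalization_stalk ⟨i y, hy⟩
  have hlocY := hV.isLocalization_stalk ⟨y, hyV⟩
  have hgs : ∀ a : Γ(X, U), (i.stalkMap y).hom (X.presheaf.germ U (i y) hy a) =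
      Y.presheaf.germ (i ⁻¹ᵁ U) y hyV ((i.app U).hom a) :=
    fun a => Scheme.Hom.germ_stalkMap_apply i U y hy a
  apply le_antisymm
  · intro s hs
    rw [RingHom.mem_ker] at hs
    obtain ⟨⟨a, f⟩, hsf⟩ := @IsLocalization.surj Γ(X, U) _ _ (X.presheaf.stalk (i y)) _
      (TopCat.Presheaf.algebra_section_stalk X.presheaf ⟨i y, hy⟩) hlocX s
    have hsf' : s * X.presheaf.germ U (i y) hy f.1 = X.presheaf.germ U (i y) hy a := hsf
    have hfu : IsUnit (X.presheaf.germ U (i y) hy f.1) :=
      @IsLocalization.map_units Γ(X, U) _ _ (X.presheaf.stalk (i y)) _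
        (TopCat.Presheaf.algebra_section_stalk X.presheaf ⟨i y, hy⟩) hlocX f
    have h1 : Y.presheaf.germ (i ⁻¹ᵁ U) y hyV ((i.app U).hom a) = 0 := by
      rw [← hgs, ← hsf', map_mul, hs, zero_mul]
    obtain ⟨g', hg'⟩ := (@IsLocalization.map_eq_zero_iff Γ(Y, i ⁻¹ᵁ U) _ _
      (Y.presheaf.stalk y) _
      (TopCat.Presheaf.algebra_section_stalk Y.presheaf ⟨y, hyV⟩) hlocY _).mp h1
    have hg'u : IsUnit (Y.presheaf.germ (i ⁻¹ᵁ U) y hyV g'.1) :=
      @IsLocalization.map_units Γ(Y, i ⁻¹ᵁ U) _ _ (Y.presheaf.stalk y) _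
        (TopCat.Presheaf.algebra_section_stalk Y.presheaf ⟨y, hyV⟩) hlocY g'
    obtain ⟨g, hg⟩ := hsurj g'.1
    have hgu : IsUnit (X.presheaf.germ U (i y) hy g) := by
      have : IsUnit ((i.stalkMap y).hom (X.presheaf.germ U (i y) hy g)) := by
        rw [hgs, hg]; exact hg'u
      exact isUnit_of_map_unit (i.stalkMap y).hom _ this
    have hga : g * a ∈ RingHom.ker (i.app U).hom := by
      rw [RingHom.mem_ker, map_mul, hg]
      exact hg'
    have h2 : X.presheaf.germ U (i y) hy g * X.presheaf.germ U (i y) hy a ∈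
        (RingHom.ker (i.app U).hom).map (X.presheaf.germ U (i y) hy).hom := by
      rw [← map_mul]
      exact Ideal.mem_map_of_mem _ hga
    have h3 : X.presheaf.germ U (i y) hy a ∈
        (RingHom.ker (i.app U).hom).map (X.presheaf.germ U (i y) hy).hom :=
      (Ideal.unit_mul_mem_iff_mem _ hgu).mp h2
    rw [← hsf'] at h3
    exact (Ideal.mul_unit_mem_iff_mem _ hfu).mp h3
  · rw [Ideal.map_le_iff_le_comap]
    intro a ha
    rw [Ideal.mem_comap, RingHom.mem_ker, hgs, RingHom.mem_ker.mp ha, map_zero]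

/-- If `i` restricts to a closed immersion over the affine open `U`, then `i⁻¹ U` is affine and
`Γ(X, U) → Γ(Y, i⁻¹ U)` is surjective. -/
theorem affine_and_surjective_of_restrict (i : Y ⟶ X) {U : X.Opens} (hU : IsAffineOpen U)
    [IsClosedImmersion (i ∣_ U)] :
    IsAffineOpen (i ⁻¹ᵁ U) ∧ Function.Surjective (i.app U).hom := by
  haveI : IsAffine U.toScheme := hU
  refine ⟨isAffine_of_isAffineHom (i ∣_ U), ?_⟩
  have h1 : Function.Surjective ((i ∣_ U).app ⊤).hom :=
    (i ∣_ U).app_surjective ⊤ (isAffineOpen_top _)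
  rw [morphismRestrict_app] at h1
  change Function.Surjective ((i.app (U.ι ''ᵁ ⊤) ≫
    Y.presheaf.map (eqToHom (image_morphismRestrict_preimage i U ⊤)).op).hom) at h1
  rw [CommRingCat.hom_comp, RingHom.coe_comp] at h1
  have h2 : Function.Surjective (i.app (U.ι ''ᵁ ⊤)).hom :=
    Function.Surjective.of_comp_left h1
      (ConcreteCategory.bijective_of_isIso (Y.presheaf.map (eqToHom _).op)).1
  have key : ∀ V : X.Opens, V = U → Function.Surjective (i.app V).hom →
      Function.Surjective (i.app U).hom := by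
    rintro V rfl h
    exact h
  exact key _ U.ι_image_top h2

/-- Kernel of the stalk map in terms of an affine open over which `i` is a closed immersion. -/
theorem ker_stalkMap_eq_of_restrict (i : Y ⟶ X) (y : Y) {U : X.Opens}
    (hU : IsAffineOpen U) (hy : i y ∈ U) [IsClosedImmersion (i ∣_ U)] :
    RingHom.ker (i.stalkMap y).hom =
      (RingHom.ker (i.app U).hom).map (X.presheaf.germ U (i y) hy).hom :=
  ker_stalkMap_eq_of_surjective i y hU hy (affine_and_surjective_of_restrict i hU).1
    (affine_and_surjective_of_restrict i hU).2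

/-- The image in the stalk of a regular sequence generating the kernel on an affine open is a
regular sequence generating the kernel of the stalk map. -/
theorem isRegular_map_germ (i : Y ⟶ X) (y : Y) {U : X.Opens}
    (hU : IsAffineOpen U) (hy : i y ∈ U) [IsClosedImmersion (i ∣_ U)]
    (rs : List Γ(X, U)) (hrs : RingTheory.Sequence.IsWeaklyRegular Γ(X, U) rs)
    (hker : RingHom.ker (i.app U).hom = Ideal.ofList rs) :
    RingTheory.Sequence.IsRegular (X.presheaf.stalk (i y))
        (rs.map (X.presheaf.germ U (i y) hy).hom) ∧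
      RingHom.ker (i.stalkMap y).hom = Ideal.ofList (rs.map (X.presheaf.germ U (i y) hy).hom) := by
  have hk : RingHom.ker (i.stalkMap y).hom =
      Ideal.ofList (rs.map (X.presheaf.germ U (i y) hy).hom) := by
    rw [ker_stalkMap_eq_of_restrict i y hU hy, hker, Ideal.map_ofList]
  refine ⟨?_, hk⟩
  letI := TopCat.Presheaf.algebra_section_stalk X.presheaf ⟨i y, hy⟩
  haveI := hU.isLocalization_stalk ⟨i y, hy⟩
  have hw : RingTheory.Sequence.IsWeaklyRegular (X.presheaf.stalk (i y))
      (rs.map (X.presheaf.germ U (i y) hy).hom) :=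
    RingTheory.Sequence.IsWeaklyRegular.of_isLocalization (X.presheaf.stalk (i y))
      (hU.primeIdealOf ⟨i y, hy⟩).asIdeal.primeCompl hrs
  refine ⟨hw, fun htop => ?_⟩
  rw [smul_eq_mul, Ideal.mul_top, ← hk] at htop
  exact RingHom.ker_ne_top _ htop.symm

end Groth.Agent.H29.KerStalk
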