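import Mathlib
import Groth.Prelude.Def_RegImm
import Groth.Agent.H29.GCILoc

/-!
# Local complete intersections over a field are local (helper29)
-/

set_option autoImplicit false
set_option linter.style.haveILetI false
set_option linter.unusedSectionVars false
universe u

namespace Groth.Agent.H29.GCI

section

variable (κ : Type u) [Field κ]

/-- An algebra isomorphism induces an isomorphism of localizations away from an element. -/
noncomputable def awayAlgEquiv {A B : Type u} [CommRing A] [CommRing B] [Algebra κ A] [Algebra κ B]
    (e : A ≃ₐ[κ] B) (h : A) : Localization.Away h ≃ₐ[κ] Localization.Away (e h) :=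
  AlgEquiv.ofRingEquiv
    (f := IsLocalization.ringEquivOfRingEquiv (M := Submonoid.powers h)
      (T := Submonoid.powers (e h)) (Localization.Away h) (Localization.Away (e h))
      e.toRingEquiv (by
        rw [Submonoid.map_powers]
        rfl))
    (by
      intro c
      rw [IsScalarTower.algebraMap_apply κ A (Localization.Away h),
        IsLocalization.ringEquivOfRingEquiv_eq,
        IsScalarTower.algebraMap_apply κ B (Localization.Away (e h))]
      congr 1
      exact e.commutes c)

theorem isLCIOver_of_algEquiv {A B : Type u} [CommRing A] [CommRing B] [Algebra κ A] [Algebra κ B]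
    (e : A ≃ₐ[κ] B) (h : Synt.IsLCIOver κ A) : Synt.IsLCIOver κ B := by
  obtain ⟨hft, hloc⟩ := h
  refine ⟨hft.equiv e, ?_⟩
  intro P
  haveI : (P.asIdeal.comap (e : A →+* B)).IsPrime := Ideal.comap_isPrime _ _
  obtain ⟨h0, hh0, hG⟩ := hloc ⟨P.asIdeal.comap (e : A →+* B), inferInstance⟩
  exact ⟨e h0, hh0, isGlobalCI_of_algEquiv κ (awayAlgEquiv κ e h0) hG⟩

set_option backward.isDefEq.respectTransparency false in
/-- If `F_u` is a local complete intersection and `u ∉ P`, then some basic open neighbourhood
of `P` in `Spec F` is a global complete intersection. -/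
theorem exists_gci_of_lci_away {F : Type u} [CommRing F] [Algebra κ F] (u : F)
    (P : PrimeSpectrum F) (hu : u ∉ P.asIdeal) (hL : Synt.IsLCIOver κ (Localization.Away u)) :
    ∃ h : F, h ∉ P.asIdeal ∧ Synt.IsGlobalCI κ (Localization.Away h) := by
  obtain ⟨hft, hloc⟩ := hL
  have hdisj : Disjoint (Submonoid.powers u : Set F) (P.asIdeal : Set F) := by
    rw [Set.disjoint_left]
    rintro _ ⟨m, rfl⟩ hm
    exact hu (P.2.mem_of_pow_mem m hm)
  set P' : Ideal (Localization.Away u) := P.asIdeal.map (algebraMap F (Localization.Away u))
    with hP'
  haveI hP'prime : P'.IsPrime :=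
    IsLocalization.isPrime_of_isPrime_disjoint (Submonoid.powers u) _ P.asIdeal P.2 hdisj
  have hcomap : P'.comap (algebraMap F (Localization.Away u)) = P.asIdeal :=
    IsLocalization.under_map_of_isPrime_disjoint (Submonoid.powers u) _ P.2 hdisj
  obtain ⟨h1, hh1, hG⟩ := hloc ⟨P', hP'prime⟩
  -- write h1 = x / u^N
  obtain ⟨⟨x, ⟨_, N, rfl⟩⟩, hx⟩ := IsLocalization.surj (Submonoid.powers u) h1
  -- hx : h1 * algebraMap (u^N) = algebraMap x
  have hx' : h1 * algebraMap F (Localization.Away u) (u ^ N) =
      algebraMap F (Localization.Away u) x := hx
  have hxP : x ∉ P.asIdeal := by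
    intro hxP
    have h2 : algebraMap F (Localization.Away u) x ∈ P' := Ideal.mem_map_of_mem _ hxP
    rw [← hx'] at h2
    rcases hP'prime.mem_or_mem h2 with h3 | h3
    · exact hh1 h3
    · have : u ^ N ∈ P'.comap (algebraMap F (Localization.Away u)) := h3
      rw [hcomap] at this
      exact hu (P.2.mem_of_pow_mem N this)
  refine ⟨u * x, fun hmem => (P.2.mem_or_mem hmem).elim hu hxP, ?_⟩
  -- localize `(F_u)_{h1}` further at `u^N`
  haveI : Algebra.FiniteType (Localization.Away u) (Localization.Away h1) :=
    IsLocalization.finiteType_of_monoid_fg (Submonoid.powers h1) _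
  haveI : Algebra.FiniteType κ (Localization.Away h1) := Algebra.FiniteType.trans hft this
  have hG2 := isGlobalCI_away κ (S := Localization.Away h1)
    (algebraMap (Localization.Away u) (Localization.Away h1)
      (algebraMap F (Localization.Away u) (u ^ N))) hG
  -- this is the localization of `F_u` away from `h1 * u^N = x`
  haveI i1 : IsLocalization.Away (h1 * algebraMap F (Localization.Away u) (u ^ N))
      (Localization.Away (algebraMap (Localization.Away u) (Localization.Away h1)
        (algebraMap F (Localization.Away u) (u ^ N)))) := inferInstance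
  rw [hx'] at i1
  -- `(F_u)_x` is the localization of `F` away from `u * x`
  haveI i2 : IsLocalization.Away (u * x)
      (Localization.Away (algebraMap F (Localization.Away u) x)) := inferInstance
  let e1 : Localization.Away (algebraMap (Localization.Away u) (Localization.Away h1)
        (algebraMap F (Localization.Away u) (u ^ N))) ≃ₐ[Localization.Away u]
      Localization.Away (algebraMap F (Localization.Away u) x) :=
    IsLocalization.algEquiv (Submonoid.powers (algebraMap F (Localization.Away u) x))
      (Localization.Away (algebraMap (Localization.Away u) (Localization.Away h1)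
        (algebraMap F (Localization.Away u) (u ^ N))))
      (Localization.Away (algebraMap F (Localization.Away u) x))
  let e2 : Localization.Away (algebraMap F (Localization.Away u) x) ≃ₐ[F]
      Localization.Away (u * x) :=
    IsLocalization.algEquiv (Submonoid.powers (u * x))
      (Localization.Away (algebraMap F (Localization.Away u) x)) (Localization.Away (u * x))
  exact isGlobalCI_of_algEquiv κ (e2.restrictScalars κ)
    (isGlobalCI_of_algEquiv κ (e1.restrictScalars κ) hG2)

end

end Groth.Agent.H29.GCI
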