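import Groth.Prelude.Def_LinTop
import Mathlib

set_option autoImplicit false
universe u

namespace Groth.Agent.H29

open Filter Topology

theorem isUnit_one_sub_of_mem (A : Type u) [CommRing A] [UniformSpace A] [IsUniformAddGroup A] [IsTopologicalRing A]
    (hA : LinTop.IsAdmissible A) (J : Ideal A) (hJ : LinTop.IsIdealOfDefinition A J) (x : A) (hx : x ∈ J) :
    IsUnit (1 - x) := by
  obtain ⟨⟨hlin, -⟩, ht2, hcomp⟩ := hA
  have : NonarchimedeanAddGroup A := by
    refine ⟨fun U hU => ?_⟩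
    obtain ⟨I, hIo, hIU⟩ := (IsLinearTopology.hasBasis_open_ideal (R := A)).mem_iff.mp hU
    exact ⟨⟨I.toAddSubgroup, hIo⟩, hIU⟩
  have htend : Tendsto (fun n : ℕ => x ^ n) atTop (𝓝 0) := by
    rw [tendsto_def]
    intro U hU
    obtain ⟨n, -, hn⟩ := hJ.2 U hU
    rw [mem_atTop_sets]
    refine ⟨n, fun m hm => ?_⟩
    apply hn
    exact Ideal.pow_le_pow_right hm (Ideal.pow_mem_pow hx m)
  have hsum : Summable (fun n : ℕ => x ^ n) := by
    apply NonarchimedeanAddGroup.summable_of_tendsto_cofinite_zero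
    rwa [Nat.cofinite_eq_atTop]
  have h1 : ∑' n : ℕ, x ^ n = 1 + x * ∑' n : ℕ, x ^ n := by
    conv_lhs => rw [hsum.tsum_eq_zero_add, pow_zero]
    rw [← hsum.tsum_mul_left x]
    simp only [pow_succ']
  refine isUnit_iff_exists_inv.mpr ⟨∑' n : ℕ, x ^ n, ?_⟩
  rw [sub_mul, one_mul]
  nth_rewrite 1 [h1]
  ring

theorem le_jacobson_bot_of_isIdealOfDefinition (A : Type u) [CommRing A] [UniformSpace A] [IsUniformAddGroup A] [IsTopologicalRing A]
    (hA : LinTop.IsAdmissible A) (J : Ideal A) (hJ : LinTop.IsIdealOfDefinition A J) :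
    J ≤ Ideal.jacobson ⊥ := by
  intro x hx
  rw [Ideal.mem_jacobson_bot]
  intro y
  have h := Groth.Agent.H29.isUnit_one_sub_of_mem A hA J hJ (-(x * y)) (J.neg_mem (J.mul_mem_right y hx))
  have e : 1 - -(x * y) = x * y + 1 := by ring
  rwa [e] at h

end Groth.Agent.H29
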