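import Mathlib
import Groth.Prelude.Def_CAlg
import Groth.Prelude.Def_Found
import Groth.Agent.S9128
import Groth.Agent.H29.Hartshorne

/-!
# Equidimensionality from connectedness in codimension one (helper29)

* `exists_minimalPrimes_ringKrullDim_quotient_eq` : a Noetherian local ring has a minimal prime
  `p` with `dim A/p = dim A`.
* `ringKrullDim_quotient_eq_of_depth` : catenary + (`depth A_p ≥ 2` whenever `ht p ≥ 2`) ⇒
  `dim A/p = dim A` for all minimal primes.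
-/

set_option autoImplicit false
set_option linter.style.haveILetI false
set_option linter.unusedSectionVars false
universe u

namespace Groth.Agent.H29

open IsLocalRing

variable (A : Type u) [CommRing A] [IsLocalRing A] [IsNoetherianRing A]

omit [IsNoetherianRing A] in
theorem connectedSpace_primeSpectrum_of_isLocalRing : ConnectedSpace (PrimeSpectrum A) := by
  rw [connectedSpace_iff_univ]
  refine ⟨⟨IsLocalRing.closedPoint A, trivial⟩, ?_⟩
  rw [isPreconnected_closed_iff]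
  intro t t' ht ht' _ hne hne'
  obtain ⟨a, rfl⟩ := (PrimeSpectrum.isClosed_iff_zeroLocus_ideal t).mp ht
  obtain ⟨b, rfl⟩ := (PrimeSpectrum.isClosed_iff_zeroLocus_ideal t').mp ht'
  obtain ⟨P, -, hP⟩ := hne
  obtain ⟨P', -, hP'⟩ := hne'
  rw [PrimeSpectrum.mem_zeroLocus, SetLike.coe_subset_coe] at hP hP'
  refine ⟨IsLocalRing.closedPoint A, trivial, ?_, ?_⟩
  · rw [PrimeSpectrum.mem_zeroLocus, SetLike.coe_subset_coe]
    exact hP.trans (IsLocalRing.le_maximalIdeal P.2.ne_top)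
  · rw [PrimeSpectrum.mem_zeroLocus, SetLike.coe_subset_coe]
    exact hP'.trans (IsLocalRing.le_maximalIdeal P'.2.ne_top)

theorem exists_minimalPrimes_ringKrullDim_quotient_eq :
    ∃ p ∈ minimalPrimes A, ringKrullDim (A ⧸ p) = ringKrullDim A := by
  have hfin : ringKrullDim A < ⊤ := ringKrullDim_lt_top
  have h1 : ringKrullDim A = ((⨆ a : PrimeSpectrum A, Order.coheight a : ℕ∞) : WithBot ℕ∞) := by
    rw [ringKrullDim, Order.krullDim_eq_iSup_coheight_of_nonempty]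
  have hlt : (⨆ a : PrimeSpectrum A, Order.coheight a) < ⊤ := by
    rw [h1] at hfin
    have hfin' : ((⨆ a : PrimeSpectrum A, Order.coheight a : ℕ∞) : WithBot ℕ∞) <
        ((⊤ : ℕ∞) : WithBot ℕ∞) := hfin
    exact WithBot.coe_lt_coe.mp hfin'
  obtain ⟨P, hP⟩ := ENat.exists_eq_iSup_of_lt_top hlt
  obtain ⟨p, hp, hpP⟩ := Ideal.exists_minimalPrimes_le (I := ⊥) (J := P.asIdeal) bot_le
  refine ⟨p, hp, ?_⟩
  have hpprime : p.IsPrime := hp.1.1
  have hle : (⟨p, hpprime⟩ : PrimeSpectrum A) ≤ P := hpP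
  have h2 : Order.coheight P ≤ Order.coheight (⟨p, hpprime⟩ : PrimeSpectrum A) :=
    Order.coheight_anti hle
  have h3 : Order.coheight (⟨p, hpprime⟩ : PrimeSpectrum A) ≤
      ⨆ a : PrimeSpectrum A, Order.coheight a := le_iSup (fun a : PrimeSpectrum A => Order.coheight a) _
  have h4 : Order.coheight (⟨p, hpprime⟩ : PrimeSpectrum A) =
      ⨆ a : PrimeSpectrum A, Order.coheight a := le_antisymm h3 (hP ▸ h2)
  have h5 := Groth.Agent.S9128.dim_quot A ⟨p, hpprime⟩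
  rw [h1, ← h4]
  exact h5

theorem ringKrullDim_quotient_eq_of_depth (hc : CAlg.IsCatenary A)
    (h : ∀ (q : Ideal A) [q.IsPrime], (2 : ℕ∞) ≤ q.height →
      (2 : ℕ∞) ≤ LocCoh.depth (Localization.AtPrime q) (Localization.AtPrime q))
    (p : Ideal A) (hp : p ∈ minimalPrimes A) : ringKrullDim (A ⧸ p) = ringKrullDim A := by
  classical
  haveI := connectedSpace_primeSpectrum_of_isLocalRing A
  by_contra hcon
  obtain ⟨p₀, hp₀, hp₀dim⟩ := exists_minimalPrimes_ringKrullDim_quotient_eq A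
  obtain ⟨q, hqprime, hdepth, p₁, hp₁, p₂, hp₂, hp₂', hp₁q, hp₂q⟩ :=
    exists_prime_of_partition A
      {p | p ∈ minimalPrimes A ∧ ringKrullDim (A ⧸ p) = ringKrullDim A}
      (fun p hp => hp.1) p₀ ⟨hp₀, hp₀dim⟩ p hp (fun hh => hcon hh.2)
  have hht : ¬ (2 : ℕ∞) ≤ q.height := fun h2 => hdepth (@h q hqprime h2)
  have hp₁prime : p₁.IsPrime := hp₁.1.1.1
  have hp₂prime : p₂.IsPrime := hp₂.1.1
  have hne : p₁ ≠ p₂ := by
    rintro rfl
    exact hp₂' hp₁
  have hp₁lt : p₁ < q := by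
    refine lt_of_le_of_ne hp₁q ?_
    rintro rfl
    exact hne (le_antisymm (hp₁.1.2 ⟨hp₂prime, bot_le⟩ hp₂q) hp₂q)
  have hp₂lt : p₂ < q := by
    refine lt_of_le_of_ne hp₂q ?_
    rintro rfl
    exact hne (le_antisymm hp₁q (hp₂.2 ⟨hp₁prime, bot_le⟩ hp₁q))
  have hcov : ∀ (p' : Ideal A) (hp' : p'.IsPrime), p' < q →
      (⟨p', hp'⟩ : PrimeSpectrum A) ⋖ ⟨q, hqprime⟩ := by
    intro p' hp' hlt
    refine ⟨hlt, fun c h1 h2 => hht ?_⟩
    have e1 : p'.height + 1 ≤ c.asIdeal.height :=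
      Ideal.height_add_one_le_of_lt_of_isPrime h1
    have e2 : c.asIdeal.height + 1 ≤ q.height :=
      Ideal.height_add_one_le_of_lt_of_isPrime h2
    calc (2 : ℕ∞) = 0 + 1 + 1 := by norm_num
      _ ≤ p'.height + 1 + 1 := by gcongr; exact bot_le
      _ ≤ c.asIdeal.height + 1 := by gcongr
      _ ≤ q.height := e2
  have hS := (Groth.Agent.S9128.result A).mp hc
  have e1 := (hS ⟨p₁, hp₁prime⟩ ⟨q, hqprime⟩ hp₁lt).2 (hcov p₁ hp₁prime hp₁lt)
  have e2 := (hS ⟨p₂, hp₂prime⟩ ⟨q, hqprime⟩ hp₂lt).2 (hcov p₂ hp₂prime hp₂lt)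
  apply hp₂'
  refine ⟨hp₂, ?_⟩
  rw [← hp₁.2]
  exact e2.trans e1.symm

end Groth.Agent.H29
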