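import Mathlib

set_option autoImplicit false

namespace Groth.Agent.H29

open Polynomial
open scoped Ring

/-- Newton iteration: the purely algebraic part of Hensel's lemma, for an ideal `K` containing
`f(a₀)` and contained in an ideal `I` lying in the Jacobson radical, modulo which `f'(a₀)` is a
unit. -/
theorem newton_seq {R : Type*} [CommRing R] (I K : Ideal R) (hKI : K ≤ I)
    (hjac : I ≤ Ideal.jacobson ⊥) (f : R[X]) (a₀ : R) (h₁ : f.eval a₀ ∈ K)
    (h₂ : IsUnit (Ideal.Quotient.mk I (f.derivative.eval a₀))) :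
    ∃ c : ℕ → R, c 0 = a₀ ∧ (∀ n, c n - a₀ ∈ K) ∧ (∀ n, f.eval (c n) ∈ K ^ (n + 1)) ∧
      (∀ n, c (n + 1) - c n ∈ K ^ (n + 1)) := by
  classical
  let f' := derivative f
  let c : ℕ → R := fun n => Nat.recOn n a₀ fun _ b => b - f.eval b * (f'.eval b)⁻¹ʳ
  have hc : ∀ n, c (n + 1) = c n - f.eval (c n) * (f'.eval (c n))⁻¹ʳ := by
    intro n
    simp only [c]
  have hc_mod : ∀ n, c n ≡ a₀ [SMOD K] := by
    intro n
    induction n with
    | zero => rfl
    | succ n ih => ?_
    rw [hc, sub_eq_add_neg, ← add_zero a₀]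
    refine ih.add ?_
    rw [SModEq.zero, Ideal.neg_mem_iff]
    refine K.mul_mem_right _ ?_
    rw [← SModEq.zero] at h₁ ⊢
    exact (ih.eval f).trans h₁
  have hc_modI : ∀ n, c n ≡ a₀ [SMOD I] := by
    intro n
    have h := hc_mod n
    rw [SModEq.sub_mem] at h ⊢
    exact hKI h
  have hf'c : ∀ n, IsUnit (f'.eval (c n)) := by
    intro n
    have := isLocalHom_of_le_jacobson_bot I hjac
    apply IsUnit.of_map (Ideal.Quotient.mk I)
    have h := SModEq.def.mp ((hc_modI n).eval f')
    rw [show Ideal.Quotient.mk I (eval (c n) f') = Ideal.Quotient.mk I (eval a₀ f') from h]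
    exact h₂
  have hfcI : ∀ n, f.eval (c n) ∈ K ^ (n + 1) := by
    intro n
    induction n with
    | zero => simpa only [Nat.rec_zero, zero_add, pow_one, c] using h₁
    | succ n ih => ?_
    rw [← taylor_eval_sub (c n), hc, sub_eq_add_neg, sub_eq_add_neg,
      add_neg_cancel_comm]
    rw [eval_eq_sum, sum_over_range' _ _ _ (lt_add_of_pos_right _ zero_lt_two), ←
      Finset.sum_range_add_sum_Ico _ (Nat.le_add_left _ _)]
    swap
    · intro i
      rw [zero_mul]
    refine Ideal.add_mem _ ?_ ?_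
    · rw [← one_add_one_eq_two, Finset.sum_range_succ, Finset.range_one, Finset.sum_singleton,
        taylor_coeff_zero, taylor_coeff_one, pow_zero, pow_one, mul_one, mul_neg,
        mul_left_comm, Ring.mul_inverse_cancel _ (hf'c n), mul_one, add_neg_cancel]
      exact Ideal.zero_mem _
    · refine Submodule.sum_mem _ ?_
      simp only [Finset.mem_Ico]
      rintro i ⟨h2i, _⟩
      have aux : n + 2 ≤ i * (n + 1) := by trans 2 * (n + 1) <;> nlinarith only [h2i]
      refine Ideal.mul_mem_left _ _ (Ideal.pow_le_pow_right aux ?_)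
      rw [pow_mul']
      exact Ideal.pow_mem_pow ((Ideal.neg_mem_iff _).2 <| Ideal.mul_mem_right _ _ ih) _
  refine ⟨c, rfl, fun n => ?_, hfcI, fun n => ?_⟩
  · have h := hc_mod n
    rwa [SModEq.sub_mem] at h
  · rw [hc, sub_sub_cancel_left, Ideal.neg_mem_iff]
    exact Ideal.mul_mem_right _ _ (hfcI n)

end Groth.Agent.H29
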