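import Mathlib
import Groth.Prelude.Def_CAlg
import Groth.Prelude.Def_EGA4b
import Groth.Agent.H29.DepthLib

/-!
# Normal flatness localizes (helper29)

* `flat_of_isLocalizedModule`: if `G` is a flat `A/I`-module and `G → G'` is a localization at `S`,
  then `G'` is flat over `S⁻¹A / I S⁻¹A`;
* `isNormallyFlat_localization`: `M` normally flat along `I` ⇒ `S⁻¹M` normally flat along `I S⁻¹A`;
* `depth_dim_quot`: `(A/I)_q ≃ A_q / I A_q` on depth and dimension.
-/

set_option autoImplicit false
set_option linter.style.haveILetI false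
set_option linter.unusedSectionVars false
universe u

namespace Groth.Agent.H29.NormFlatLoc

open Groth.Agent.H29

section Step3

variable {A : Type u} [CommRing A] (I : Ideal A) (S : Submonoid A) (B : Type u) [CommRing B]
  [Algebra A B] [IsLocalization S B]

theorem flat_of_isLocalizedModule
    (G : Type u) [AddCommGroup G] [Module A G] [Module (A ⧸ I) G] [IsScalarTower A (A ⧸ I) G]
    (G' : Type u) [AddCommGroup G'] [Module A G'] [Module B G'] [IsScalarTower A B G']
    [Module (B ⧸ I.map (algebraMap A B)) G'] [IsScalarTower B (B ⧸ I.map (algebraMap A B)) G']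
    (ψ : G →ₗ[A] G') [IsLocalizedModule S ψ] [Module.Flat (A ⧸ I) G] :
    Module.Flat (B ⧸ I.map (algebraMap A B)) G' := by
  letI : Module (A ⧸ I) G' :=
    Module.compHom G' (algebraMap (A ⧸ I) (B ⧸ I.map (algebraMap A B)))
  have star : ∀ (x0 : A) (z : G'), (Ideal.Quotient.mk I x0 : A ⧸ I) • z = x0 • z := by
    intro x0 z
    calc (Ideal.Quotient.mk I x0 : A ⧸ I) • z
        = (algebraMap B (B ⧸ I.map (algebraMap A B)) (algebraMap A B x0)) • z := rfl
      _ = (algebraMap A B x0) • z := algebraMap_smul _ _ _
      _ = x0 • z := algebraMap_smul _ _ _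
  haveI : IsScalarTower (A ⧸ I) (B ⧸ I.map (algebraMap A B)) G' :=
    ⟨fun x y z => by
      show (x • y) • z = algebraMap (A ⧸ I) (B ⧸ I.map (algebraMap A B)) x • (y • z)
      rw [Algebra.smul_def, mul_smul]⟩
  haveI : IsScalarTower A (A ⧸ I) G' :=
    ⟨fun a x z => by
      obtain ⟨x0, rfl⟩ := Ideal.Quotient.mk_surjective x
      have : a • (Ideal.Quotient.mk I x0) = Ideal.Quotient.mk I (a * x0) := rfl
      rw [this, star, star, mul_smul]⟩
  let ψ' : G →ₗ[A ⧸ I] G' :=
    { toFun := ψ
      map_add' := ψ.map_add
      map_smul' := by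
        intro x g
        obtain ⟨x0, rfl⟩ := Ideal.Quotient.mk_surjective x
        simp only [RingHom.id_apply]
        rw [star, ← map_smul]
        congr 1
        exact (algebraMap_smul (A ⧸ I) x0 g) }
  haveI : IsLocalizedModule S (ψ'.restrictScalars A) := ‹IsLocalizedModule S ψ›
  haveI := IsLocalizedModule.of_restrictScalars (A := A ⧸ I) S ψ'
  exact Module.Flat.of_isLocalizedModule (R := A ⧸ I) (B ⧸ I.map (algebraMap A B))
    (Algebra.algebraMapSubmonoid (A ⧸ I) S) ψ'

end Step3

section Quot

variable {A : Type u} [CommRing A] (I : Ideal A) (S : Submonoid A) (B : Type u) [CommRing B]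
  [Algebra A B] [IsLocalization S B]
  {M N : Type u} [AddCommGroup M] [AddCommGroup N] [Module A M] [Module A N] [Module B N]
  [IsScalarTower A B N] (f : M →ₗ[A] N) [IsLocalizedModule S f]

theorem localized'_smul_top (K : Ideal A) :
    (K • (⊤ : Submodule A M)).localized' B S f =
      (K.map (algebraMap A B)) • (⊤ : Submodule B N) := by
  rw [Submodule.localized'_smul, Ideal.localized'_eq_map, Submodule.localized'_top]

theorem flat_quot (M'' : Submodule A M) (N'' : Submodule B N) (h : M''.localized' B S f = N'')
    [Module (A ⧸ I) (M ⧸ M'')] [IsScalarTower A (A ⧸ I) (M ⧸ M'')]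
    [Module (B ⧸ I.map (algebraMap A B)) (N ⧸ N'')]
    [IsScalarTower B (B ⧸ I.map (algebraMap A B)) (N ⧸ N'')]
    [Module.Flat (A ⧸ I) (M ⧸ M'')] : Module.Flat (B ⧸ I.map (algebraMap A B)) (N ⧸ N'') := by
  subst h
  exact flat_of_isLocalizedModule I S B (M ⧸ M'') (N ⧸ M''.localized' B S f)
    (M''.toLocalizedQuotient' B S f)

theorem flat_sub (M' : Submodule A M) (N' : Submodule B N) (h : M'.localized' B S f = N')
    (hflat : Module.Flat (A ⧸ I) (↥M' ⧸ (I • ⊤ : Submodule A ↥M'))) :
    Module.Flat (B ⧸ I.map (algebraMap A B))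
      (↥N' ⧸ (I.map (algebraMap A B) • ⊤ : Submodule B ↥N')) := by
  subst h
  haveI := hflat
  exact flat_quot I S B (M'.toLocalized' B S f) (I • ⊤) (I.map (algebraMap A B) • ⊤)
    (localized'_smul_top S B (M'.toLocalized' B S f) I)

end Quot

theorem isNormallyFlat_localization {A : Type u} [CommRing A] (I : Ideal A) (M : Type u)
    [AddCommGroup M] [Module A M] (hM : EGA4.IsNormallyFlat I M) (S : Submonoid A) :
    EGA4.IsNormallyFlat (I.map (algebraMap A (Localization S))) (LocalizedModule S M) := by
  intro n
  have E1 : (I ^ n • (⊤ : Submodule A M)).localized' (Localization S) S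
      (LocalizedModule.mkLinearMap S M) =
      ((I.map (algebraMap A (Localization S))) ^ n • ⊤ :
        Submodule (Localization S) (LocalizedModule S M)) := by
    rw [localized'_smul_top, Ideal.map_pow]
  exact flat_sub I S (Localization S) (LocalizedModule.mkLinearMap S M) _ _ E1 (hM n)

/-- `(A/I)_q` and `A_q / I A_q` have the same depth and dimension over `A_q`. -/
theorem depth_dim_quot {A : Type u} [CommRing A] (I : Ideal A) (q : Ideal A) [q.IsPrime] :
    LocCoh.depth (Localization.AtPrime q) (LocalizedModule q.primeCompl (A ⧸ I)) =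
        LocCoh.depth (Localization.AtPrime q)
          (Localization.AtPrime q ⧸ I.map (algebraMap A (Localization.AtPrime q))) ∧
      Module.supportDim (Localization.AtPrime q) (LocalizedModule q.primeCompl (A ⧸ I)) =
        ringKrullDim (Localization.AtPrime q ⧸ I.map (algebraMap A (Localization.AtPrime q))) := by
  haveI : IsLocalizedModule (Algebra.algebraMapSubmonoid (A ⧸ I) q.primeCompl)
      (Algebra.linearMap (A ⧸ I)
        (Localization.AtPrime q ⧸ I.map (algebraMap A (Localization.AtPrime q)))) :=
    isLocalizedModule_iff_isLocalization.mpr inferInstance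
  haveI := IsLocalizedModule.restrictScalars (A := A ⧸ I) q.primeCompl
    (Algebra.linearMap (A ⧸ I)
      (Localization.AtPrime q ⧸ I.map (algebraMap A (Localization.AtPrime q))))
  let e0 := IsLocalizedModule.iso q.primeCompl
    ((Algebra.linearMap (A ⧸ I)
      (Localization.AtPrime q ⧸ I.map (algebraMap A (Localization.AtPrime q)))).restrictScalars A)
  let e := e0.extendScalarsOfIsLocalization q.primeCompl (Localization.AtPrime q)
  refine ⟨idealDepth_congr _ e, ?_⟩
  rw [Module.supportDim_eq_of_equiv e, Module.supportDim_quotient_eq_ringKrullDim]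

end Groth.Agent.H29.NormFlatLoc
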