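import Mathlib
import Groth.Agent.Lib.Helper8.LocalCrit

/-!
# Flatness modulo a regular sequence in the Jacobson radical (helper29)

* `flat_of_ringEquiv_semilinear` : transport of flatness along a ring isomorphism and a semilinear
  additive isomorphism.
* `flat_iff_quotient_regular` : `B` Noetherian, `x ∈ rad B` a nonzerodivisor, `P` finite:
  `P` flat over `B` iff `P/xP` flat over `B/x` and `x` is `P`-regular.
* `flat_quotient_iff_of_isWeaklyRegular` : the version for a sequence, relative to an ideal `J`.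
-/

set_option autoImplicit false
set_option linter.style.haveILetI false
set_option linter.unusedSectionVars false
universe u

namespace Groth.Agent.H29

open TensorProduct Pointwise

/-- Transport of flatness along a ring isomorphism and a semilinear additive isomorphism. -/
theorem flat_of_ringEquiv_semilinear {C D X Y : Type u} [CommRing C] [CommRing D]
    [AddCommGroup X] [Module C X] [AddCommGroup Y] [Module D Y] (φ : C ≃+* D) (e : X ≃+ Y)
    (he : ∀ c x, e (c • x) = φ c • e x) [Module.Flat C X] : Module.Flat D Y := by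
  letI : Algebra D C := φ.symm.toRingHom.toAlgebra
  letI : Module D X := Module.compHom X φ.symm.toRingHom
  haveI : IsScalarTower D C X := ⟨fun d c x => by
    show (φ.symm d * c) • x = φ.symm d • (c • x)
    rw [mul_smul]⟩
  haveI : Module.Flat D C := Module.Flat.of_linearEquiv
    (LinearEquiv.ofBijective (Algebra.linearMap D C) φ.symm.bijective).symm
  haveI : Module.Flat D X := Module.Flat.trans D C X
  let e' : X ≃ₗ[D] Y :=
    { e with
      map_smul' := fun d x => by
        show e (φ.symm d • x) = d • e x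
        rw [he, φ.apply_symm_apply] }
  exact Module.Flat.of_linearEquiv e'.symm

theorem flat_iff_of_ringEquiv_semilinear {C D X Y : Type u} [CommRing C] [CommRing D]
    [AddCommGroup X] [Module C X] [AddCommGroup Y] [Module D Y] (φ : C ≃+* D) (e : X ≃+ Y)
    (he : ∀ c x, e (c • x) = φ c • e x) : Module.Flat C X ↔ Module.Flat D Y := by
  constructor
  · intro h
    exact flat_of_ringEquiv_semilinear φ e he
  · intro h
    refine flat_of_ringEquiv_semilinear φ.symm e.symm (fun d y => ?_)
    apply e.injective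
    rw [he, e.apply_symm_apply, e.apply_symm_apply, φ.apply_symm_apply]

section OneElement

variable (B : Type u) [CommRing B] [IsNoetherianRing B] (x : B)
  (P : Type u) [AddCommGroup P] [Module B P]

theorem rTensor_span_singleton_injective (hreg : IsSMulRegular B x) (hregP : IsSMulRegular P x) :
    Function.Injective ((Ideal.span {x} : Ideal B).subtype.rTensor P) := by
  set I : Ideal B := Ideal.span {x} with hI
  let μ₀ : B →ₗ[B] I := LinearMap.toSpanSingleton B I ⟨x, Ideal.mem_span_singleton_self x⟩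
  have hμ₀ : ∀ b : B, ((μ₀ b : I) : B) = b * x := fun b => rfl
  have hμinj : Function.Injective μ₀ := by
    intro a b hab
    have h1 : a * x = b * x := by rw [← hμ₀, ← hμ₀, hab]
    apply hreg
    show x • a = x • b
    rw [smul_eq_mul, smul_eq_mul, mul_comm x a, mul_comm x b, h1]
  have hμsurj : Function.Surjective μ₀ := by
    rintro ⟨y, hy⟩
    obtain ⟨a, rfl⟩ := Ideal.mem_span_singleton'.mp hy
    exact ⟨a, Subtype.ext (hμ₀ a)⟩
  let μ : B ≃ₗ[B] I := LinearEquiv.ofBijective μ₀ ⟨hμinj, hμsurj⟩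
  have hcomp : I.subtype ∘ₗ μ.toLinearMap = LinearMap.lsmul B B x := by
    ext
    simp [μ, hμ₀]
  rw [injective_iff_map_eq_zero]
  intro z hz
  obtain ⟨z', rfl⟩ := (LinearEquiv.rTensor P μ).surjective z
  have hgen : ∀ w : B ⊗[B] P, ((LinearMap.lsmul B B x).rTensor P) w = x • w := by
    intro w
    induction w using TensorProduct.induction_on with
    | zero => simp
    | tmul b p => simp [TensorProduct.smul_tmul']
    | add a b ha hb => rw [map_add, ha, hb, smul_add]
  have hxz : (I.subtype.rTensor P) ((LinearEquiv.rTensor P μ) z') = x • z' := by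
    have h1 : (I.subtype.rTensor P) ((LinearEquiv.rTensor P μ) z') =
        ((I.subtype ∘ₗ μ.toLinearMap).rTensor P) z' := by
      rw [LinearMap.rTensor_comp]
      rfl
    rw [h1, hcomp, hgen]
  rw [hxz] at hz
  have hlid := congrArg (TensorProduct.lid B P) hz
  rw [map_smul, map_zero] at hlid
  have h0 : TensorProduct.lid B P z' = 0 := hregP (by
    show x • (TensorProduct.lid B P) z' = x • (0 : P)
    rw [smul_zero]; exact hlid)
  have hz' : z' = 0 := (TensorProduct.lid B P).injective (by rw [h0, map_zero])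
  rw [hz', map_zero]

variable [Module.Finite B P]

theorem flat_iff_quotient_regular (hx : x ∈ (⊥ : Ideal B).jacobson) (hreg : IsSMulRegular B x) :
    Module.Flat B P ↔
      Module.Flat (B ⧸ Ideal.span {x}) (P ⧸ (Ideal.span {x} : Ideal B) • (⊤ : Submodule B P)) ∧
        IsSMulRegular P x := by
  have hsurj : Function.Surjective (algebraMap B (B ⧸ (Ideal.span {x} : Ideal B))) :=
    Ideal.Quotient.mk_surjective
  let ε : (B ⧸ (Ideal.span {x} : Ideal B)) ⊗[B] P ≃ₗ[B ⧸ (Ideal.span {x} : Ideal B)]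
      P ⧸ (Ideal.span {x} : Ideal B) • (⊤ : Submodule B P) :=
    LinearEquiv.extendScalarsOfSurjective hsurj
      (TensorProduct.quotTensorEquivQuotSMul P (Ideal.span {x} : Ideal B))
  constructor
  · intro hflat
    refine ⟨Module.Flat.of_linearEquiv ε.symm, ?_⟩
    have hx0 : x ∈ nonZeroDivisors B := by
      rw [mem_nonZeroDivisors_iff_right]
      intro y hy
      apply hreg
      show x • y = x • 0
      rw [smul_zero, smul_eq_mul, mul_comm]
      exact hy
    exact Module.Flat.isSMulRegular_of_nonZeroDivisors hx0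
  · rintro ⟨hC, hregP⟩
    have h2 : Module.Flat (B ⧸ (Ideal.span {x} : Ideal B))
        ((B ⧸ (Ideal.span {x} : Ideal B)) ⊗[B] P) := Module.Flat.of_linearEquiv ε
    have hIS : (Ideal.span {x} : Ideal B).map (algebraMap B B) ≤ Ideal.jacobson ⊥ := by
      rw [Algebra.algebraMap_self, Ideal.map_id, Ideal.span_singleton_le_iff_mem]
      exact hx
    exact Groth.Agent.Helper8.LocalCrit.flat_of_rTensor_injective_of_flat_quotient
      (S := B) (Ideal.span {x} : Ideal B) hIS
      (rTensor_span_singleton_injective B x P hreg hregP) h2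

end OneElement

section QuotQuot

variable {A : Type u} [CommRing A] {N : Type u} [AddCommGroup N] [Module A N]

theorem map_mkQ_smul_top (S : Submodule A N) (x : A) :
    (x • (⊤ : Submodule A N)).map S.mkQ = x • (⊤ : Submodule A (N ⧸ S)) := by
  rw [Submodule.map_pointwise_smul, Submodule.map_top, Submodule.range_mkQ]

theorem map_mkQ_ideal_smul_top (S : Submodule A N) (I : Ideal A) :
    (I • (⊤ : Submodule A N)).map S.mkQ = I • (⊤ : Submodule A (N ⧸ S)) := by
  rw [Submodule.map_smul'', Submodule.map_top, Submodule.range_mkQ]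

/-- `(N/S)/x(N/S) ≃ N/(S + xN)`. -/
noncomputable def quotSMulTopQuotEquiv (S : Submodule A N) (x : A) :
    QuotSMulTop x (N ⧸ S) ≃ₗ[A] (N ⧸ (S ⊔ x • (⊤ : Submodule A N))) :=
  (Submodule.quotEquivOfEq _ _ (map_mkQ_smul_top S x).symm).trans
    (Submodule.quotientQuotientEquivQuotientSup S (x • ⊤))

theorem quotSMulTopQuotEquiv_mk (S : Submodule A N) (x : A) (n : N) :
    quotSMulTopQuotEquiv S x (Submodule.Quotient.mk (Submodule.Quotient.mk n)) =
      Submodule.Quotient.mk n := rfl

theorem smul_top_sup_smul_top (J : Ideal A) (x : A) :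
    J • (⊤ : Submodule A N) ⊔ x • (⊤ : Submodule A N) =
      (J ⊔ Ideal.span {x}) • (⊤ : Submodule A N) := by
  rw [Submodule.sup_smul, Submodule.ideal_span_singleton_smul]

theorem ideal_sup_smul_top (J : Ideal A) (x : A) :
    (J : Submodule A A) ⊔ x • (⊤ : Submodule A A) = J ⊔ Ideal.span {x} := by
  congr 1
  rw [← Submodule.ideal_span_singleton_smul]
  exact Ideal.mul_top _

/-- `(N/JN)/x(N/JN) ≃ N/(J + (x))N`. -/
noncomputable def quotSMulTopEquivModule (J : Ideal A) (x : A) (N : Type u) [AddCommGroup N]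
    [Module A N] :
    QuotSMulTop x (N ⧸ J • (⊤ : Submodule A N)) ≃ₗ[A]
      (N ⧸ (J ⊔ Ideal.span {x}) • (⊤ : Submodule A N)) :=
  (quotSMulTopQuotEquiv (J • (⊤ : Submodule A N)) x).trans
    (Submodule.quotEquivOfEq _ _ (smul_top_sup_smul_top J x))

theorem quotSMulTopEquivModule_mk (J : Ideal A) (x : A) (n : N) :
    quotSMulTopEquivModule J x N (Submodule.Quotient.mk (Submodule.Quotient.mk n)) =
      Submodule.Quotient.mk n := rfl

/-- `(A/J)/x(A/J) ≃ A/(J + (x))`. -/
noncomputable def quotSMulTopEquivRing (J : Ideal A) (x : A) :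
    QuotSMulTop x (A ⧸ J) ≃ₗ[A] (A ⧸ (J ⊔ Ideal.span {x})) :=
  (quotSMulTopQuotEquiv (J : Submodule A A) x).trans
    (Submodule.quotEquivOfEq _ _ (ideal_sup_smul_top J x))

end QuotQuot

section Relative

variable (A : Type u) [CommRing A] [IsNoetherianRing A] (J : Ideal A) (x : A)
  (N : Type u) [AddCommGroup N] [Module A N] [Module.Finite A N]

theorem mk_mem_jacobson_bot (hx : x ∈ (⊥ : Ideal A).jacobson) :
    Ideal.Quotient.mk J x ∈ (⊥ : Ideal (A ⧸ J)).jacobson := by
  rw [Ideal.mem_jacobson_bot] at hx ⊢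
  intro y
  obtain ⟨y, rfl⟩ := Ideal.Quotient.mk_surjective y
  have := (hx y).map (Ideal.Quotient.mk J)
  simpa using this

theorem isSMulRegular_mk_iff (P : Type u) [AddCommGroup P] [Module A P] [Module (A ⧸ J) P]
    [IsScalarTower A (A ⧸ J) P] :
    IsSMulRegular P (Ideal.Quotient.mk J x) ↔ IsSMulRegular P x := by
  have h : (fun p : P => Ideal.Quotient.mk J x • p) = fun p => x • p := by
    funext p
    exact algebraMap_smul (A ⧸ J) x p
  unfold IsSMulRegular
  rw [h]

theorem flat_quotient_iff_of_isSMulRegular (hx : x ∈ (⊥ : Ideal A).jacobson)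
    (hreg : IsSMulRegular (A ⧸ J) x) :
    Module.Flat (A ⧸ J) (N ⧸ J • (⊤ : Submodule A N)) ↔
      Module.Flat (A ⧸ (J ⊔ Ideal.span {x}))
        (N ⧸ (J ⊔ Ideal.span {x}) • (⊤ : Submodule A N)) ∧
        IsSMulRegular (N ⧸ J • (⊤ : Submodule A N)) x := by
  have hxb : Ideal.Quotient.mk J x ∈ (⊥ : Ideal (A ⧸ J)).jacobson := mk_mem_jacobson_bot A J x hx
  have hregb : IsSMulRegular (A ⧸ J) (Ideal.Quotient.mk J x) :=
    (isSMulRegular_mk_iff A J x (A ⧸ J)).mpr hreg
  have key := flat_iff_quotient_regular (A ⧸ J) (Ideal.Quotient.mk J x)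
    (N ⧸ J • (⊤ : Submodule A N)) hxb hregb
  rw [key, isSMulRegular_mk_iff A J x (N ⧸ J • (⊤ : Submodule A N))]
  refine and_congr_left' ?_
  have h₁ : (Ideal.span {Ideal.Quotient.mk J x} : Ideal (A ⧸ J)) =
      (Ideal.span {x}).map (Ideal.Quotient.mk J) := by
    rw [Ideal.map_span, Set.image_singleton]
  let φ : ((A ⧸ J) ⧸ (Ideal.span {Ideal.Quotient.mk J x} : Ideal (A ⧸ J))) ≃+*
      (A ⧸ (J ⊔ Ideal.span {x})) :=
    (Ideal.quotEquivOfEq h₁).trans (DoubleQuot.quotQuotEquivQuotSup J (Ideal.span {x}))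
  have hφ : ∀ a : A, φ (Ideal.Quotient.mk _ (Ideal.Quotient.mk J a)) = Ideal.Quotient.mk _ a :=
    fun a => rfl
  have h₂ : ((Ideal.span {Ideal.Quotient.mk J x} : Ideal (A ⧸ J)) •
      (⊤ : Submodule (A ⧸ J) (N ⧸ J • (⊤ : Submodule A N)))).restrictScalars A =
      x • (⊤ : Submodule A (N ⧸ J • (⊤ : Submodule A N))) := by
    rw [Submodule.ideal_span_singleton_smul]
    ext y
    rw [Submodule.restrictScalars_mem, Submodule.mem_smul_pointwise_iff_exists,
      Submodule.mem_smul_pointwise_iff_exists]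
    constructor
    · rintro ⟨p, -, rfl⟩
      exact ⟨p, trivial, (algebraMap_smul (A ⧸ J) x p).symm⟩
    · rintro ⟨p, -, rfl⟩
      exact ⟨p, trivial, algebraMap_smul (A ⧸ J) x p⟩
  let e : ((N ⧸ J • (⊤ : Submodule A N)) ⧸
      (Ideal.span {Ideal.Quotient.mk J x} : Ideal (A ⧸ J)) •
        (⊤ : Submodule (A ⧸ J) (N ⧸ J • (⊤ : Submodule A N)))) ≃ₗ[A]
      (N ⧸ (J ⊔ Ideal.span {x}) • (⊤ : Submodule A N)) :=
    ((Submodule.Quotient.restrictScalarsEquiv A _).symm.trans
      (Submodule.quotEquivOfEq _ _ h₂)).trans (quotSMulTopEquivModule J x N)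
  have he : ∀ n : N, e (Submodule.Quotient.mk (Submodule.Quotient.mk n)) =
      Submodule.Quotient.mk n := fun n => rfl
  have hsemi : ∀ c y, e (c • y) = φ c • e y := by
    intro c y
    obtain ⟨c', rfl⟩ := Ideal.Quotient.mk_surjective c
    obtain ⟨a, rfl⟩ := Ideal.Quotient.mk_surjective c'
    obtain ⟨y', rfl⟩ := Submodule.Quotient.mk_surjective _ y
    obtain ⟨n, rfl⟩ := Submodule.Quotient.mk_surjective _ y'
    rw [hφ, he]
    rfl
  exact flat_iff_of_ringEquiv_semilinear φ e.toAddEquiv hsemi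

theorem flat_quotient_iff_of_isWeaklyRegular (rs : List A) :
    ∀ (J : Ideal A), (∀ r ∈ rs, r ∈ (⊥ : Ideal A).jacobson) →
      RingTheory.Sequence.IsWeaklyRegular (A ⧸ J) rs →
      (Module.Flat (A ⧸ J) (N ⧸ J • (⊤ : Submodule A N)) ↔
        Module.Flat (A ⧸ (J ⊔ Ideal.ofList rs))
          (N ⧸ (J ⊔ Ideal.ofList rs) • (⊤ : Submodule A N)) ∧
          RingTheory.Sequence.IsWeaklyRegular (N ⧸ J • (⊤ : Submodule A N)) rs) := by
  induction rs with
  | nil =>
    intro J _ _
    have h0 : J ⊔ Ideal.ofList ([] : List A) = J := by rw [Ideal.ofList_nil, sup_bot_eq]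
    rw [h0]
    exact ⟨fun h => ⟨h, RingTheory.Sequence.IsWeaklyRegular.nil A _⟩, fun h => h.1⟩
  | cons x rs ih =>
    intro J hrad hreg
    rw [RingTheory.Sequence.isWeaklyRegular_cons_iff] at hreg
    obtain ⟨hregx, hregrs⟩ := hreg
    have hregrs' : RingTheory.Sequence.IsWeaklyRegular (A ⧸ (J ⊔ Ideal.span {x})) rs :=
      ((quotSMulTopEquivRing J x).isWeaklyRegular_congr rs).mp hregrs
    have hJ : J ⊔ Ideal.ofList (x :: rs) = (J ⊔ Ideal.span {x}) ⊔ Ideal.ofList rs := by
      rw [Ideal.ofList_cons, sup_assoc]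
    rw [hJ, flat_quotient_iff_of_isSMulRegular A J x N (hrad x List.mem_cons_self) hregx,
      ih (J ⊔ Ideal.span {x}) (fun r hr => hrad r (List.mem_cons_of_mem _ hr)) hregrs',
      RingTheory.Sequence.isWeaklyRegular_cons_iff,
      ← (quotSMulTopEquivModule J x N).isWeaklyRegular_congr rs]
    tauto

theorem flat_quotient_quotient_iff (I I' : Ideal A) (h : I ≤ I') :
    Module.Flat (A ⧸ I') ((N ⧸ I • (⊤ : Submodule A N)) ⧸
        I' • (⊤ : Submodule A (N ⧸ I • (⊤ : Submodule A N)))) ↔
      Module.Flat (A ⧸ I') (N ⧸ I' • (⊤ : Submodule A N)) := by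
  have hle : I • (⊤ : Submodule A N) ≤ I' • ⊤ := Submodule.smul_mono_left h
  let e : ((N ⧸ I • (⊤ : Submodule A N)) ⧸
      I' • (⊤ : Submodule A (N ⧸ I • (⊤ : Submodule A N)))) ≃ₗ[A]
      (N ⧸ I' • (⊤ : Submodule A N)) :=
    (Submodule.quotEquivOfEq _ _ (map_mkQ_ideal_smul_top (I • (⊤ : Submodule A N)) I').symm).trans
      (Submodule.quotientQuotientEquivQuotient (I • ⊤) (I' • ⊤) hle)
  exact Module.Flat.equiv_iff
    (e.extendScalarsOfSurjective (Ideal.Quotient.mk_surjective (I := I')))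

end Relative

end Groth.Agent.H29
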