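import Mathlib

/-!
# The localization at `1 + J` maps faithfully flatly to the `J`-adic completion (helper29)
-/

namespace Groth.Agent.H29.OnePlus

universe u

set_option linter.style.haveILetI false

variable (A : Type u) [CommRing A] [IsNoetherianRing A] (J : Ideal A)

theorem isUnit_algebraMap_of_mem {t : A} (ht : t ∈ MonoidHom.mker (Ideal.Quotient.mk J)) :
    IsUnit (algebraMap A (AdicCompletion J A) t) := by
  have fg : J.FG := IsNoetherian.noetherian J
  haveI := AdicCompletion.isAdicComplete_self J fg
  have hjac : J.map (algebraMap A (AdicCompletion J A)) ≤ Ideal.jacobson ⊥ :=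
    IsAdicComplete.le_jacobson_bot _
  have hmem : t - 1 ∈ J := by
    rw [MonoidHom.mem_mker] at ht
    rw [← Ideal.Quotient.eq_zero_iff_mem, map_sub, ht, map_one, sub_self]
  have h1 : algebraMap A (AdicCompletion J A) (t - 1) ∈ Ideal.jacobson ⊥ :=
    hjac (Ideal.mem_map_of_mem _ hmem)
  have h2 := (Ideal.mem_jacobson_bot.mp h1) 1
  rw [mul_one, map_sub, map_one, sub_add_cancel] at h2
  exact h2

theorem main : ∃ (_ : Algebra (Localization (MonoidHom.mker (Ideal.Quotient.mk J)))
      (AdicCompletion J A))
    (_ : IsScalarTower A (Localization (MonoidHom.mker (Ideal.Quotient.mk J)))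
      (AdicCompletion J A)),
    Module.FaithfullyFlat (Localization (MonoidHom.mker (Ideal.Quotient.mk J)))
      (AdicCompletion J A) ∧
    IsLocalization (Algebra.algebraMapSubmonoid (AdicCompletion J A)
      (MonoidHom.mker (Ideal.Quotient.mk J))) (AdicCompletion J A) := by
  set T : Submonoid A := MonoidHom.mker (Ideal.Quotient.mk J) with hT
  letI alg : Algebra (Localization T) (AdicCompletion J A) :=
    (IsLocalization.lift (M := T) (g := algebraMap A (AdicCompletion J A))
      (fun t => isUnit_algebraMap_of_mem A J t.2)).toAlgebra
  haveI tower : IsScalarTower A (Localization T) (AdicCompletion J A) :=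
    IsScalarTower.of_algebraMap_eq (fun x => (IsLocalization.lift_eq _ x).symm)
  refine ⟨alg, tower, ?_, ?_⟩
  · haveI : Module.Flat (Localization T) (AdicCompletion J A) :=
      (Module.flat_iff_of_isLocalization (Localization T) T (AdicCompletion J A)).mpr inferInstance
    refine ⟨fun m hm hcon => ?_⟩
    rw [Ideal.smul_top_eq_map] at hcon
    have h1 : m.map (algebraMap (Localization T) (AdicCompletion J A)) = ⊤ := by
      rw [eq_top_iff]
      intro x _
      have : x ∈ Submodule.restrictScalars (Localization T)
          (m.map (algebraMap (Localization T) (AdicCompletion J A))) := by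
        rw [hcon]; exact Submodule.mem_top
      exact this
    have hm_eq : (m.comap (algebraMap A (Localization T))).map (algebraMap A (Localization T)) = m :=
      IsLocalization.map_comap T (Localization T) m
    have h2 : (m.comap (algebraMap A (Localization T))).map
        (algebraMap A (AdicCompletion J A)) = ⊤ := by
      rw [IsScalarTower.algebraMap_eq A (Localization T) (AdicCompletion J A), ← Ideal.map_map,
        hm_eq, h1]
    have h3 : (m.comap (algebraMap A (Localization T))).map (Ideal.Quotient.mk J) = ⊤ := by
      have := congrArg (Ideal.map (AdicCompletion.evalOneₐ J).toRingHom) h2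
      rw [Ideal.map_map, Ideal.map_top, AdicCompletion.evalOneₐ_comp_algebraMap_eq_mk] at this
      exact this
    have h4 : (1 : A ⧸ J) ∈ (m.comap (algebraMap A (Localization T))).map (Ideal.Quotient.mk J) := by
      rw [h3]; exact Submodule.mem_top
    obtain ⟨x, hxp, hx1⟩ :=
      (Ideal.mem_map_iff_of_surjective _ Ideal.Quotient.mk_surjective).mp h4
    have hxT : x ∈ T := by rw [hT, MonoidHom.mem_mker]; exact hx1
    have hunit : IsUnit (algebraMap A (Localization T) x) :=
      IsLocalization.map_units (Localization T) ⟨x, hxT⟩
    exact hm.ne_top (Ideal.eq_top_of_isUnit_mem m (Ideal.mem_comap.mp hxp) hunit)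
  · refine IsLocalization.of_le_isUnit ?_
    rintro x ⟨t, ht, rfl⟩
    exact isUnit_algebraMap_of_mem A J ht

end Groth.Agent.H29.OnePlus
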