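import Mathlib
import Groth.Prelude.Def_CAlg
import Groth.Agent.H29.ABMore
import Groth.Agent.H29.PDOpen

/-!
# Projective dimension over (non-local) regular rings via `Ext(M, A)` (helper29)

* `hasProjectiveDimensionLT_of_ext_self_vanish` : over a Noetherian ring, if `pd M < ∞` and
  `Ext^i(M, A) = 0` for `i > d` then `pd M ≤ d`.
* `exists_hasProjectiveDimensionLT_of_regular_maximal` : finite Krull dimension + regular at maximal
  ideals ⇒ finite projective dimension.
-/

set_option autoImplicit false
set_option linter.style.haveILetI false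
set_option linter.unusedSectionVars false
universe u

namespace Groth.Agent.H29

open CategoryTheory Abelian

section

variable (A : Type u) [CommRing A] [IsNoetherianRing A]

theorem hasProjectiveDimensionLT_of_ext_self_vanish (M : Type u) [AddCommGroup M] [Module A M]
    [Module.Finite A M] (d : ℕ)
    (h : ∀ i : ℕ, d < i → Subsingleton (Ext (ModuleCat.of A M) (ModuleCat.of A A) i)) :
    ∀ j : ℕ, HasProjectiveDimensionLT (ModuleCat.of A M) (d + 1 + j) →
      HasProjectiveDimensionLT (ModuleCat.of A M) (d + 1) := by
  intro j
  induction j with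
  | zero => intro hj; exact hj
  | succ j ih =>
    intro hj
    apply ih
    have hj' : HasProjectiveDimensionLT (ModuleCat.of A M) (d + j + 1 + 1) := by
      have : d + 1 + (j + 1) = d + j + 1 + 1 := by omega
      rw [this] at hj
      exact hj
    have hext : Subsingleton (Ext (ModuleCat.of A M) (ModuleCat.of A A) (d + j + 1)) :=
      h (d + j + 1) (by omega)
    have : d + 1 + j = d + j + 1 := by omega
    rw [this, hasProjectiveDimensionLT_iff_forall_cyclic]
    intro I
    exact subsingleton_ext_cyclic_of_subsingleton_ext_self A _ (d + j) hj' hext I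

theorem exists_hasProjectiveDimensionLT_of_regular_maximal
    (hreg : ∀ m : MaximalSpectrum A, IsRegularLocalRing (Localization.AtPrime m.asIdeal))
    (hdim : ringKrullDim A < ⊤) (M : Type u) [AddCommGroup M] [Module A M] [Module.Finite A M] :
    ∃ D : ℕ, HasProjectiveDimensionLT (ModuleCat.of A M) (D + 1) := by
  obtain ⟨D, hD⟩ : ∃ D : ℕ, ringKrullDim A ≤ D := by
    generalize ringKrullDim A = x at hdim
    induction x with
    | bot => exact ⟨0, bot_le⟩
    | coe x =>
      induction x with
      | top => exact absurd hdim (lt_irrefl _)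
      | coe n => exact ⟨n, le_rfl⟩
  refine ⟨D, ?_⟩
  haveI : Module.Finite A (ModuleCat.of A M) := inferInstanceAs (Module.Finite A M)
  show HasProjectiveDimensionLE (ModuleCat.of A M) D
  rw [ModuleCat.hasProjectiveDimensionLE_iff_forall_maximalSpectrum]
  intro m
  haveI := hreg m
  haveI : m.asIdeal.IsPrime := m.isMaximal.isPrime
  obtain ⟨dm, hdm⟩ := ringKrullDim_eq_natCast_of_isLocalRing (Localization.AtPrime m.asIdeal)
  have hle : dm ≤ D := by
    have h1 : ringKrullDim (Localization.AtPrime m.asIdeal) ≤ ringKrullDim A := by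
      rw [IsLocalization.AtPrime.ringKrullDim_eq_height m.asIdeal (Localization.AtPrime m.asIdeal)]
      exact Ideal.height_le_ringKrullDim_of_ne_top Ideal.IsPrime.ne_top'
    have h2 : ((dm : ℕ) : WithBot ℕ∞) ≤ ((D : ℕ) : WithBot ℕ∞) := by
      rw [← hdm]; exact h1.trans hD
    exact_mod_cast h2
  have hp : HasProjectiveDimensionLT (ModuleCat.of (Localization.AtPrime m.asIdeal)
      (LocalizedModule m.asIdeal.primeCompl M)) (dm + 1) :=
    hasProjectiveDimensionLT_of_isRegularLocalRing _ dm hdm _
  haveI : HasProjectiveDimensionLE (ModuleCat.of (Localization.AtPrime m.asIdeal)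
      (LocalizedModule m.asIdeal.primeCompl M)) D :=
    hasProjectiveDimensionLT_of_ge _ (dm + 1) _ (by omega)
  let e : (ModuleCat.of (Localization.AtPrime m.asIdeal)
      (LocalizedModule m.asIdeal.primeCompl M)) ≃ₗ[Localization.AtPrime m.asIdeal]
      ((ModuleCat.of A M).localizedModule m.asIdeal.primeCompl) :=
    (Shrink.linearEquiv (Localization.AtPrime m.asIdeal)
      (LocalizedModule m.asIdeal.primeCompl M)).symm
  exact ModuleCat.hasProjectiveDimensionLE_of_linearEquiv e D

end

end Groth.Agent.H29
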