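import Mathlib
import Groth.Agent.H29.RegLocalization
import Groth.Agent.H29.RegLocal2

/-!
# Regular local rings are integrally closed (helper29)

* `dvd_of_isIntegral_of_mul_eq` : `x` prime, `w` integral, `x * w = a ∈ R` ⇒ `x ∣ a`.
* `isIntegrallyClosed_of_prime_of_forall_localization` : `R` domain, `x` prime element,
  `R_q` integrally closed for all primes `q ∌ x` ⇒ `R` integrally closed.
* `isIntegrallyClosed_of_isRegularLocalRing` : regular local rings are normal.
-/

set_option autoImplicit false
set_option linter.style.haveILetI false
set_option linter.unusedSectionVars false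
universe u

namespace Groth.Agent.H29

open IsLocalRing

theorem dvd_of_isIntegral_of_mul_eq {R K : Type*} [CommRing R] [IsDomain R] [Field K]
    [Algebra R K] [IsFractionRing R K] {x a : R} (hx : Prime x) {w : K} (hw : IsIntegral R w)
    (h : algebraMap R K x * w = algebraMap R K a) : x ∣ a := by
  obtain ⟨p, hp, hpw⟩ := hw
  have := Polynomial.dvd_pow_natDegree_of_eval₂_eq_zero (IsFractionRing.injective R K) hp x a w
    hpw h
  exact hx.dvd_of_dvd_pow this

theorem isIntegrallyClosed_of_prime_of_forall_localization (R : Type u) [CommRing R] [IsDomain R]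
    (x : R) (hx : Prime x)
    (H : ∀ (q : Ideal R) [q.IsPrime], x ∉ q → IsIntegrallyClosed (Localization.AtPrime q)) :
    IsIntegrallyClosed R := by
  rw [isIntegrallyClosed_iff (FractionRing R)]
  intro z hz
  have step1 : ∃ n : ℕ, ∃ a : R,
      algebraMap R (FractionRing R) (x ^ n) * z = algebraMap R (FractionRing R) a := by
    by_contra hcon
    push Not at hcon
    let J : Ideal R :=
      { carrier := {r | ∃ a : R,
          algebraMap R (FractionRing R) r * z = algebraMap R (FractionRing R) a}
        add_mem' := by
          rintro r s ⟨a, ha⟩ ⟨b, hb⟩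
          exact ⟨a + b, by rw [map_add, add_mul, ha, hb, map_add]⟩
        zero_mem' := ⟨0, by simp⟩
        smul_mem' := by
          rintro c r ⟨a, ha⟩
          exact ⟨c * a, by rw [smul_eq_mul, map_mul, mul_assoc, ha, map_mul]⟩ }
    have hdisj : Disjoint (J : Set R) (Submonoid.powers x : Set R) := by
      rw [Set.disjoint_left]
      rintro r ⟨a, ha⟩ ⟨n, rfl⟩
      exact hcon n a ha
    obtain ⟨q, hq, hJq, hqx⟩ := Ideal.exists_le_prime_disjoint J (Submonoid.powers x) hdisj
    have hxq : x ∉ q := fun h => Set.disjoint_left.mp hqx h (Submonoid.mem_powers x)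
    have hz' : IsIntegral (Localization.AtPrime q) z := hz.tower_top
    obtain ⟨y, hy⟩ := (isIntegrallyClosed_iff (FractionRing R)).mp (H q hxq) hz'
    obtain ⟨⟨c, s⟩, rfl⟩ := IsLocalization.mk'_surjective q.primeCompl y
    have hs : algebraMap R (FractionRing R) s * z = algebraMap R (FractionRing R) c := by
      rw [← hy, IsScalarTower.algebraMap_apply R (Localization.AtPrime q) (FractionRing R),
        IsScalarTower.algebraMap_apply R (Localization.AtPrime q) (FractionRing R) c, ← map_mul,
        IsLocalization.mk'_spec']
    exact s.2 (hJq ⟨c, hs⟩)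
  obtain ⟨n, a, hn⟩ := step1
  induction n generalizing a with
  | zero => exact ⟨a, by simpa using hn.symm⟩
  | succ n ih =>
    have hw : IsIntegral R (algebraMap R (FractionRing R) (x ^ n) * z) :=
      isIntegral_algebraMap.mul hz
    have h1 : algebraMap R (FractionRing R) x * (algebraMap R (FractionRing R) (x ^ n) * z) =
        algebraMap R (FractionRing R) a := by
      rw [← mul_assoc, ← map_mul, ← pow_succ']
      exact hn
    obtain ⟨b, rfl⟩ := dvd_of_isIntegral_of_mul_eq hx hw h1
    apply ih b
    have hx0 : algebraMap R (FractionRing R) x ≠ 0 :=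
      (map_ne_zero_iff _ (IsFractionRing.injective R (FractionRing R))).mpr hx.ne_zero
    rw [map_mul] at h1
    exact mul_left_cancel₀ hx0 h1

theorem isIntegrallyClosed_of_isRegularLocalRing_aux (d : ℕ) :
    ∀ (A : Type u) [CommRing A] [IsRegularLocalRing A], ringKrullDim A = d →
      IsIntegrallyClosed A := by
  induction d using Nat.strong_induction_on with
  | _ d ih =>
    intro A _ _ hd
    haveI := isDomain_of_isRegularLocalRing A
    rcases Nat.eq_zero_or_pos d with rfl | hpos
    · have hF : IsField A := isField_of_ringKrullDim_eq_zero A (by simpa using hd)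
      rw [isIntegrallyClosed_iff (FractionRing A)]
      intro z _
      exact (IsFractionRing.surjective_iff_isField.mpr hF) z
    · have hnf : ¬ IsField A := by
        intro hF
        have h0 := ringKrullDim_eq_zero_of_isField hF
        rw [hd] at h0
        have : d = 0 := by exact_mod_cast h0
        omega
      obtain ⟨x, hxm, hx2⟩ := exists_mem_maximalIdeal_notMem_sq A hnf
      obtain ⟨hreg, hdim⟩ := isRegularLocalRing_quotient_span_singleton A x hxm hx2
      haveI := hreg
      haveI : IsDomain (A ⧸ Ideal.span {x}) := isDomain_of_isRegularLocalRing _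
      have hx0 : x ≠ 0 := fun h => hx2 (h ▸ zero_mem _)
      have hprime : Prime x :=
        (Ideal.span_singleton_prime hx0).mp ((Ideal.Quotient.isDomain_iff_prime _).mp inferInstance)
      apply isIntegrallyClosed_of_prime_of_forall_localization A x hprime
      intro q _ hxq
      haveI : IsRegularLocalRing (Localization.AtPrime q) :=
        isRegularLocalRing_localization_atPrime A q
      have hqm : q < maximalIdeal A :=
        lt_of_le_of_ne (IsLocalRing.le_maximalIdeal (Ideal.IsPrime.ne_top ‹_›))
          (fun h => hxq (h ▸ hxm))
      have hht : q.height < (maximalIdeal A).height :=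
        Ideal.height_strict_mono_of_isPrime_of_isPrime hqm
      have hm : ((maximalIdeal A).height : WithBot ℕ∞) = (d : ℕ∞) := by
        rw [IsLocalRing.maximalIdeal_height_eq_ringKrullDim, hd]
        rfl
      have hmd : (maximalIdeal A).height = d := by exact_mod_cast hm
      have hdq : ringKrullDim (Localization.AtPrime q) = q.height :=
        IsLocalization.AtPrime.ringKrullDim_eq_height q _
      rw [hmd] at hht
      obtain ⟨e, he⟩ := ENat.ne_top_iff_exists.mp (ne_top_of_lt hht)
      rw [← he] at hht hdq
      have hed : e < d := by exact_mod_cast hht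
      exact ih e hed (Localization.AtPrime q) hdq

/-- A regular local ring is integrally closed. -/
theorem isIntegrallyClosed_of_isRegularLocalRing (A : Type u) [CommRing A]
    [IsRegularLocalRing A] : IsIntegrallyClosed A := by
  obtain ⟨d, hd⟩ := ringKrullDim_eq_natCast_of_isLocalRing A
  exact isIntegrallyClosed_of_isRegularLocalRing_aux d A hd

end Groth.Agent.H29
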