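import Groth.Prelude.Def_RegImm
import Mathlib

set_option autoImplicit false
universe u
open TensorProduct

namespace Groth.Agent.H29.RelGCIFibre

/-- Base change of the presentation `R[x]/(F)` to a field `K`. -/
theorem fibre_presentation (R : Type u) [CommRing R] (n c : ℕ)
    (F : Fin c → MvPolynomial (Fin n) R) (K : Type u) [Field K] [Algebra R K] :
    ∃ (φ : MvPolynomial (Fin n) K →ₐ[K] K ⊗[R] (Synt.RelGCIRing R n c F))
      (r : Fin c → MvPolynomial (Fin n) K),
      Function.Surjective φ ∧ RingHom.ker φ.toRingHom = Ideal.span (Set.range r) := by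
  let I : Ideal (MvPolynomial (Fin n) R) := Ideal.span (Set.range F)
  let g : MvPolynomial (Fin n) R →ₐ[R] Synt.RelGCIRing R n c F := Ideal.Quotient.mkₐ R I
  have hg : Function.Surjective g := Ideal.Quotient.mkₐ_surjective R I
  let e1 : K ⊗[R] MvPolynomial (Fin n) R ≃ₐ[K] MvPolynomial (Fin n) K :=
    MvPolynomial.algebraTensorAlgEquiv R K
  let π : K ⊗[R] MvPolynomial (Fin n) R →ₐ[K] K ⊗[R] Synt.RelGCIRing R n c F :=
    Algebra.TensorProduct.map (AlgHom.id K K) g
  refine ⟨π.comp e1.symm.toAlgHom, fun i => e1 (1 ⊗ₜ F i), ?_, ?_⟩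
  · have hπ : Function.Surjective π := LinearMap.lTensor_surjective K hg
    exact hπ.comp e1.symm.surjective
  · have hkerπ : RingHom.ker π.toRingHom =
        I.map (Algebra.TensorProduct.includeRight : _ →ₐ[R] K ⊗[R] MvPolynomial (Fin n) R) := by
      have h := Algebra.TensorProduct.lTensor_ker (A := K) g hg
      have hkg : RingHom.ker g = I := Ideal.Quotient.mkₐ_ker R I
      rw [hkg] at h
      rw [← h]
      ext x
      rfl
    have h1 : RingHom.ker (π.comp e1.symm.toAlgHom).toRingHom =
        (RingHom.ker π.toRingHom).comap e1.toRingEquiv.symm := by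
      ext x
      rfl
    rw [h1, Ideal.comap_symm, hkerπ]
    show Ideal.map e1.toRingEquiv (Ideal.map Algebra.TensorProduct.includeRight
      (Ideal.span (Set.range F))) = _
    rw [Ideal.map_span, Ideal.map_span, ← Set.range_comp, ← Set.range_comp]
    rfl

end Groth.Agent.H29.RelGCIFibre
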