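import Mathlib

/-!
# Finite Krull dimension of semilocal Noetherian rings (helper29)
-/

set_option autoImplicit false
universe u

namespace Groth.Agent.H29

theorem ringKrullDim_lt_top_of_semilocal (A : Type u) [CommRing A] [IsNoetherianRing A]
    [Finite (MaximalSpectrum A)] : ringKrullDim A < ⊤ := by
  rcases subsingleton_or_nontrivial A with h | h
  · rw [ringKrullDim_eq_bot_of_subsingleton]; exact bot_lt_top
  rw [← Ideal.sup_isMaximal_height_eq_ringKrullDim]
  obtain ⟨N, hN⟩ := Finite.exists_le (fun m : MaximalSpectrum A => m.asIdeal.height.toNat)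
  have hbound : (⨆ (I : Ideal A) (_ : I.IsMaximal), I.height) ≤ (N : ℕ∞) := by
    apply iSup_le; intro I; apply iSup_le; intro hI
    have h1 : I.height ≠ ⊤ := Ideal.height_ne_top hI.ne_top
    have h2 := hN ⟨I, hI⟩
    rw [← ENat.natCast_toNat h1]
    exact_mod_cast h2
  refine lt_of_le_of_lt (WithBot.coe_le_coe.mpr hbound) ?_
  rw [lt_top_iff_ne_top]
  intro h
  have : ((N : ℕ∞) : WithBot ℕ∞) = ((⊤ : ℕ∞) : WithBot ℕ∞) := h
  rw [WithBot.coe_inj] at this
  exact ENat.natCast_ne_top N this

end Groth.Agent.H29
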