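import Mathlib
import Groth.Prelude.Def_CAlg
import Groth.Agent.H29.ABMore
import Groth.Agent.H29.PDLocal
import Groth.Agent.H29.DepthSES
import Groth.Agent.H29.DepthLib
import Groth.Agent.H29.RegGlobalDim

/-!
# Depth of syzygies (helper29)

* `min_le_depth_of_exact` : in an exact sequence `0 → N₀ → N₁ → ⋯ → N_k` with `N₁, …, N_k`
  finite free over a Noetherian local ring, `depth N₀ ≥ min k (depth R)`.
* `free_of_min_le_depth` : over a regular local ring, a finite module of depth `≥ dim` is free.
* `free_localizedModule_of_exact` : `k`-th syzygies over a regular local ring are free in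
  codimension `≤ k`.
-/

set_option autoImplicit false
set_option linter.style.haveILetI false
set_option linter.unusedSectionVars false
universe u

namespace Groth.Agent.H29

open CategoryTheory IsLocalRing

section Local

variable (R : Type u) [CommRing R] [IsLocalRing R] [IsNoetherianRing R]

theorem enat_min_succ_le (a : ℕ) (D : ℕ∞) :
    min (((a + 1 : ℕ) : ℕ∞)) D ≤ min ((a : ℕ) : ℕ∞) D + 1 := by
  rw [← min_add_add_right]
  refine min_le_min ?_ le_self_add
  push_cast
  exact le_rfl

theorem min_le_depth_of_exact (k : ℕ) (N : ℕ → Type u) [∀ i, AddCommGroup (N i)]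
    [∀ i, Module R (N i)] [Module.Finite R (N 0)]
    (hfree : ∀ i, 1 ≤ i → i ≤ k → Module.Free R (N i) ∧ Module.Finite R (N i))
    (d : ∀ i, N i →ₗ[R] N (i + 1)) (hinj : Function.Injective (d 0))
    (hex : ∀ i, i + 1 < k → LinearMap.range (d i) = LinearMap.ker (d (i + 1))) :
    min (k : ℕ∞) (LocCoh.depth R R) ≤ LocCoh.depth R (N 0) := by
  rcases Nat.eq_zero_or_pos k with rfl | hk
  · simp
  have key : ∀ m i : ℕ, i + m + 1 = k →
      min (((m + 1 : ℕ)) : ℕ∞) (LocCoh.depth R R) ≤ LocCoh.depth R (LinearMap.range (d i)) := by
    intro m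
    induction m with
    | zero =>
      intro i hi
      obtain ⟨hfr, hfin⟩ := hfree (i + 1) (by omega) (by omega)
      haveI := hfr
      haveI := hfin
      haveI : IsNoetherian R (N (i + 1)) := isNoetherian_of_isNoetherianRing_of_finite R _
      have h1 := idealDepth_X₁_ge (maximalIdeal R) (LinearMap.range (d i)).subtype
        (LinearMap.range (d i)).mkQ (Submodule.injective_subtype _)
        (Submodule.mkQ_surjective _) (LinearMap.exact_subtype_mkQ _)
      refine le_trans ?_ h1
      refine le_min ?_ ?_
      · exact (min_le_right _ _).trans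
          (idealDepth_le_idealDepth_of_flat (maximalIdeal R) (N (i + 1)))
      · refine (min_le_left _ _).trans ?_
        simp
    | succ m ih =>
      intro i hi
      obtain ⟨hfr, hfin⟩ := hfree (i + 1) (by omega) (by omega)
      haveI := hfr
      haveI := hfin
      haveI : IsNoetherian R (N (i + 1)) := isNoetherian_of_isNoetherianRing_of_finite R _
      obtain ⟨-, hfin2⟩ := hfree (i + 1 + 1) (by omega) (by omega)
      haveI := hfin2
      haveI : IsNoetherian R (N (i + 1 + 1)) := isNoetherian_of_isNoetherianRing_of_finite R _
      have hIH := ih (i + 1) (by omega)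
      rw [hex i (by omega)]
      have hexact : Function.Exact (LinearMap.ker (d (i + 1))).subtype
          (d (i + 1)).rangeRestrict := by
        intro x
        constructor
        · intro hx
          have h0 : d (i + 1) x = 0 := congrArg Subtype.val hx
          exact ⟨⟨x, h0⟩, rfl⟩
        · rintro ⟨y, rfl⟩
          exact Subtype.ext y.2
      have h1 := idealDepth_X₁_ge (maximalIdeal R) (LinearMap.ker (d (i + 1))).subtype
        (d (i + 1)).rangeRestrict (Submodule.injective_subtype _)
        (LinearMap.surjective_rangeRestrict _) hexact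
      refine le_trans ?_ h1
      refine le_min ?_ ?_
      · exact (min_le_right _ _).trans
          (idealDepth_le_idealDepth_of_flat (maximalIdeal R) (N (i + 1)))
      · calc min (((m + 1 + 1 : ℕ)) : ℕ∞) (LocCoh.depth R R)
            ≤ min (((m + 1 : ℕ)) : ℕ∞) (LocCoh.depth R R) + 1 := enat_min_succ_le (m + 1) _
          _ ≤ _ := add_le_add hIH le_rfl
  have h0 := key (k - 1) 0 (by omega)
  have hk' : k - 1 + 1 = k := by omega
  rw [hk'] at h0
  have e : N 0 ≃ₗ[R] LinearMap.range (d 0) := LinearEquiv.ofInjective (d 0) hinj
  rw [show LocCoh.depth R (N 0) = LocCoh.depth R (LinearMap.range (d 0)) from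
    idealDepth_congr _ e]
  exact h0

end Local

section Regular

/-- Over a regular local ring of dimension `n`, a finite module of depth `≥ n` is free. -/
theorem free_of_le_depth (A : Type u) [CommRing A] [IsRegularLocalRing A] (n : ℕ)
    (hn : ringKrullDim A = n) (M : Type u) [AddCommGroup M] [Module A M] [Module.Finite A M]
    (h : (n : ℕ∞) ≤ LocCoh.depth A M) : Module.Free A M := by
  rcases subsingleton_or_nontrivial M with hM | hM
  · exact Module.Free.of_subsingleton A M
  · obtain ⟨e, hen, he1, he2, he3, -⟩ := exists_pd_eq_of_isRegularLocalRing A n hn M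
    obtain ⟨t, ht⟩ := exists_natCast_eq_depth A M
    rw [ht] at he3 h
    have h1 : t + e = n := by exact_mod_cast he3
    have h2 : n ≤ t := by exact_mod_cast h
    obtain rfl : e = 0 := by omega
    rw [zero_add, ← projective_iff_hasProjectiveDimensionLT_one,
      ← IsProjective.iff_projective] at he1
    haveI : Module.Projective A M := he1
    exact Module.free_of_flat_of_isLocalRing

theorem free_localizedModule_of_exact (A : Type u) [CommRing A] [IsRegularLocalRing A]
    (k : ℕ) (N : ℕ → Type u) [∀ i, AddCommGroup (N i)] [∀ i, Module A (N i)]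
    [Module.Finite A (N 0)]
    (hfree : ∀ i, 1 ≤ i → i ≤ k → Module.Free A (N i) ∧ Module.Finite A (N i))
    (d : ∀ i, N i →ₗ[A] N (i + 1)) (hinj : Function.Injective (d 0))
    (hex : ∀ i, i + 1 < k → LinearMap.range (d i) = LinearMap.ker (d (i + 1)))
    (p : Ideal A) [p.IsPrime] (hp : p.height ≤ k) :
    Module.Free (Localization.AtPrime p) (LocalizedModule p.primeCompl (N 0)) := by
  haveI : IsRegularLocalRing (Localization.AtPrime p) :=
    isRegularLocalRing_localization_atPrime A p
  let d' : ∀ i, LocalizedModule p.primeCompl (N i) →ₗ[Localization.AtPrime p]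
      LocalizedModule p.primeCompl (N (i + 1)) := fun i =>
    (IsLocalizedModule.map p.primeCompl (LocalizedModule.mkLinearMap p.primeCompl (N i))
      (LocalizedModule.mkLinearMap p.primeCompl (N (i + 1))) (d i)).extendScalarsOfIsLocalization
        p.primeCompl (Localization.AtPrime p)
  have hfree' : ∀ i, 1 ≤ i → i ≤ k →
      Module.Free (Localization.AtPrime p) (LocalizedModule p.primeCompl (N i)) ∧
        Module.Finite (Localization.AtPrime p) (LocalizedModule p.primeCompl (N i)) := by
    intro i h1 h2
    obtain ⟨hfr, hfin⟩ := hfree i h1 h2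
    haveI := hfr
    haveI := hfin
    exact ⟨Module.free_of_isLocalizedModule p.primeCompl
      (LocalizedModule.mkLinearMap p.primeCompl (N i)), inferInstance⟩
  have hinj' : Function.Injective (d' 0) :=
    IsLocalizedModule.map_injective p.primeCompl _ _ (d 0) hinj
  have hex' : ∀ i, i + 1 < k → LinearMap.range (d' i) = LinearMap.ker (d' (i + 1)) := by
    intro i hi
    have hE : Function.Exact (d i) (d (i + 1)) := by
      rw [LinearMap.exact_iff]
      exact (hex i hi).symm
    have hE' := IsLocalizedModule.map_exact p.primeCompl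
      (LocalizedModule.mkLinearMap p.primeCompl (N i))
      (LocalizedModule.mkLinearMap p.primeCompl (N (i + 1)))
      (LocalizedModule.mkLinearMap p.primeCompl (N (i + 1 + 1))) (d i) (d (i + 1)) hE
    ext x
    rw [LinearMap.mem_ker]
    exact ((hE' x).symm : _)
  have hmain := min_le_depth_of_exact (Localization.AtPrime p) k
    (fun i => LocalizedModule p.primeCompl (N i)) hfree' d' hinj' hex'
  rw [depth_self_eq_height_of_isRegularLocalRing, min_eq_right hp] at hmain
  have hfin : p.height ≠ ⊤ := Ideal.height_ne_top (Ideal.IsPrime.ne_top ‹_›)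
  obtain ⟨n, hn⟩ := ENat.ne_top_iff_exists.mp hfin
  have hdim : ringKrullDim (Localization.AtPrime p) = n := by
    rw [IsLocalization.AtPrime.ringKrullDim_eq_height p (Localization.AtPrime p), ← hn]
    rfl
  rw [← hn] at hmain
  exact free_of_le_depth (Localization.AtPrime p) n hdim _ hmain

end Regular

end Groth.Agent.H29
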