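import Mathlib

/-!
# Tensoring a jointly injective family with a projective module (helper29)
-/

set_option autoImplicit false

namespace Groth.Agent.H29

open TensorProduct

variable {R : Type*} [CommRing R]

theorem finsuppScalarLeft_lTensor {ι : Type*} [DecidableEq ι] {N N' : Type*} [AddCommGroup N]
    [Module R N] [AddCommGroup N'] [Module R N'] (g : N →ₗ[R] N') (z : (ι →₀ R) ⊗[R] N) (j : ι) :
    TensorProduct.finsuppScalarLeft R N' ι (g.lTensor (ι →₀ R) z) j =
      g (TensorProduct.finsuppScalarLeft R N ι z j) := by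
  induction z using TensorProduct.induction_on with
  | zero => simp
  | tmul f n => simp [TensorProduct.finsuppScalarLeft_apply_tmul_apply]
  | add x y hx hy => simp [hx, hy]

theorem lTensor_jointly_injective_free {ι : Type*} {N : Type*} [AddCommGroup N] [Module R N]
    {κ : Type*} {T : κ → Type*} [∀ i, AddCommGroup (T i)] [∀ i, Module R (T i)]
    (g : ∀ i, N →ₗ[R] T i) (hg : ∀ n : N, (∀ i, g i n = 0) → n = 0)
    (z : (ι →₀ R) ⊗[R] N) (hz : ∀ i, (g i).lTensor (ι →₀ R) z = 0) : z = 0 := by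
  classical
  apply (TensorProduct.finsuppScalarLeft R N ι).injective
  rw [map_zero]
  ext j
  apply hg
  intro i
  rw [← finsuppScalarLeft_lTensor, hz i, map_zero]
  rfl

theorem lTensor_jointly_injective_projective (M : Type*) [AddCommGroup M] [Module R M]
    [Module.Projective R M] {N : Type*} [AddCommGroup N] [Module R N]
    {κ : Type*} {T : κ → Type*} [∀ i, AddCommGroup (T i)] [∀ i, Module R (T i)]
    (g : ∀ i, N →ₗ[R] T i) (hg : ∀ n : N, (∀ i, g i n = 0) → n = 0)
    (z : M ⊗[R] N) (hz : ∀ i, (g i).lTensor M z = 0) : z = 0 := by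
  obtain ⟨s, hs⟩ := (Module.projective_def' (R := R) (P := M)).mp inferInstance
  have h1 : (s.rTensor N) z = 0 := by
    apply lTensor_jointly_injective_free g hg
    intro i
    rw [← LinearMap.comp_apply, LinearMap.lTensor_comp_rTensor, ← LinearMap.rTensor_comp_lTensor,
      LinearMap.comp_apply, hz i, map_zero]
  have h2 : (Finsupp.linearCombination R id).rTensor N (s.rTensor N z) = z := by
    rw [← LinearMap.comp_apply, ← LinearMap.rTensor_comp, hs, LinearMap.rTensor_id]
    rfl
  rw [← h2, h1, map_zero]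

section Limit

variable {T : ℕ → Type*} [∀ i, AddCommGroup (T i)] [∀ i, Module R (T i)]
  (Fr : ∀ i, T (i + 1) →ₗ[R] T i) {N : Type*} [AddCommGroup N] [Module R N]
  (g : ∀ i, N →ₗ[R] T i)

theorem exists_lTensor_eq_of_compatible_free {ι : Type*} [Fintype ι]
    (hlim : ∀ t : ∀ i, T i, (∀ i, Fr i (t (i + 1)) = t i) → ∃ n : N, ∀ i, g i n = t i)
    (y : ∀ i, (ι →₀ R) ⊗[R] T i)
    (hy : ∀ i, (Fr i).lTensor (ι →₀ R) (y (i + 1)) = y i) :
    ∃ z : (ι →₀ R) ⊗[R] N, ∀ i, (g i).lTensor (ι →₀ R) z = y i := by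
  classical
  have hex : ∀ j : ι, ∃ n : N, ∀ i, g i n = TensorProduct.finsuppScalarLeft R (T i) ι (y i) j := by
    intro j
    apply hlim
    intro i
    rw [← finsuppScalarLeft_lTensor, hy i]
  choose n hn using hex
  refine ⟨∑ j, (Finsupp.single j (1 : R)) ⊗ₜ[R] n j, fun i => ?_⟩
  apply (TensorProduct.finsuppScalarLeft R (T i) ι).injective
  ext j'
  rw [finsuppScalarLeft_lTensor, ← hn j' i]
  congr 1
  rw [map_sum, Finsupp.finsetSum_apply]
  simp only [TensorProduct.finsuppScalarLeft_apply_tmul_apply, Finsupp.single_apply, ite_smul,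
    one_smul, zero_smul]
  rw [Finset.sum_ite_eq' Finset.univ j' n]
  simp

theorem exists_lTensor_eq_of_compatible (M : Type*) [AddCommGroup M] [Module R M]
    [Module.Finite R M] [Module.Projective R M]
    (hlim : ∀ t : ∀ i, T i, (∀ i, Fr i (t (i + 1)) = t i) → ∃ n : N, ∀ i, g i n = t i)
    (y : ∀ i, M ⊗[R] T i) (hy : ∀ i, (Fr i).lTensor M (y (i + 1)) = y i) :
    ∃ z : M ⊗[R] N, ∀ i, (g i).lTensor M z = y i := by
  classical
  obtain ⟨k, π0, hπ0⟩ := Module.Finite.exists_fin' R M
  let π : (Fin k →₀ R) →ₗ[R] M := π0 ∘ₗ (Finsupp.linearEquivFunOnFinite R R (Fin k)).toLinearMap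
  have hπ : Function.Surjective π := hπ0.comp (Finsupp.linearEquivFunOnFinite R R (Fin k)).surjective
  obtain ⟨s, hs⟩ := Module.projective_lifting_property π LinearMap.id hπ
  obtain ⟨z', hz'⟩ := exists_lTensor_eq_of_compatible_free Fr g hlim
    (fun i => s.rTensor (T i) (y i)) (by
      intro i
      rw [← LinearMap.comp_apply, LinearMap.lTensor_comp_rTensor, ← LinearMap.rTensor_comp_lTensor,
        LinearMap.comp_apply, hy i])
  refine ⟨π.rTensor N z', fun i => ?_⟩
  rw [← LinearMap.comp_apply, LinearMap.lTensor_comp_rTensor, ← LinearMap.rTensor_comp_lTensor,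
    LinearMap.comp_apply, hz' i, ← LinearMap.comp_apply, ← LinearMap.rTensor_comp, hs,
    LinearMap.rTensor_id]
  rfl

end Limit

end Groth.Agent.H29
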