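import Groth.Prelude.Def_Flat
import Mathlib

set_option autoImplicit false
universe u
open TopologicalSpace Topology

namespace Groth.Agent.H29

/-- coheight of an irreducible closed `Z` of `X` meeting an open `U` is at most `dim U`. -/
theorem coheight_le_topologicalKrullDim_of_mem_open {X : Type*} [TopologicalSpace X]
    (Z : IrreducibleCloseds X) (U : Opens X) {x : X} (hxZ : x ∈ Z) (hxU : x ∈ U) :
    (Order.coheight Z : WithBot ℕ∞) ≤ topologicalKrullDim (U : Set X) := by
  let f : ↥(U : Set X) → X := Subtype.val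
  have hf : IsOpenEmbedding f := U.isOpen.isOpenEmbedding_subtypeVal
  let Z' := (IrreducibleCloseds.orderIsoOfIsOpenEmbedding f hf).symm ⟨Z, ⟨⟨x, hxU⟩, hxZ⟩⟩
  have h1 : IrreducibleCloseds.map f hf.continuous Z' = Z :=
    congrArg Subtype.val ((IrreducibleCloseds.orderIsoOfIsOpenEmbedding f hf).apply_symm_apply _)
  rw [← h1, hf.coheight_map]
  exact Order.coheight_le_krullDim _

theorem topologicalKrullDim_eq_iSup_of_open_cover' (X : Type u) [TopologicalSpace X] (ι : Type*)
    (U : ι → TopologicalSpace.Opens X) (hcov : ⨆ i, U i = ⊤) :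
    topologicalKrullDim X = ⨆ i, topologicalKrullDim (U i) := by
  apply le_antisymm
  · rw [topologicalKrullDim, Order.krullDim_eq_iSup_coheight]
    apply iSup_le
    intro Z
    obtain ⟨x, hx⟩ := Z.isIrreducible.nonempty
    obtain ⟨i, hi⟩ : ∃ i, x ∈ U i := Opens.mem_iSup.mp (hcov ▸ (trivial : x ∈ (⊤ : Opens X)))
    exact le_iSup_of_le i (coheight_le_topologicalKrullDim_of_mem_open Z (U i) hx hi)
  · exact iSup_le fun i => topologicalKrullDim_subspace_le X _

theorem localDim_le_topologicalKrullDim (X : Type u) [TopologicalSpace X] (x : X) :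
    FlatMor.localDim X x ≤ topologicalKrullDim X :=
  iInf_le_of_le ⟨⊤, trivial⟩ (topologicalKrullDim_subspace_le X _)

theorem topologicalKrullDim_eq_iSup_localDim' (X : Type u) [TopologicalSpace X] :
    topologicalKrullDim X = ⨆ x : X, FlatMor.localDim X x := by
  apply le_antisymm
  · rw [topologicalKrullDim, Order.krullDim_eq_iSup_coheight]
    apply iSup_le
    intro Z
    obtain ⟨x, hx⟩ := Z.isIrreducible.nonempty
    refine le_iSup_of_le x (le_iInf fun U => ?_)
    exact coheight_le_topologicalKrullDim_of_mem_open Z U.1 hx U.2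
  · exact iSup_le fun x => localDim_le_topologicalKrullDim X x

theorem upperSemicontinuous_localDim' (X : Type u) [TopologicalSpace X] :
    UpperSemicontinuous fun x : X => FlatMor.localDim X x := by
  intro x y hy
  obtain ⟨U, hU⟩ := iInf_lt_iff.mp hy
  filter_upwards [U.1.isOpen.mem_nhds U.2] with x' hx'
  exact lt_of_le_of_lt (iInf_le _ ⟨U.1, hx'⟩) hU

theorem isPreirreducible_preimage_of_isInducing {X Y : Type*} [TopologicalSpace X] [TopologicalSpace Y]
    {f : Y → X} (hf : IsInducing f) {t : Set X} (ht : IsPreirreducible t) (htr : t ⊆ Set.range f) :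
    IsPreirreducible (f ⁻¹' t) := by
  intro u' v' hu' hv' ⟨y1, hy1t, hy1u⟩ ⟨y2, hy2t, hy2v⟩
  obtain ⟨u, hu, rfl⟩ := hf.isOpen_iff.mp hu'
  obtain ⟨v, hv, rfl⟩ := hf.isOpen_iff.mp hv'
  obtain ⟨x, hxt, hxu, hxv⟩ := ht u v hu hv ⟨f y1, hy1t, hy1u⟩ ⟨f y2, hy2t, hy2v⟩
  obtain ⟨y, rfl⟩ := htr hxt
  exact ⟨y, hxt, hxu, hxv⟩

/-- For a closed embedding, `IrreducibleCloseds.map` preserves heights. -/
theorem height_map_of_isClosedEmbedding {X Y : Type*} [TopologicalSpace X] [TopologicalSpace Y]
    {f : Y → X} (hf : IsClosedEmbedding f) (Z : IrreducibleCloseds Y) :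
    Order.height (IrreducibleCloseds.map f hf.continuous Z) = Order.height Z := by
  symm
  apply Order.height_eq_of_strictMono _ (IrreducibleCloseds.map_strictMono_of_isInducing hf.isInducing)
  intro a b hb
  have hba : (b : Set X) ⊆ f '' a := by
    have := hb.le
    have h2 : (IrreducibleCloseds.map f hf.continuous a : Set X) = f '' a := by
      rw [IrreducibleCloseds.coe_map, (hf.isClosedMap _ a.isClosed).closure_eq]
    intro x hx
    exact h2 ▸ (this hx)
  have hbr : (b : Set X) ⊆ Set.range f := hba.trans (Set.image_subset_range _ _)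
  let a' : IrreducibleCloseds Y :=
    { carrier := f ⁻¹' b
      isIrreducible' := by
        refine ⟨?_, isPreirreducible_preimage_of_isInducing hf.isInducing b.isIrreducible.isPreirreducible hbr⟩
        obtain ⟨x, hx⟩ := b.isIrreducible.nonempty
        obtain ⟨y, rfl⟩ := hbr hx
        exact ⟨y, hx⟩
      isClosed' := b.isClosed.preimage hf.continuous }
  have hmap : IrreducibleCloseds.map f hf.continuous a' = b := by
    apply IrreducibleCloseds.ext
    rw [IrreducibleCloseds.coe_map]
    change closure (f '' (f ⁻¹' (b : Set X))) = b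
    rw [Set.image_preimage_eq_of_subset hbr, b.isClosed.closure_eq]
  refine ⟨a', lt_of_le_of_ne ?_ ?_, hmap⟩
  · intro y hy
    obtain ⟨y', hy', hyy'⟩ := hba (show f y ∈ (b : Set X) from hy)
    rw [← hf.injective hyy']
    exact hy'
  · intro h
    rw [h] at hmap
    exact hb.ne hmap.symm

theorem height_le_topologicalKrullDim_of_subset_closed {X : Type*} [TopologicalSpace X]
    (Z : IrreducibleCloseds X) (Y : Set X) (hY : IsClosed Y) (hZY : (Z : Set X) ⊆ Y) :
    (Order.height Z : WithBot ℕ∞) ≤ topologicalKrullDim Y := by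
  have hf : IsClosedEmbedding (Subtype.val : Y → X) := hY.isClosedEmbedding_subtypeVal
  let Z' : IrreducibleCloseds Y :=
    { carrier := Subtype.val ⁻¹' (Z : Set X)
      isIrreducible' := by
        have hr : (Z : Set X) ⊆ Set.range (Subtype.val : Y → X) := by simpa using hZY
        refine ⟨?_, isPreirreducible_preimage_of_isInducing hf.isInducing Z.isIrreducible.isPreirreducible hr⟩
        obtain ⟨x, hx⟩ := Z.isIrreducible.nonempty
        exact ⟨⟨x, hZY hx⟩, hx⟩
      isClosed' := Z.isClosed.preimage continuous_subtype_val }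
  have hmap : IrreducibleCloseds.map _ hf.continuous Z' = Z := by
    apply IrreducibleCloseds.ext
    rw [IrreducibleCloseds.coe_map]
    change closure (Subtype.val '' (Subtype.val ⁻¹' (Z : Set X))) = Z
    rw [Subtype.image_preimage_coe, Set.inter_eq_right.mpr hZY, Z.isClosed.closure_eq]
  rw [← hmap, height_map_of_isClosedEmbedding hf]
  exact Order.height_le_krullDim _

theorem exists_subset_of_locallyFinite_closed_cover {X : Type*} [TopologicalSpace X] {ι : Type*}
    (Y : ι → Set X) (hY : ∀ i, IsClosed (Y i)) (hlf : LocallyFinite Y) (hcov : ⋃ i, Y i = Set.univ)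
    (Z : Set X) (hZ : IsIrreducible Z) (hZc : IsClosed Z) : ∃ i, Z ⊆ Y i := by
  obtain ⟨x, hx⟩ := hZ.nonempty
  obtain ⟨V, hV, hfin⟩ := hlf x
  obtain ⟨W, hWV, hWo, hxW⟩ := mem_nhds_iff.mp hV
  -- Z ∩ W is irreducible, covered by finitely many closed sets
  have hfin' : {i | (Y i ∩ W).Nonempty}.Finite :=
    hfin.subset fun i ⟨y, hy1, hy2⟩ => ⟨y, hy1, hWV hy2⟩
  have hZW : IsIrreducible (Z ∩ W) := by
    refine ⟨⟨x, hx, hxW⟩, ?_⟩
    intro u v hu hv ⟨y1, ⟨hy1Z, hy1W⟩, hy1u⟩ ⟨y2, ⟨hy2Z, hy2W⟩, hy2v⟩
    obtain ⟨z, hzZ, ⟨hzu, hzW⟩, hzv, -⟩ := hZ.isPreirreducible (u ∩ W) (v ∩ W) (hu.inter hWo) (hv.inter hWo)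
      ⟨y1, hy1Z, hy1u, hy1W⟩ ⟨y2, hy2Z, hy2v, hy2W⟩
    exact ⟨z, ⟨hzZ, hzW⟩, hzu, hzv⟩
  classical
  have hcovZW : Z ∩ W ⊆ ⋃₀ ((hfin'.toFinset.image Y : Finset (Set X)) : Set (Set X)) := by
    intro z hz
    have : z ∈ ⋃ i, Y i := hcov ▸ Set.mem_univ z
    obtain ⟨i, hi⟩ := Set.mem_iUnion.mp this
    refine Set.mem_sUnion.mpr ⟨Y i, ?_, hi⟩
    simp only [Finset.coe_image, Set.Finite.coe_toFinset, Set.mem_image, Set.mem_ofPred_eq]
    exact ⟨i, ⟨z, hi, hz.2⟩, rfl⟩
  obtain ⟨S, hS, hZS⟩ := isIrreducible_iff_sUnion_isClosed.mp hZW (hfin'.toFinset.image Y)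
    (by intro z hz; simp only [Finset.mem_image] at hz; obtain ⟨i, -, rfl⟩ := hz; exact hY i) hcovZW
  simp only [Finset.mem_image] at hS
  obtain ⟨i, -, rfl⟩ := hS
  refine ⟨i, ?_⟩
  have hcl : Z ⊆ closure (Z ∩ W) :=
    subset_closure_inter_of_isPreirreducible_of_isOpen hZ.isPreirreducible hWo ⟨x, hx, hxW⟩
  exact hcl.trans (closure_minimal hZS (hY i))

theorem topologicalKrullDim_eq_iSup_of_locallyFinite_closed_cover' (X : Type*) [TopologicalSpace X]
    (ι : Type*) (Y : ι → Set X) (hY : ∀ i, IsClosed (Y i)) (hlf : LocallyFinite Y) (hcov : ⋃ i, Y i = Set.univ) :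
    topologicalKrullDim X = ⨆ i, topologicalKrullDim (Y i) := by
  apply le_antisymm
  · rw [topologicalKrullDim, Order.krullDim_eq_iSup_height]
    apply iSup_le
    intro Z
    obtain ⟨i, hi⟩ := exists_subset_of_locallyFinite_closed_cover Y hY hlf hcov Z Z.isIrreducible Z.isClosed
    exact le_iSup_of_le i (height_le_topologicalKrullDim_of_subset_closed Z (Y i) (hY i) hi)
  · exact iSup_le fun i => topologicalKrullDim_subspace_le X _

/-- In a T0 space of dimension ≤ 0, every irreducible closed set is a singleton. -/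
theorem subsingleton_of_irreducibleCloseds_of_dim_le_zero {X : Type*} [TopologicalSpace X] [T0Space X]
    (h : topologicalKrullDim X ≤ 0) (Z : IrreducibleCloseds X) : (Z : Set X).Subsingleton := by
  have hmin := Order.krullDim_nonpos_iff_forall_isMin.mp h
  have key : ∀ z ∈ (Z : Set X), closure {z} = (Z : Set X) := by
    intro z hz
    let W : IrreducibleCloseds X := ⟨closure {z}, isIrreducible_singleton.closure, isClosed_closure⟩
    have hWZ : W ≤ Z := closure_minimal (Set.singleton_subset_iff.mpr hz) Z.isClosed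
    have := hmin Z hWZ
    exact le_antisymm hWZ this
  intro a ha b hb
  have : closure ({a} : Set X) = closure {b} := (key a ha).trans (key b hb).symm
  exact (inseparable_iff_closure_eq.mpr this).eq

theorem finite_discrete_of_dim_le_zero (X : Type*) [TopologicalSpace X]
    [NoetherianSpace X] [T0Space X] (h : topologicalKrullDim X ≤ 0) :
    Finite X ∧ DiscreteTopology X := by
  have hfin : (irreducibleComponents X).Finite := NoetherianSpace.finite_irreducibleComponents
  have hsub : ∀ s ∈ irreducibleComponents X, s.Subsingleton := by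
    intro s hs
    have hs' := hs
    rw [irreducibleComponents_eq_maximals_closed] at hs'
    exact subsingleton_of_irreducibleCloseds_of_dim_le_zero h ⟨s, hs'.1.2, hs'.1.1⟩
  have huniv : (Set.univ : Set X) = ⋃₀ irreducibleComponents X := sUnion_irreducibleComponents.symm
  have hfinX : (Set.univ : Set X).Finite := by
    rw [huniv]
    exact hfin.sUnion fun s hs => (hsub s hs).finite
  have hF : Finite X := Set.finite_univ_iff.mp hfinX
  refine ⟨hF, ?_⟩
  -- every singleton is closed
  have hcl : ∀ x : X, IsClosed ({x} : Set X) := by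
    intro x
    have hs := irreducibleComponent_mem_irreducibleComponents x
    have : irreducibleComponent x = {x} :=
      ((hsub _ hs).eq_singleton_of_mem mem_irreducibleComponent)
    rw [← this]
    exact isClosed_irreducibleComponent
  have : T1Space X := ⟨hcl⟩
  infer_instance

theorem dim_eq_zero_iff_finite_discrete (X : Type*) [TopologicalSpace X]
    [NoetherianSpace X] [T0Space X] [Nonempty X] :
    topologicalKrullDim X = 0 ↔ Finite X ∧ DiscreteTopology X := by
  constructor
  · intro h
    exact finite_discrete_of_dim_le_zero X h.le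
  · rintro ⟨-, hd⟩
    apply le_antisymm (topologicalKrullDim_zero_of_discreteTopology X)
    have : Nonempty (IrreducibleCloseds X) := by
      obtain ⟨x⟩ := ‹Nonempty X›
      exact ⟨⟨closure {x}, isIrreducible_singleton.closure, isClosed_closure⟩⟩
    exact Order.krullDim_nonneg

theorem withBotENat_le_zero_of_lt_one {a : WithBot ℕ∞} (h : a < 1) : a ≤ 0 := by
  induction a with
  | bot => exact bot_le
  | coe n =>
    have h' : n < 1 := by exact_mod_cast h
    have : n = 0 := Order.lt_one_iff.mp h'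
    rw [this]; rfl

theorem topologicalKrullDim_nonneg_of_nonempty (X : Type*) [TopologicalSpace X] [Nonempty X] :
    0 ≤ topologicalKrullDim X := by
  have : Nonempty (IrreducibleCloseds X) := by
    obtain ⟨x⟩ := ‹Nonempty X›
    exact ⟨⟨closure {x}, isIrreducible_singleton.closure, isClosed_closure⟩⟩
  exact Order.krullDim_nonneg

theorem isOpen_singleton_iff_localDim_eq_zero' (X : Type u) [TopologicalSpace X]
    [NoetherianSpace X] [T0Space X] (x : X) :
    IsOpen ({x} : Set X) ↔ FlatMor.localDim X x = 0 := by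
  constructor
  · intro h
    apply le_antisymm
    · refine iInf_le_of_le ⟨⟨{x}, h⟩, rfl⟩ ?_
      have : DiscreteTopology (({x} : Set X)) := inferInstance
      exact topologicalKrullDim_zero_of_discreteTopology _
    · refine le_iInf fun U => ?_
      have : Nonempty (U.1 : Set X) := ⟨⟨x, U.2⟩⟩
      exact topologicalKrullDim_nonneg_of_nonempty _
  · intro h
    have h1 : FlatMor.localDim X x < 1 := by rw [h]; exact zero_lt_one
    obtain ⟨U, hU⟩ := iInf_lt_iff.mp h1
    have hU0 := withBotENat_le_zero_of_lt_one hU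
    have : NoetherianSpace (U.1 : Set X) := inferInstance
    obtain ⟨-, hd⟩ := finite_discrete_of_dim_le_zero (U.1 : Set X) hU0
    have ho : IsOpen ({⟨x, U.2⟩} : Set (U.1 : Set X)) := isOpen_discrete _
    have := U.1.isOpen.isOpenEmbedding_subtypeVal.isOpenMap _ ho
    simpa using this

theorem topologicalKrullDim_eq_iSup_localDim_closedPoints' (X : Type u) [TopologicalSpace X]
    [NoetherianSpace X] [T0Space X] :
    topologicalKrullDim X = ⨆ x ∈ {x : X | IsClosed ({x} : Set X)}, FlatMor.localDim X x := by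
  apply le_antisymm
  · rw [topologicalKrullDim, Order.krullDim_eq_iSup_coheight]
    apply iSup_le
    intro Z
    obtain ⟨x, hxZ, hx⟩ := Z.isClosed.exists_closed_singleton Z.isIrreducible.nonempty
    refine le_iSup₂_of_le x hx (le_iInf fun U => ?_)
    exact coheight_le_topologicalKrullDim_of_mem_open Z U.1 hxZ U.2
  · exact iSup₂_le fun x _ => localDim_le_topologicalKrullDim X x

/-- dimension is monotone for subsets, phrased via a map commuting with inclusions -/
theorem topologicalKrullDim_le_of_val_comp {X A B : Type*} [TopologicalSpace X] [TopologicalSpace A]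
    [TopologicalSpace B] (a : A → X) (b : B → X) (ha : IsInducing a) (hb : IsInducing b)
    (f : A → B) (hf : b ∘ f = a) : topologicalKrullDim A ≤ topologicalKrullDim B := by
  have hfc : Continuous f := by
    rw [hb.continuous_iff, hf]; exact ha.continuous
  have : IsInducing f := IsInducing.of_comp hfc hb.continuous (hf ▸ ha)
  exact this.topologicalKrullDim_le

theorem localDim_subtype_le {X : Type*} [TopologicalSpace X] (Y : Set X) (x : X) (hx : x ∈ Y) :
    FlatMor.localDim Y ⟨x, hx⟩ ≤ FlatMor.localDim X x := by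
  refine le_iInf fun U => ?_
  let U' : Opens Y := ⟨Subtype.val ⁻¹' (U.1 : Set X), U.1.isOpen.preimage continuous_subtype_val⟩
  refine iInf_le_of_le ⟨U', U.2⟩ ?_
  exact topologicalKrullDim_le_of_val_comp (X := X) (A := (U' : Set Y)) (B := (U.1 : Set X))
    (fun y => y.1.1) Subtype.val
    (IsInducing.subtypeVal.comp IsInducing.subtypeVal) IsInducing.subtypeVal
    (fun y => ⟨y.1.1, y.2⟩) rfl

theorem localDim_eq_iSup_localDim_of_finite_closed_cover' (X : Type u) [TopologicalSpace X] (x : X)
    (ι : Type*) [Finite ι] (Y : ι → Set X) (hY : ∀ i, IsClosed (Y i)) (hx : ∀ i, x ∈ Y i)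
    (hcov : ⋃ i, Y i = Set.univ) :
    FlatMor.localDim X x = ⨆ i, FlatMor.localDim (Y i) ⟨x, hx i⟩ := by
  apply le_antisymm
  · -- choose optimal neighbourhoods
    have hch : ∀ i, ∃ U' : {U' : Opens (Y i) // (⟨x, hx i⟩ : Y i) ∈ U'},
        topologicalKrullDim (U'.1 : Set (Y i)) = FlatMor.localDim (Y i) ⟨x, hx i⟩ := by
      intro i
      have : Nonempty {U' : Opens (Y i) // (⟨x, hx i⟩ : Y i) ∈ U'} := ⟨⟨⊤, trivial⟩⟩
      exact ciInf_mem (fun U' : {U' : Opens (Y i) // (⟨x, hx i⟩ : Y i) ∈ U'} =>
        topologicalKrullDim (U'.1 : Set (Y i)))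
    choose U' hU' using hch
    have hV : ∀ i, ∃ V : Set X, IsOpen V ∧ Subtype.val ⁻¹' V = ((U' i).1 : Set (Y i)) := fun i =>
      isOpen_induced_iff.mp (U' i).1.isOpen
    choose V hVo hVeq using hV
    have hxV : ∀ i, x ∈ V i := by
      intro i
      have : (⟨x, hx i⟩ : Y i) ∈ Subtype.val ⁻¹' V i := by rw [hVeq i]; exact (U' i).2
      exact this
    cases nonempty_fintype ι
    let W : Opens X := ⟨⋂ i, V i, isOpen_iInter_of_finite hVo⟩
    have hxW : x ∈ W := Set.mem_iInter.mpr hxV
    refine le_trans (iInf_le _ ⟨W, hxW⟩) ?_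
    -- closed cover of W
    let Z : ι → Set (W : Set X) := fun i => Subtype.val ⁻¹' (Y i)
    have hZc : ∀ i, IsClosed (Z i) := fun i => (hY i).preimage continuous_subtype_val
    have hZcov : ⋃ i, Z i = Set.univ := by
      ext w
      simp only [Set.mem_iUnion, Set.mem_univ, iff_true]
      have : w.1 ∈ ⋃ i, Y i := hcov ▸ Set.mem_univ _
      obtain ⟨i, hi⟩ := Set.mem_iUnion.mp this
      exact ⟨i, hi⟩
    rw [topologicalKrullDim_eq_iSup_of_locallyFinite_closed_cover' (W : Set X) ι Z hZc
      (locallyFinite_of_finite Z) hZcov]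
    apply iSup_le
    intro i
    refine le_iSup_of_le i ?_
    rw [← hU' i]
    have hmem : ∀ w : Z i, (⟨w.1.1, w.2⟩ : Y i) ∈ ((U' i).1 : Set (Y i)) := by
      intro w
      rw [← hVeq i]
      exact Set.mem_iInter.mp w.1.2 i
    exact topologicalKrullDim_le_of_val_comp (X := X) (A := Z i) (B := ((U' i).1 : Set (Y i)))
      (fun w => w.1.1) (fun y => y.1.1)
      (IsInducing.subtypeVal.comp IsInducing.subtypeVal)
      (IsInducing.subtypeVal.comp IsInducing.subtypeVal)
      (fun w => ⟨⟨w.1.1, w.2⟩, hmem w⟩) rfl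
  · exact iSup_le fun i => localDim_subtype_le (Y i) x (hx i)

end Groth.Agent.H29
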