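import Mathlib
import Groth.Prelude.Def_CAlg
import Groth.Agent.H29.DepthLocal
import Groth.Agent.H29.Gorenstein

/-!
# Unmixedness of Cohen–Macaulay rings (helper29)

* `mem_minimalPrimes_of_mem_associatedPrimes_of_CM` : in a Noetherian ring all of whose local
  rings are CM, the associated primes of the ring are minimal primes.
* `mem_minimalPrimes_of_mem_associatedPrimes_quotient` : same for `Ass_R (R ⧸ 𝔠)` when `R ⧸ 𝔠`
  is (locally) CM.
* `cm_of_gorensteinRing` : local rings of a Gorenstein ring are CM.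
-/

set_option autoImplicit false
set_option linter.style.haveILetI false
universe u

namespace Groth.Agent.H29

theorem mem_minimalPrimes_of_mem_associatedPrimes_of_CM (B : Type u) [CommRing B]
    [IsNoetherianRing B]
    (hCM : ∀ (P : Ideal B) [P.IsPrime], LocCoh.IsCohenMacaulayLocalRing (Localization.AtPrime P))
    (P : Ideal B) (hP : P ∈ associatedPrimes B B) : P ∈ minimalPrimes B := by
  haveI : P.IsPrime := IsAssociatedPrime.isPrime hP
  have h0 := depth_localizedModule_eq_zero_of_mem_associatedPrimes B B P hP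
  rw [depth_localizedModule_self,
    depth_localization_eq_height_of_isCohenMacaulayLocalRing B P (hCM P)] at h0
  exact Ideal.height_eq_zero_iff.mp h0

theorem mem_minimalPrimes_of_mem_associatedPrimes_quotient (R : Type u) [CommRing R]
    [IsNoetherianRing R] (𝔠 : Ideal R)
    (hCM : ∀ (P : Ideal (R ⧸ 𝔠)) [P.IsPrime],
      LocCoh.IsCohenMacaulayLocalRing (Localization.AtPrime P))
    (p : Ideal R) (hp : p ∈ associatedPrimes R (R ⧸ 𝔠)) : p ∈ 𝔠.minimalPrimes := by
  obtain ⟨hprime, b, hb⟩ := isAssociatedPrime_iff.mp hp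
  have hsurj : Function.Surjective (Ideal.Quotient.mk 𝔠) := Ideal.Quotient.mk_surjective
  set P : Ideal (R ⧸ 𝔠) := (⊥ : Submodule (R ⧸ 𝔠) (R ⧸ 𝔠)).colon {b} with hPdef
  have hcomap : P.comap (Ideal.Quotient.mk 𝔠) = p := by
    ext r
    rw [Ideal.mem_comap, hPdef, Submodule.mem_colon_singleton, hb, Submodule.mem_colon_singleton,
      Submodule.mem_bot, Submodule.mem_bot]
    rfl
  have hker : RingHom.ker (Ideal.Quotient.mk 𝔠) ≤ p := by
    rw [← hcomap]
    exact Ideal.comap_mono bot_le
  have hPmap : P = p.map (Ideal.Quotient.mk 𝔠) := by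
    rw [← hcomap, Ideal.map_comap_of_surjective _ hsurj]
  haveI hPprime : P.IsPrime := by
    rw [hPmap]
    exact Ideal.map_isPrime_of_surjective hsurj hker
  have hPass : P ∈ associatedPrimes (R ⧸ 𝔠) (R ⧸ 𝔠) :=
    isAssociatedPrime_iff.mpr ⟨hPprime, b, rfl⟩
  have hPmin := mem_minimalPrimes_of_mem_associatedPrimes_of_CM (R ⧸ 𝔠) hCM P hPass
  rw [Ideal.minimalPrimes_eq_comap]
  exact ⟨P, hPmin, hcomap⟩

theorem cm_of_gorensteinRing (B : Type u) [CommRing B] [hG : LocCoh.IsGorensteinRing B]
    (P : Ideal B) [P.IsPrime] : LocCoh.IsCohenMacaulayLocalRing (Localization.AtPrime P) := by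
  haveI := hG.isGorensteinLocalRing_localization P
  exact isCohenMacaulayLocalRing_of_gorenstein _

end Groth.Agent.H29
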