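import Mathlib
import Groth.Prelude.Def_CAlg
import Groth.Agent.H29.ABFormula
import Groth.Agent.H29.PDLocal
import Groth.Agent.H29.QuotRegPD
import Groth.Agent.H29.DepthLocal

/-!
# Vasconcelos' lemma, part 1 (helper29)

* `not_le_of_mem_associatedPrimes` : an ideal of finite projective dimension whose conormal module
  contains a copy of `R/I` is not contained in any associated prime of `R`.
* `exists_regular_generator` : prime avoidance producing a nonzerodivisor `u t + i₂`.
* `exists_coord` : the coordinate functional `I → R/I`.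
* `hasProjectiveDimensionLT_map_quotient` : `pd_{R/x} (I/(x)) ≤ pd_R I`.
-/

set_option autoImplicit false
set_option linter.style.haveILetI false
set_option linter.unusedSectionVars false
universe u

namespace Groth.Agent.H29.Vasc

open CategoryTheory IsLocalRing

theorem not_le_of_mem_associatedPrimes (R : Type u) [CommRing R] [IsNoetherianRing R]
    (I : Ideal R) (n : ℕ) (hpd : HasProjectiveDimensionLT (ModuleCat.of R I) n) (t : R)
    (htI : t ∈ I) (ht : ∀ s : R, s * t = 0 → s ∈ I) (P : Ideal R)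
    (hP : P ∈ associatedPrimes R R) : ¬ I ≤ P := by
  intro hIP
  haveI : P.IsPrime := hP.isPrime
  obtain ⟨-, m, hm⟩ := isAssociatedPrime_iff.mp hP
  have hmem : ∀ a : R, a ∈ P ↔ a * m = 0 := by
    intro a
    rw [hm, Submodule.mem_colon_singleton, Submodule.mem_bot, smul_eq_mul]
  have h0 : LocCoh.depth (Localization.AtPrime P) (Localization.AtPrime P) = 0 := by
    rw [← depth_localizedModule_self]
    exact depth_localizedModule_eq_zero_of_mem_associatedPrimes R R P hP
  have hpd1 : HasProjectiveDimensionLT (ModuleCat.of R I) (n + 1) :=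
    hasProjectiveDimensionLT_of_ge _ n _ (Nat.le_succ n)
  have hpd2 := hasProjectiveDimensionLT_localizedModule R P.primeCompl I n hpd1
  have hproj : HasProjectiveDimensionLT
      (ModuleCat.of (Localization.AtPrime P) (LocalizedModule P.primeCompl I)) 1 :=
    projective_of_depth_eq_zero_of_pd (Localization.AtPrime P) h0 (n + 1)
      (LocalizedModule P.primeCompl I) hpd2
  rw [← projective_iff_hasProjectiveDimensionLT_one, ← IsProjective.iff_projective] at hproj
  haveI := hproj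
  haveI : Module.Free (Localization.AtPrime P) (LocalizedModule P.primeCompl I) :=
    Module.free_of_flat_of_isLocalRing
  have hm1 : algebraMap R (Localization.AtPrime P) m ≠ 0 := by
    intro h
    obtain ⟨s, hs⟩ := (IsLocalization.map_eq_zero_iff P.primeCompl _ m).mp h
    exact s.2 ((hmem s).mpr hs)
  have hkill : ∀ z : LocalizedModule P.primeCompl I,
      algebraMap R (Localization.AtPrime P) m • z = 0 := by
    intro z
    induction z using LocalizedModule.induction_on with
    | h y s =>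
      rw [algebraMap_smul, LocalizedModule.smul'_mk]
      have : m • y = 0 := Subtype.ext (by
        show m * (y : R) = 0
        rw [mul_comm]
        exact (hmem y).mp (hIP y.2))
      rw [this, LocalizedModule.zero_mk]
  have hsub : Subsingleton (LocalizedModule P.primeCompl I) := by
    by_contra hns
    rw [not_subsingleton_iff_nontrivial] at hns
    obtain ⟨v, ρ, hρ⟩ := exists_dual_eq_one_of_nontrivial (R := Localization.AtPrime P)
      (LocalizedModule P.primeCompl I)
    have := congrArg ρ (hkill v)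
    rw [map_smul, hρ, smul_eq_mul, mul_one, map_zero] at this
    exact hm1 this
  have ht0 : LocalizedModule.mkLinearMap P.primeCompl I ⟨t, htI⟩ = 0 := Subsingleton.elim _ _
  obtain ⟨s, hs⟩ := (IsLocalizedModule.eq_zero_iff P.primeCompl
    (LocalizedModule.mkLinearMap P.primeCompl I)).mp ht0
  have hst : (s : R) * t = 0 := by
    have := congrArg Subtype.val hs
    simpa [Submonoid.smul_def] using this
  exact s.2 (hIP (ht s hst))

theorem exists_regular_generator (R : Type u) [CommRing R] [IsNoetherianRing R] [IsLocalRing R]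
    (I K : Ideal R) (hI : I ≠ ⊤) (n : ℕ) (hpd : HasProjectiveDimensionLT (ModuleCat.of R I) n)
    (hK : I ^ 2 ≤ K) (t : R) (htI : t ∈ I) (ht : ∀ s : R, s * t ∈ K → s ∈ I) :
    ∃ a i₂ : R, IsUnit a ∧ i₂ ∈ I ^ 2 ∧ IsSMulRegular R (a * t + i₂) := by
  classical
  have hIm : I ≤ maximalIdeal R := IsLocalRing.le_maximalIdeal hI
  have hA : ∀ P ∈ associatedPrimes R R, ¬ I ≤ P := fun P hP =>
    not_le_of_mem_associatedPrimes R I n hpd t htI
      (fun s hs => ht s (by rw [hs]; exact K.zero_mem)) P hP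
  obtain ⟨T₁, hT₁⟩ : ∃ T₁ : Ideal R, T₁ = Ideal.span {t} ⊔ I ^ 2 := ⟨_, rfl⟩
  obtain ⟨N, hN⟩ : ∃ N : Ideal R, N = maximalIdeal R * Ideal.span {t} ⊔ I ^ 2 := ⟨_, rfl⟩
  have hfin : (associatedPrimes R R).Finite := associatedPrimes.finite R R
  have hTN : ¬ T₁ ≤ N := by
    intro h
    have h1 : t ∈ N := h (hT₁ ▸ Ideal.mem_sup_left (Ideal.mem_span_singleton_self t))
    rw [hN] at h1
    obtain ⟨y, hy, z, hz, hyz⟩ := Submodule.mem_sup.mp h1
    obtain ⟨m, hm, rfl⟩ := Ideal.mem_mul_span_singleton.mp hy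
    have h2 : (1 - m) * t ∈ K := by
      have : (1 - m) * t = z := by linear_combination hyz.symm
      rw [this]
      exact hK hz
    have h3 : 1 - m ∈ maximalIdeal R := hIm (ht _ h2)
    have h4 : (1 : R) ∈ maximalIdeal R := by
      have : (1 : R) = (1 - m) + m := by ring
      rw [this]
      exact Ideal.add_mem _ h3 hm
    exact (Ideal.ne_top_iff_one _).mp (IsLocalRing.maximalIdeal.isMaximal R).ne_top h4
  have hnot : ¬ ((T₁ : Set R) ⊆ (N : Set R) ∪ (N : Set R) ∪
      ⋃ P ∈ (↑hfin.toFinset : Set (Ideal R)), (P : Set R)) := by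
    intro hsub
    have key := (Ideal.subset_union_prime' (s := hfin.toFinset) (f := fun P : Ideal R => P)
      (a := N) (b := N) (I := T₁)
      (fun P hP => (hfin.mem_toFinset.mp hP).isPrime)).mp hsub
    rcases key with h | h | ⟨P, hP, h⟩
    · exact hTN h
    · exact hTN h
    · have hP' := hfin.mem_toFinset.mp hP
      haveI := hP'.isPrime
      apply hA P hP'
      have h2 : I ^ 2 ≤ P := (hT₁ ▸ (le_sup_right : I ^ 2 ≤ Ideal.span {t} ⊔ I ^ 2)).trans h
      exact (Ideal.IsPrime.pow_le_iff two_ne_zero).mp h2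
  rw [Set.not_subset] at hnot
  obtain ⟨x, hxT, hxN⟩ := hnot
  have hxN1 : x ∉ N := fun h => hxN (Or.inl (Or.inl h))
  have hxP : ∀ P ∈ associatedPrimes R R, x ∉ P := by
    intro P hP hx
    apply hxN
    refine Or.inr ?_
    exact Set.mem_biUnion (Finset.mem_coe.mpr (hfin.mem_toFinset.mpr hP)) hx
  have hxT' : x ∈ Ideal.span {t} ⊔ I ^ 2 := hT₁ ▸ hxT
  obtain ⟨y, hy, z, hz, hyz⟩ := Submodule.mem_sup.mp hxT'
  obtain ⟨a, rfl⟩ := Ideal.mem_span_singleton'.mp hy
  have ha : a ∉ maximalIdeal R := by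
    intro ha
    apply hxN1
    rw [hN, ← hyz]
    exact Ideal.add_mem _
      (Ideal.mem_sup_left (Ideal.mul_mem_mul ha (Ideal.mem_span_singleton_self t)))
      (Ideal.mem_sup_right hz)
  refine ⟨a, z, IsLocalRing.notMem_maximalIdeal.mp ha, hz, ?_⟩
  rw [hyz]
  have h1 : x ∉ ⋃ p ∈ associatedPrimes R R, (p : Set R) := by
    simp only [Set.mem_iUnion, not_exists]
    intro P hP hx
    exact hxP P hP hx
  rw [biUnion_associatedPrimes_eq_compl_regular R R] at h1
  exact not_not.mp h1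

theorem exists_coord (R : Type u) [CommRing R] (I L : Ideal R) (t : R) (htI : t ∈ I)
    (hsum : Ideal.span {t} ⊔ L = I) (hind : ∀ s : R, s * t ∈ L → s ∈ I) :
    ∃ φ : I →ₗ[R] (R ⧸ I), ∀ (s l : R) (_ : l ∈ L) (h : s * t + l ∈ I),
      φ ⟨s * t + l, h⟩ = Ideal.Quotient.mk I s := by
  have hLI : L ≤ I := hsum ▸ le_sup_right
  let Ψ₀ : (R × L) →ₗ[R] R := (LinearMap.toSpanSingleton R R t).coprod L.subtype
  have hΨ₀a : ∀ z : R × L, Ψ₀ z = z.1 * t + (z.2 : R) := fun z => rfl
  have hΨ₀ : ∀ z, Ψ₀ z ∈ I := by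
    intro z
    rw [hΨ₀a]
    exact I.add_mem (I.mul_mem_left _ htI) (hLI z.2.2)
  let Ψ : (R × L) →ₗ[R] I := Ψ₀.codRestrict I hΨ₀
  let Λ : (R × L) →ₗ[R] (R ⧸ I) := (Submodule.mkQ I) ∘ₗ (LinearMap.fst R R L)
  have hΨs : Function.Surjective Ψ := by
    intro y
    have hy : (y : R) ∈ Ideal.span {t} ⊔ L := hsum ▸ y.2
    obtain ⟨a, ha, l, hl, hal⟩ := Submodule.mem_sup.mp hy
    obtain ⟨s, rfl⟩ := Ideal.mem_span_singleton'.mp ha
    exact ⟨(s, ⟨l, hl⟩), Subtype.ext hal⟩
  have hker : LinearMap.ker Ψ ≤ LinearMap.ker Λ := by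
    intro z hz
    rw [LinearMap.mem_ker] at hz ⊢
    have h1 : z.1 * t + (z.2 : R) = 0 := congrArg Subtype.val hz
    show Submodule.Quotient.mk z.1 = 0
    rw [Submodule.Quotient.mk_eq_zero]
    apply hind
    have : z.1 * t = -(z.2 : R) := eq_neg_of_add_eq_zero_left h1
    rw [this]
    exact L.neg_mem z.2.2
  refine ⟨((LinearMap.ker Ψ).liftQ Λ hker) ∘ₗ
    (Ψ.quotKerEquivOfSurjective hΨs).symm.toLinearMap, fun s l hl h => ?_⟩
  have e1 : (Ψ.quotKerEquivOfSurjective hΨs).symm ⟨s * t + l, h⟩ =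
      Submodule.Quotient.mk (s, ⟨l, hl⟩) := by
    rw [LinearEquiv.symm_apply_eq]
    rfl
  show (LinearMap.ker Ψ).liftQ Λ hker ((Ψ.quotKerEquivOfSurjective hΨs).symm ⟨s * t + l, h⟩) = _
  rw [e1, Submodule.liftQ_apply]
  rfl

/-- The module `I / x I`. -/
abbrev QM (R : Type u) [CommRing R] (I : Ideal R) (x : R) : Type u :=
  (↥I) ⧸ (Ideal.span {x} • (⊤ : Submodule R I))

theorem hasProjectiveDimensionLT_map_quotient (R : Type u) [CommRing R] (I : Ideal R) (x : R)
    (hxI : x ∈ I) (hx : IsSMulRegular R x) (φ : I →ₗ[R] (R ⧸ I)) (hφ : φ ⟨x, hxI⟩ = 1) (n : ℕ)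
    (hpd : HasProjectiveDimensionLT (ModuleCat.of R I) (n + 1)) :
    HasProjectiveDimensionLT (ModuleCat.of (R ⧸ Ideal.span {x})
      (I.map (Ideal.Quotient.mk (Ideal.span {x})))) (n + 1) := by
  have hxI' : IsSMulRegular I x := by
    intro a b hab
    apply Subtype.ext
    apply hx
    exact congrArg Subtype.val hab
  have hM : HasProjectiveDimensionLT (ModuleCat.of (R ⧸ Ideal.span {x}) (QM R I x)) (n + 1) :=
    hasProjectiveDimensionLT_quotient_of_isSMulRegular R x hx n I hxI' hpd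
  have hfx : Ideal.Quotient.mk (Ideal.span {x}) x = 0 :=
    Ideal.Quotient.eq_zero_iff_mem.mpr (Ideal.mem_span_singleton_self x)
  let q : I →ₗ[R] (I.map (Ideal.Quotient.mk (Ideal.span {x}))) :=
    { toFun := fun y => ⟨Ideal.Quotient.mk (Ideal.span {x}) y, Ideal.mem_map_of_mem _ y.2⟩
      map_add' := fun a b => Subtype.ext (by simp)
      map_smul' := fun c a => Subtype.ext (by simp [Algebra.smul_def]) }
  have hqa : ∀ y : I, ((q y : I.map (Ideal.Quotient.mk (Ideal.span {x}))) : R ⧸ Ideal.span {x}) =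
      Ideal.Quotient.mk (Ideal.span {x}) y := fun y => rfl
  have hq : Function.Surjective q := by
    rintro ⟨z, hz⟩
    obtain ⟨y, hy, rfl⟩ := (Ideal.mem_map_iff_of_surjective _ Ideal.Quotient.mk_surjective).mp hz
    exact ⟨⟨y, hy⟩, rfl⟩
  have hqker : ∀ y : I, q y = 0 → ∃ c : R, y = c • (⟨x, hxI⟩ : I) := by
    intro y hy
    have h1 : Ideal.Quotient.mk (Ideal.span {x}) (y : R) = 0 := congrArg Subtype.val hy
    rw [Ideal.Quotient.eq_zero_iff_mem, Ideal.mem_span_singleton'] at h1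
    obtain ⟨c, hc⟩ := h1
    exact ⟨c, Subtype.ext hc.symm⟩
  have hle : (Ideal.span {x} • (⊤ : Submodule R I)) ≤ LinearMap.ker q := by
    rw [Submodule.smul_le]
    intro c hc y _
    rw [LinearMap.mem_ker, map_smul]
    apply Subtype.ext
    have hc0 : Ideal.Quotient.mk (Ideal.span {x}) c = 0 := Ideal.Quotient.eq_zero_iff_mem.mpr hc
    rw [Submodule.coe_smul_of_tower, Algebra.smul_def, Ideal.Quotient.algebraMap_eq, hc0, zero_mul]
    rfl
  let π₀ : QM R I x →ₗ[R] (I.map (Ideal.Quotient.mk (Ideal.span {x}))) :=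
    (Ideal.span {x} • (⊤ : Submodule R I)).liftQ q hle
  let xb : QM R I x := Submodule.Quotient.mk ⟨x, hxI⟩
  have hι : (I : Submodule R R) ≤ LinearMap.ker (LinearMap.toSpanSingleton R (QM R I x) xb) := by
    intro c hc
    rw [LinearMap.mem_ker, LinearMap.toSpanSingleton_apply]
    show c • (Submodule.Quotient.mk ⟨x, hxI⟩ : QM R I x) = 0
    rw [← Submodule.Quotient.mk_smul, Submodule.Quotient.mk_eq_zero]
    have : c • (⟨x, hxI⟩ : I) = x • (⟨c, hc⟩ : I) := Subtype.ext (by simp [mul_comm])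
    rw [this]
    exact Submodule.smul_mem_smul (Ideal.mem_span_singleton_self x) Submodule.mem_top
  let ι : (R ⧸ I) →ₗ[R] QM R I x :=
    (I : Submodule R R).liftQ (LinearMap.toSpanSingleton R (QM R I x) xb) hι
  have hιmk : ∀ c : R, ι (Ideal.Quotient.mk I c) = c • xb := fun c => rfl
  let ε : I →ₗ[R] QM R I x := (Ideal.span {x} • (⊤ : Submodule R I)).mkQ - ι ∘ₗ φ
  have hεa : ∀ y : I, ε y = Submodule.Quotient.mk y - ι (φ y) := fun y => rfl
  have hι1 : ι (1 : R ⧸ I) = xb := by
    have := hιmk 1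
    rwa [map_one, one_smul] at this
  have hN : LinearMap.ker q ≤ LinearMap.ker ε := by
    intro y hy
    rw [LinearMap.mem_ker] at hy ⊢
    obtain ⟨c, rfl⟩ := hqker y hy
    rw [hεa, map_smul, hφ, map_smul, hι1, Submodule.Quotient.mk_smul, sub_self]
  let σ₀ : (I.map (Ideal.Quotient.mk (Ideal.span {x}))) →ₗ[R] QM R I x :=
    ((LinearMap.ker q).liftQ ε hN) ∘ₗ (q.quotKerEquivOfSurjective hq).symm.toLinearMap
  have hσq : ∀ y : I, σ₀ (q y) = ε y := by
    intro y
    have e1 : (q.quotKerEquivOfSurjective hq).symm (q y) = Submodule.Quotient.mk y := by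
      rw [LinearEquiv.symm_apply_eq]
      rfl
    show (LinearMap.ker q).liftQ ε hN ((q.quotKerEquivOfSurjective hq).symm (q y)) = _
    rw [e1, Submodule.liftQ_apply]
  have hπxb : π₀ xb = 0 := by
    show q ⟨x, hxI⟩ = 0
    exact Subtype.ext hfx
  have hπι : ∀ w : R ⧸ I, π₀ (ι w) = 0 := by
    intro w
    obtain ⟨c, rfl⟩ := Ideal.Quotient.mk_surjective w
    rw [hιmk, map_smul, hπxb, smul_zero]
  have hπσ : ∀ z : I.map (Ideal.Quotient.mk (Ideal.span {x})), π₀ (σ₀ z) = z := by
    intro z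
    obtain ⟨y, rfl⟩ := hq z
    rw [hσq, hεa, map_sub, hπι, sub_zero]
    rfl
  have hsurj : Function.Surjective (algebraMap R (R ⧸ Ideal.span {x})) :=
    Ideal.Quotient.mk_surjective
  let π : QM R I x →ₗ[R ⧸ Ideal.span {x}] (I.map (Ideal.Quotient.mk (Ideal.span {x}))) :=
    π₀.extendScalarsOfSurjective hsurj
  let σ : (I.map (Ideal.Quotient.mk (Ideal.span {x}))) →ₗ[R ⧸ Ideal.span {x}] QM R I x :=
    σ₀.extendScalarsOfSurjective hsurj
  have hret : Retract (ModuleCat.of (R ⧸ Ideal.span {x})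
      (I.map (Ideal.Quotient.mk (Ideal.span {x}))))
      (ModuleCat.of (R ⧸ Ideal.span {x}) (QM R I x)) :=
    { i := ModuleCat.ofHom σ
      r := ModuleCat.ofHom π
      retract := ModuleCat.hom_ext (LinearMap.ext fun z => hπσ z) }
  haveI := hM
  exact hret.hasProjectiveDimensionLT (n + 1)

end Groth.Agent.H29.Vasc
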