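import Mathlib
import Groth.Agent.H29.Vasc1

/-!
# Vasconcelos' lemma, part 2: the induction (helper29)

`exists_regular_sequence_aux` : in a Noetherian local ring `R`, let `I` be an ideal of finite
projective dimension and `t₁, …, t_r ∈ I`, `K ⊇ I²` with `I = (t) + K` and
`∑ aᵢ tᵢ ∈ K ⇒ aᵢ ∈ I` (the classes of the `tᵢ` span a free direct summand of `I/I²` with
complement `K/I²`).  Then there is a weakly regular sequence `x₁, …, x_r ∈ I` with
`(x) + I² = (t) + I²`.
-/

set_option autoImplicit false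
set_option linter.style.haveILetI false
set_option linter.unusedSectionVars false
universe u

namespace Groth.Agent.H29.Vasc

open CategoryTheory IsLocalRing
open scoped Pointwise

theorem exists_list_lift {R S : Type*} [CommRing R] [CommRing S] (f : R →+* S)
    (hf : Function.Surjective f) (I : Ideal R) :
    ∀ l : List S, (∀ y ∈ l, y ∈ I.map f) → ∃ l₀ : List R, l₀.map f = l ∧ ∀ y ∈ l₀, y ∈ I := by
  intro l
  induction l with
  | nil => intro _; exact ⟨[], rfl, fun y hy => absurd hy List.not_mem_nil⟩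
  | cons a l ihl =>
    intro h
    obtain ⟨l₀, hl₀, hl₀I⟩ := ihl (fun y hy => h y (List.mem_cons_of_mem _ hy))
    obtain ⟨b, hb, hba⟩ := (Ideal.mem_map_iff_of_surjective f hf).mp (h a List.mem_cons_self)
    refine ⟨b :: l₀, by rw [List.map_cons, hba, hl₀], ?_⟩
    intro y hy
    rcases List.mem_cons.mp hy with rfl | hy
    · exact hb
    · exact hl₀I y hy

theorem span_range_succ {R : Type*} [CommRing R] {r : ℕ} (t : Fin (r + 1) → R) :
    Ideal.span (Set.range t) =
      Ideal.span {t 0} ⊔ Ideal.span (Set.range (fun i : Fin r => t i.succ)) := by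
  rw [← Ideal.span_union]
  congr 1
  ext y
  constructor
  · rintro ⟨i, rfl⟩
    refine Fin.cases ?_ (fun j => ?_) i
    · exact Or.inl rfl
    · exact Or.inr ⟨j, rfl⟩
  · rintro (h | ⟨j, rfl⟩)
    · exact ⟨0, h.symm⟩
    · exact ⟨j.succ, rfl⟩

theorem exists_regular_sequence_aux (r : ℕ) :
    ∀ (R : Type u) [CommRing R] [IsNoetherianRing R] [IsLocalRing R] (I K : Ideal R) (_ : I ≠ ⊤)
      (n : ℕ) (_ : HasProjectiveDimensionLT (ModuleCat.of R I) n) (_ : I ^ 2 ≤ K)
      (t : Fin r → R) (_ : ∀ i, t i ∈ I) (_ : Ideal.span (Set.range t) ⊔ K = I)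
      (_ : ∀ a : Fin r → R, ∑ i, a i * t i ∈ K → ∀ i, a i ∈ I),
      ∃ rs : List R, rs.length = r ∧ (∀ y ∈ rs, y ∈ I) ∧
        RingTheory.Sequence.IsWeaklyRegular R rs ∧
        Ideal.ofList rs ⊔ I ^ 2 = Ideal.span (Set.range t) ⊔ I ^ 2 := by
  induction r with
  | zero =>
    intro R _ _ _ I K hI n hpd hK t ht hsum hind
    refine ⟨[], rfl, fun y hy => absurd hy List.not_mem_nil,
      RingTheory.Sequence.IsWeaklyRegular.nil R R, ?_⟩
    have : Set.range t = ∅ := Set.range_eq_empty t
    rw [this, Ideal.span_empty, Ideal.ofList_nil]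
  | succ r ih =>
    intro R _ _ _ I K hI n hpd hK t ht hsum hind
    have hIm : I ≤ maximalIdeal R := IsLocalRing.le_maximalIdeal hI
    have hKI : K ≤ I := hsum ▸ le_sup_right
    have hrange := span_range_succ t
    -- the first element
    have ht0 : ∀ s : R, s * t 0 ∈ K → s ∈ I := by
      intro s hs
      have h1 := hind (Fin.cons s (fun _ => 0)) (by
        rw [Fin.sum_univ_succ]
        simp only [Fin.cons_zero, Fin.cons_succ, zero_mul, Finset.sum_const_zero, add_zero]
        exact hs) 0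
      rwa [Fin.cons_zero] at h1
    obtain ⟨u, i₂, hu, hi₂, hreg⟩ :=
      exists_regular_generator R I K hI n hpd hK (t 0) (ht 0) ht0
    obtain ⟨x, hx⟩ : ∃ x : R, x = u * t 0 + i₂ := ⟨_, rfl⟩
    rw [← hx] at hreg
    have hI2I : I ^ 2 ≤ I := Ideal.pow_le_self two_ne_zero
    have hxI : x ∈ I := hx ▸ I.add_mem (I.mul_mem_left _ (ht 0)) (hI2I hi₂)
    obtain ⟨v, hv⟩ := hu.exists_left_inv
    -- the coordinate functional
    obtain ⟨L, hL⟩ : ∃ L : Ideal R,
        L = Ideal.span (Set.range (fun i : Fin r => t i.succ)) ⊔ K := ⟨_, rfl⟩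
    have hsumL : Ideal.span {t 0} ⊔ L = I := by rw [hL, ← sup_assoc, ← hrange, hsum]
    have hindL : ∀ s : R, s * t 0 ∈ L → s ∈ I := by
      intro s hs
      rw [hL] at hs
      obtain ⟨y, hy, k, hk, hyk⟩ := Submodule.mem_sup.mp hs
      obtain ⟨b, rfl⟩ := (Ideal.mem_span_range_iff_exists_fun).mp hy
      have h1 := hind (Fin.cons s (fun i => - b i)) (by
        rw [Fin.sum_univ_succ]
        simp only [Fin.cons_zero, Fin.cons_succ]
        have : s * t 0 + ∑ i : Fin r, -b i * t i.succ = k := by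
          rw [← hyk]
          simp only [neg_mul, Finset.sum_neg_distrib]
          ring
        rw [this]
        exact hk) 0
      rwa [Fin.cons_zero] at h1
    obtain ⟨φ, hφ⟩ := exists_coord R I L (t 0) (ht 0) hsumL hindL
    have hi₂L : i₂ ∈ L := hL ▸ Ideal.mem_sup_right (hK hi₂)
    have hφx : φ ⟨x, hxI⟩ = Ideal.Quotient.mk I u := by
      have h := hφ u i₂ hi₂L (hx ▸ hxI)
      rw [← h]
      congr 1
      exact Subtype.ext hx
    have hφ1 : (v • φ) ⟨x, hxI⟩ = 1 := by
      rw [LinearMap.smul_apply, hφx]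
      show Ideal.Quotient.mk I (v * u) = 1
      rw [hv, map_one]
    have hpd1 : HasProjectiveDimensionLT (ModuleCat.of R I) (n + 1) :=
      hasProjectiveDimensionLT_of_ge _ n _ (Nat.le_succ n)
    have hpd' := hasProjectiveDimensionLT_map_quotient R I x hxI hreg (v • φ) hφ1 n hpd1
    -- the quotient ring
    have hxm : x ∈ maximalIdeal R := hIm hxI
    have hne : Ideal.span {x} ≠ ⊤ := by
      intro h
      rw [Ideal.span_singleton_eq_top] at h
      exact (IsLocalRing.mem_maximalIdeal x).mp hxm h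
    haveI : Nontrivial (R ⧸ Ideal.span {x}) := Ideal.Quotient.nontrivial_iff.mpr hne
    haveI : IsLocalRing (R ⧸ Ideal.span {x}) :=
      IsLocalRing.of_surjective' (Ideal.Quotient.mk (Ideal.span {x})) Ideal.Quotient.mk_surjective
    obtain ⟨f, hf⟩ : ∃ f : R →+* R ⧸ Ideal.span {x}, f = Ideal.Quotient.mk (Ideal.span {x}) :=
      ⟨_, rfl⟩
    have hfs : Function.Surjective f := hf ▸ Ideal.Quotient.mk_surjective
    have hkerf : RingHom.ker f = Ideal.span {x} := hf ▸ Ideal.mk_ker
    have hfx : f x = 0 := by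
      rw [← RingHom.mem_ker, hkerf]
      exact Ideal.mem_span_singleton_self x
    have hxle : Ideal.span {x} ≤ I := (Ideal.span_singleton_le_iff_mem _).mpr hxI
    rw [← hf] at hpd'
    have hI' : I.map f ≠ ⊤ := by
      intro h
      have := congrArg (Ideal.comap f) h
      rw [Ideal.comap_map_of_surjective' f hfs, Ideal.comap_top, hkerf, sup_eq_left.mpr hxle] at this
      exact hI this
    have hft0 : f (t 0) ∈ (I ^ 2).map f := by
      have h1 : f u * f (t 0) + f i₂ = 0 := by rw [← map_mul, ← map_add, ← hx, hfx]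
      have hvu : f v * f u = 1 := by rw [← map_mul, hv, map_one]
      have h2 : f (t 0) = - (f v * f i₂) := by
        calc f (t 0) = (f v * f u) * f (t 0) := by rw [hvu, one_mul]
          _ = f v * (f u * f (t 0) + f i₂) - f v * f i₂ := by ring
          _ = - (f v * f i₂) := by rw [h1]; ring
      rw [h2]
      exact Submodule.neg_mem _ (Ideal.mul_mem_left _ _ (Ideal.mem_map_of_mem f hi₂))
    have hK' : (I.map f) ^ 2 ≤ K.map f := by
      rw [← Ideal.map_pow]
      exact Ideal.map_mono hK
    have ht' : ∀ i : Fin r, f (t i.succ) ∈ I.map f := fun i => Ideal.mem_map_of_mem f (ht i.succ)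
    have hsum' : Ideal.span (Set.range (fun i : Fin r => f (t i.succ))) ⊔ K.map f = I.map f := by
      apply le_antisymm
      · refine sup_le (Ideal.span_le.mpr ?_) (Ideal.map_mono hKI)
        rintro _ ⟨i, rfl⟩
        exact ht' i
      · have h1 : I.map f = (Ideal.span (Set.range t) ⊔ K).map f := by rw [hsum]
        rw [h1, Ideal.map_sup, Ideal.map_span]
        refine sup_le (Ideal.span_le.mpr ?_) le_sup_right
        rintro _ ⟨_, ⟨i, rfl⟩, rfl⟩
        refine Fin.cases ?_ (fun j => ?_) i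
        · exact Ideal.mem_sup_right (Ideal.map_mono hK hft0)
        · exact Ideal.mem_sup_left (Ideal.subset_span ⟨j, rfl⟩)
    have hind' : ∀ a' : Fin r → (R ⧸ Ideal.span {x}),
        ∑ i, a' i * f (t i.succ) ∈ K.map f → ∀ i, a' i ∈ I.map f := by
      intro a' ha' i
      choose a ha using fun j => hfs (a' j)
      have h1 : f (∑ j, a j * t j.succ) ∈ K.map f := by
        have : f (∑ j, a j * t j.succ) = ∑ j, a' j * f (t j.succ) := by
          rw [map_sum]
          refine Finset.sum_congr rfl fun j _ => ?_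
          rw [map_mul, ha]
        rw [this]
        exact ha'
      obtain ⟨k, hk, hk'⟩ := (Ideal.mem_map_iff_of_surjective f hfs).mp h1
      have h2 : (∑ j, a j * t j.succ) - k ∈ Ideal.span {x} := by
        rw [← hkerf, RingHom.mem_ker, map_sub, hk', sub_self]
      obtain ⟨c, hc⟩ := Ideal.mem_span_singleton'.mp h2
      rw [hx] at hc
      have h3 := hind (Fin.cons (-(c * u)) a) (by
        rw [Fin.sum_univ_succ]
        simp only [Fin.cons_zero, Fin.cons_succ]
        have : -(c * u) * t 0 + ∑ j : Fin r, a j * t j.succ = k + c * i₂ := by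
          linear_combination (-1 : R) * hc
        rw [this]
        exact K.add_mem hk (K.mul_mem_left _ (hK hi₂))) i.succ
      rw [Fin.cons_succ] at h3
      rw [← ha i]
      exact Ideal.mem_map_of_mem f h3
    obtain ⟨rs', hlen', hmem', hwr', heq'⟩ := ih (R ⧸ Ideal.span {x}) (I.map f) (K.map f) hI'
      (n + 1) hpd' hK' (fun i => f (t i.succ)) ht' hsum' hind'
    obtain ⟨rs₀, hrs₀, hrs₀I⟩ := exists_list_lift f hfs I rs' hmem'
    refine ⟨x :: rs₀, ?_, ?_, ?_, ?_⟩
    · rw [List.length_cons, ← hlen', ← hrs₀, List.length_map]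
    · intro y hy
      rcases List.mem_cons.mp hy with rfl | hy
      · exact hxI
      · exact hrs₀I y hy
    · apply RingTheory.Sequence.IsWeaklyRegular.cons' hreg
      rw [← hf, hrs₀]
      have hspan : x • (⊤ : Submodule R R) = Ideal.span {x} := by
        rw [← Submodule.ideal_span_singleton_smul]
        exact Ideal.mul_top _
      let e₀ : QuotSMulTop x R ≃ₗ[R] (R ⧸ Ideal.span {x}) := Submodule.quotEquivOfEq _ _ hspan
      let e : QuotSMulTop x R ≃ₗ[R ⧸ Ideal.span {x}] (R ⧸ Ideal.span {x}) :=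
        e₀.extendScalarsOfSurjective Ideal.Quotient.mk_surjective
      exact (e.isWeaklyRegular_congr rs').mpr hwr'
    · have hE0 : Ideal.span {x} ⊔ I ^ 2 = Ideal.span {t 0} ⊔ I ^ 2 := by
        apply le_antisymm
        · refine sup_le ?_ le_sup_right
          rw [Ideal.span_singleton_le_iff_mem, hx]
          exact Ideal.add_mem _
            (Ideal.mem_sup_left (Ideal.mul_mem_left _ _ (Ideal.mem_span_singleton_self _)))
            (Ideal.mem_sup_right hi₂)
        · refine sup_le ?_ le_sup_right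
          rw [Ideal.span_singleton_le_iff_mem]
          have : t 0 = v * x - v * i₂ := by
            rw [hx]
            linear_combination (-(t 0)) * hv
          rw [this]
          exact Ideal.sub_mem _
            (Ideal.mem_sup_left (Ideal.mul_mem_left _ _ (Ideal.mem_span_singleton_self _)))
            (Ideal.mem_sup_right (Ideal.mul_mem_left _ _ hi₂))
      have hE : Ideal.ofList rs₀ ⊔ I ^ 2 ⊔ Ideal.span {x} =
          Ideal.span (Set.range (fun i : Fin r => t i.succ)) ⊔ I ^ 2 ⊔ Ideal.span {x} := by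
        have h1 : (Ideal.ofList rs₀ ⊔ I ^ 2).map f =
            (Ideal.span (Set.range (fun i : Fin r => t i.succ)) ⊔ I ^ 2).map f := by
          rw [Ideal.map_sup, Ideal.map_sup, Ideal.map_ofList, hrs₀, Ideal.map_pow, Ideal.map_span,
            ← Set.range_comp]
          exact heq'
        have h2 := congrArg (Ideal.comap f) h1
        rwa [Ideal.comap_map_of_surjective' f hfs, Ideal.comap_map_of_surjective' f hfs, hkerf] at h2
      rw [Ideal.ofList_cons, hrange]
      calc Ideal.span {x} ⊔ Ideal.ofList rs₀ ⊔ I ^ 2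
          = Ideal.ofList rs₀ ⊔ I ^ 2 ⊔ Ideal.span {x} := by ac_rfl
        _ = Ideal.span (Set.range fun i : Fin r => t i.succ) ⊔ I ^ 2 ⊔ Ideal.span {x} := hE
        _ = Ideal.span (Set.range fun i : Fin r => t i.succ) ⊔ (Ideal.span {x} ⊔ I ^ 2) := by
            ac_rfl
        _ = Ideal.span (Set.range fun i : Fin r => t i.succ) ⊔ (Ideal.span {t 0} ⊔ I ^ 2) := by
            rw [hE0]
        _ = Ideal.span {t 0} ⊔ Ideal.span (Set.range fun i : Fin r => t i.succ) ⊔ I ^ 2 := by
            ac_rfl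

theorem toCotangent_mem_span_of_mem {R : Type*} [CommRing R] (I : Ideal R) {m : ℕ} (x : Fin m → R)
    (hx : ∀ i, x i ∈ I) (y : R) (hy : y ∈ I) (h : y ∈ Ideal.span (Set.range x) ⊔ I ^ 2) :
    I.toCotangent ⟨y, hy⟩ ∈
      Submodule.span (R ⧸ I) (Set.range fun i => I.toCotangent ⟨x i, hx i⟩) := by
  obtain ⟨y₁, hy₁, y₂, hy₂, rfl⟩ := Submodule.mem_sup.mp h
  obtain ⟨b, rfl⟩ := Ideal.mem_span_range_iff_exists_fun.mp hy₁
  have hy₂I : y₂ ∈ I := Ideal.pow_le_self two_ne_zero hy₂
  have h1 : (⟨∑ i, b i * x i + y₂, hy⟩ : I) =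
      ∑ i, b i • (⟨x i, hx i⟩ : I) + ⟨y₂, hy₂I⟩ := Subtype.ext (by simp)
  rw [h1, map_add, (Ideal.toCotangent_eq_zero I ⟨y₂, hy₂I⟩).mpr hy₂, add_zero, map_sum]
  refine Submodule.sum_mem _ fun i _ => ?_
  rw [map_smul, ← algebraMap_smul (R ⧸ I) (b i) (I.toCotangent ⟨x i, hx i⟩)]
  exact Submodule.smul_mem _ _ (Submodule.subset_span ⟨i, rfl⟩)

theorem ofList_eq_span_range_get {R : Type*} [CommRing R] (rs : List R) :
    Ideal.ofList rs = Ideal.span (Set.range fun i : Fin rs.length => rs.get i) := by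
  show Ideal.span {r | r ∈ rs} = _
  congr 1
  ext a
  simp [List.mem_iff_get]

end Groth.Agent.H29.Vasc
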