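import Mathlib
import Groth.Agent.H29.Vasc2

/-!
# Vasconcelos' theorem, part 3: localization and spreading out (helper29)

* `EW` : elementwise weak regularity modulo an ideal (definition and `EW_cons`,
  `isWeaklyRegular_self_iff` reproduced from helper1's `Helper1/RegSpan.lean` to avoid the import).
* `EW_of_forall₂_units` : multiplying the entries by units preserves `EW`.
* `exists_sat` : the `p`-saturation of an ideal of a Noetherian ring is reached by one `g ∉ p`.
* `exists_EW_away` : a sequence of elements of `R` which is weakly regular in `R_p` is weakly regular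
  in `R_h` for all `h ∉ p` divisible by a suitable `g ∉ p`.
* `projective_cotangent_map` : the conormal module of a localized ideal is projective if `I/I²` is.
* `exists_data_of_projective` : basis data for `J/J²` in a local ring.
-/

set_option autoImplicit false
set_option linter.style.haveILetI false
set_option linter.unusedSectionVars false
universe u

namespace Groth.Agent.H29.Vasc

open CategoryTheory IsLocalRing RingTheory.Sequence
open scoped Pointwise

section EW

variable {A : Type*} [CommRing A]

/-- elementwise weak regularity modulo an ideal `J` (helper1's definition) -/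
def EW (J : Ideal A) (rs : List A) : Prop :=
  ∀ (i : ℕ) (hi : i < rs.length) (x : A),
    rs[i] * x ∈ J ⊔ Ideal.ofList (rs.take i) → x ∈ J ⊔ Ideal.ofList (rs.take i)

theorem isWeaklyRegular_self_iff (rs : List A) : IsWeaklyRegular A rs ↔ EW ⊥ rs := by
  rw [isWeaklyRegular_iff]
  apply forall_congr'; intro i
  apply forall_congr'; intro hi
  rw [isSMulRegular_quotient_iff_mem_of_smul_mem]
  have hI : (Ideal.ofList (rs.take i) • (⊤ : Submodule A A)) = Ideal.ofList (rs.take i) := by
    rw [smul_eq_mul, Ideal.mul_top]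
  rw [hI, bot_sup_eq]
  rfl

theorem EW_nil (J : Ideal A) : EW J ([] : List A) := by
  intro i hi
  exact absurd hi (by simp)

theorem EW_cons (J : Ideal A) (r : A) (rs : List A) :
    EW J (r :: rs) ↔ (∀ x, r * x ∈ J → x ∈ J) ∧ EW (J ⊔ Ideal.span {r}) rs := by
  constructor
  · intro h
    refine ⟨?_, ?_⟩
    · intro x hx
      have h1 := h 0 (by simp) x
      simp only [List.getElem_cons_zero, List.take_zero, Ideal.ofList_nil, sup_bot_eq] at h1
      exact h1 hx
    · intro i hi x hx
      have h1 := h (i+1) (by simp; omega) x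
      simp only [List.getElem_cons_succ, List.take_succ_cons, Ideal.ofList_cons] at h1
      rw [← sup_assoc] at h1
      exact h1 hx
  · rintro ⟨h1, h2⟩ i hi x hx
    cases i with
    | zero =>
      simp only [List.getElem_cons_zero, List.take_zero, Ideal.ofList_nil, sup_bot_eq] at hx ⊢
      exact h1 x hx
    | succ i =>
      simp only [List.getElem_cons_succ, List.take_succ_cons, Ideal.ofList_cons] at hx ⊢
      rw [← sup_assoc] at hx ⊢
      exact h2 i (by simpa using hi) x hx

theorem EW_of_forall₂_units (rs rs' : List A)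
    (h : List.Forall₂ (fun (a b : A) => ∃ u : Aˣ, b = (u : A) * a) rs rs') :
    ∀ J : Ideal A, EW J rs → EW J rs' := by
  induction h with
  | nil => intro J _; exact EW_nil J
  | @cons a b l₁ l₂ hab _ ih =>
    intro J hJ
    obtain ⟨u, rfl⟩ := hab
    rw [EW_cons] at hJ ⊢
    obtain ⟨h1, h2⟩ := hJ
    have hspan : J ⊔ Ideal.span {↑u * a} = J ⊔ Ideal.span {a} := by
      congr 1
      exact Ideal.span_singleton_mul_left_unit u.isUnit a
    refine ⟨?_, ?_⟩
    · intro x hx
      have h3 : a * (↑u * x) ∈ J := by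
        have : a * (↑u * x) = ↑u * a * x := by ring
        rw [this]
        exact hx
      have h4 := h1 _ h3
      have : x = ↑u⁻¹ * (↑u * x) := by rw [← mul_assoc, Units.inv_mul, one_mul]
      rw [this]
      exact J.mul_mem_left _ h4
    · rw [hspan]
      exact ih _ h2

end EW

section Sat

variable (R : Type u) [CommRing R] [IsNoetherianRing R] (p : Ideal R) [hp : p.IsPrime]

theorem exists_sat_finset (L : Ideal R) (gens : Finset R)
    (h : ∀ y ∈ gens, ∃ s : R, s ∉ p ∧ s * y ∈ L) :
    ∃ g : R, g ∉ p ∧ ∀ y ∈ gens, g * y ∈ L := by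
  classical
  induction gens using Finset.induction_on with
  | empty =>
    exact ⟨1, (Ideal.ne_top_iff_one p).mp hp.ne_top, fun y hy => absurd hy (Finset.notMem_empty y)⟩
  | insert a t hat ih =>
    obtain ⟨g, hg, hgt⟩ := ih (fun y hy => h y (Finset.mem_insert_of_mem hy))
    obtain ⟨s, hs, hsa⟩ := h a (Finset.mem_insert_self a t)
    refine ⟨s * g, fun hsg => (hp.mem_or_mem hsg).elim hs hg, ?_⟩
    intro y hy
    rcases Finset.mem_insert.mp hy with rfl | hy
    · have : s * g * y = g * (s * y) := by ring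
      rw [this]
      exact L.mul_mem_left _ hsa
    · have : s * g * y = s * (g * y) := by ring
      rw [this]
      exact L.mul_mem_left _ (hgt y hy)

theorem exists_sat (L : Ideal R) :
    ∃ g : R, g ∉ p ∧ ∀ x : R, (∃ s : R, s ∉ p ∧ s * x ∈ L) → g * x ∈ L := by
  let S : Ideal R :=
    { carrier := {x | ∃ s : R, s ∉ p ∧ s * x ∈ L}
      add_mem' := by
        rintro x y ⟨s, hs, hsx⟩ ⟨s', hs', hsy⟩
        refine ⟨s * s', fun h => (hp.mem_or_mem h).elim hs hs', ?_⟩
        have : s * s' * (x + y) = s' * (s * x) + s * (s' * y) := by ring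
        rw [this]
        exact L.add_mem (L.mul_mem_left _ hsx) (L.mul_mem_left _ hsy)
      zero_mem' := ⟨1, (Ideal.ne_top_iff_one p).mp hp.ne_top, by rw [mul_zero]; exact L.zero_mem⟩
      smul_mem' := by
        rintro c x ⟨s, hs, hsx⟩
        refine ⟨s, hs, ?_⟩
        have : s * (c • x) = c * (s * x) := by rw [smul_eq_mul]; ring
        rw [this]
        exact L.mul_mem_left _ hsx }
  obtain ⟨gens, hgens⟩ := (IsNoetherian.noetherian S : S.FG)
  obtain ⟨g, hg, hgL⟩ := exists_sat_finset R p L gens (fun y hy => by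
    have : y ∈ S := hgens ▸ Submodule.subset_span hy
    exact this)
  refine ⟨g, hg, fun x hx => ?_⟩
  let C : Ideal R :=
    { carrier := {x | g * x ∈ L}
      add_mem' := by
        intro a b ha hb
        show g * (a + b) ∈ L
        rw [mul_add]
        exact L.add_mem ha hb
      zero_mem' := by
        show g * 0 ∈ L
        rw [mul_zero]
        exact L.zero_mem
      smul_mem' := by
        intro c x hx
        show g * (c • x) ∈ L
        rw [smul_eq_mul, mul_left_comm]
        exact L.mul_mem_left c hx }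
  have hSC : S ≤ C := by
    rw [← hgens]
    exact Submodule.span_le.mpr (fun y hy => hgL y hy)
  exact hSC hx

theorem exists_EW_away :
    ∀ (ys : List R) (J : Ideal R),
      EW (J.map (algebraMap R (Localization.AtPrime p)))
        (ys.map (algebraMap R (Localization.AtPrime p))) →
      ∃ g : R, g ∉ p ∧ ∀ h : R, h ∉ p → g ∣ h →
        EW (J.map (algebraMap R (Localization.Away h)))
          (ys.map (algebraMap R (Localization.Away h))) := by
  intro ys
  induction ys with
  | nil =>
    intro J _
    exact ⟨1, (Ideal.ne_top_iff_one p).mp hp.ne_top, fun h _ _ => EW_nil _⟩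
  | cons y ys ih =>
    intro J hJ
    rw [List.map_cons, EW_cons] at hJ
    obtain ⟨h1, h2⟩ := hJ
    have h2' : EW ((J ⊔ Ideal.span {y}).map (algebraMap R (Localization.AtPrime p)))
        (ys.map (algebraMap R (Localization.AtPrime p))) := by
      rwa [Ideal.map_sup, Ideal.map_span, Set.image_singleton]
    obtain ⟨g₁, hg₁, hG₁⟩ := ih (J ⊔ Ideal.span {y}) h2'
    obtain ⟨g₂, hg₂, hG₂⟩ := exists_sat R p J
    refine ⟨g₁ * g₂, fun h => (hp.mem_or_mem h).elim hg₁ hg₂, fun h hh hdvd => ?_⟩
    rw [List.map_cons, EW_cons]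
    refine ⟨?_, ?_⟩
    · intro x hx
      obtain ⟨⟨a, s⟩, rfl⟩ := IsLocalization.mk'_surjective (Submonoid.powers h) x
      rw [IsLocalization.mul_mk'_eq_mk'_of_mul,
        IsLocalization.mk'_mem_map_algebraMap_iff (Submonoid.powers h)] at hx
      rw [IsLocalization.mk'_mem_map_algebraMap_iff (Submonoid.powers h)]
      obtain ⟨m, hm, hmJ⟩ := hx
      have hmp : m ∉ p := by
        obtain ⟨k, rfl⟩ := hm
        exact fun hk => hh (hp.mem_of_pow_mem k hk)
      have h3 : algebraMap R (Localization.AtPrime p) y * algebraMap R (Localization.AtPrime p) a ∈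
          J.map (algebraMap R (Localization.AtPrime p)) := by
        rw [← map_mul, IsLocalization.algebraMap_mem_map_algebraMap_iff p.primeCompl]
        exact ⟨m, hmp, hmJ⟩
      have h4 := h1 _ h3
      rw [IsLocalization.algebraMap_mem_map_algebraMap_iff p.primeCompl] at h4
      obtain ⟨s', hs', hs'J⟩ := h4
      have h5 := hG₂ a ⟨s', hs', hs'J⟩
      obtain ⟨c, hc⟩ := hdvd
      refine ⟨h, Submonoid.mem_powers h, ?_⟩
      have : h * a = (g₁ * c) * (g₂ * a) := by rw [hc]; ring
      rw [this]
      exact J.mul_mem_left _ h5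
    · have := hG₁ h hh (dvd_trans (dvd_mul_right g₁ g₂) hdvd)
      rwa [Ideal.map_sup, Ideal.map_span, Set.image_singleton] at this

end Sat

section Cotangent

theorem projective_cotangent_map (R : Type u) [CommRing R] (I : Ideal R) (M : Submonoid R)
    (A : Type u) [CommRing A] [Algebra R A] [IsLocalization M A]
    [Module.Projective (R ⧸ I) I.Cotangent] :
    Module.Projective (A ⧸ I.map (algebraMap R A)) (I.map (algebraMap R A)).Cotangent := by
  letI : Module (R ⧸ I) (I.map (algebraMap R A)).Cotangent :=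
    Module.compHom (I.map (algebraMap R A)).Cotangent
      (algebraMap (R ⧸ I) (A ⧸ I.map (algebraMap R A)))
  haveI : IsScalarTower (R ⧸ I) (A ⧸ I.map (algebraMap R A)) (I.map (algebraMap R A)).Cotangent :=
    IsScalarTower.of_compHom _ _ _
  have hsmul : ∀ (r : R) (z : (I.map (algebraMap R A)).Cotangent),
      (Ideal.Quotient.mk I r) • z = r • z := by
    intro r z
    show (algebraMap (R ⧸ I) (A ⧸ I.map (algebraMap R A)) (Ideal.Quotient.mk I r)) • z = r • z
    have h1 : algebraMap (R ⧸ I) (A ⧸ I.map (algebraMap R A)) (Ideal.Quotient.mk I r) =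
        Ideal.Quotient.mk (I.map (algebraMap R A)) (algebraMap R A r) := rfl
    rw [h1, ← algebraMap_smul A r z]
    exact algebraMap_smul (A ⧸ I.map (algebraMap R A)) (algebraMap R A r) z
  haveI : IsScalarTower R (R ⧸ I) (I.map (algebraMap R A)).Cotangent :=
    IsScalarTower.of_algebraMap_smul (fun r z => hsmul r z)
  let fR : I.Cotangent →ₗ[R] (I.map (algebraMap R A)).Cotangent :=
    Ideal.mapCotangent I (I.map (algebraMap R A)) (Algebra.ofId R A) Ideal.le_comap_map
  let f : I.Cotangent →ₗ[R ⧸ I] (I.map (algebraMap R A)).Cotangent :=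
    fR.extendScalarsOfSurjective Ideal.Quotient.mk_surjective
  have hf : ∀ y : I, f (I.toCotangent y) =
      (I.map (algebraMap R A)).toCotangent ⟨algebraMap R A y, Ideal.mem_map_of_mem _ y.2⟩ :=
    fun y => rfl
  haveI : IsLocalizedModule (Algebra.algebraMapSubmonoid (R ⧸ I) M) f := by
    refine ⟨?_, ?_, ?_⟩
    · rintro ⟨x, s, hs, rfl⟩
      rw [Module.End.isUnit_iff]
      have hb : IsUnit (algebraMap (R ⧸ I) (A ⧸ I.map (algebraMap R A))
          (algebraMap R (R ⧸ I) s)) := by
        have h0 : IsUnit (algebraMap R A s) := IsLocalization.map_units A ⟨s, hs⟩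
        exact h0.map (Ideal.Quotient.mk (I.map (algebraMap R A)))
      constructor
      · intro z₁ z₂ h
        have h' : (algebraMap (R ⧸ I) (A ⧸ I.map (algebraMap R A)) (algebraMap R (R ⧸ I) s)) • z₁ =
            (algebraMap (R ⧸ I) (A ⧸ I.map (algebraMap R A)) (algebraMap R (R ⧸ I) s)) • z₂ := h
        exact hb.smul_left_cancel.mp h'
      · intro z
        obtain ⟨b', hb'⟩ := hb.exists_right_inv
        refine ⟨b' • z, ?_⟩
        show (algebraMap (R ⧸ I) (A ⧸ I.map (algebraMap R A)) (algebraMap R (R ⧸ I) s)) • b' • z = z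
        rw [smul_smul, hb', one_smul]
    · intro y
      obtain ⟨y, rfl⟩ := (I.map (algebraMap R A)).toCotangent_surjective y
      obtain ⟨⟨a, s⟩, has⟩ := (IsLocalization.mem_map_algebraMap_iff M A).mp y.2
      refine ⟨(I.toCotangent a, ⟨algebraMap R (R ⧸ I) s, s, s.2, rfl⟩), ?_⟩
      rw [hf]
      show (Ideal.Quotient.mk I (s : R)) • (I.map (algebraMap R A)).toCotangent y = _
      rw [hsmul, ← LinearMap.map_smul_of_tower]
      congr 1
      apply Subtype.ext
      show (s : R) • (y : A) = algebraMap R A a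
      rw [Algebra.smul_def, mul_comm]
      exact has
    · intro x₁ x₂ h
      obtain ⟨y₁, rfl⟩ := I.toCotangent_surjective x₁
      obtain ⟨y₂, rfl⟩ := I.toCotangent_surjective x₂
      rw [hf, hf, Ideal.toCotangent_eq] at h
      have h1 : algebraMap R A ((y₁ : R) - y₂) ∈ (I ^ 2).map (algebraMap R A) := by
        rw [Ideal.map_pow, map_sub]
        exact h
      rw [IsLocalization.algebraMap_mem_map_algebraMap_iff M] at h1
      obtain ⟨m, hm, hmI⟩ := h1
      refine ⟨⟨algebraMap R (R ⧸ I) m, m, hm, rfl⟩, ?_⟩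
      show (Ideal.Quotient.mk I m) • I.toCotangent y₁ = (Ideal.Quotient.mk I m) • I.toCotangent y₂
      have e1 : ∀ y : I, (Ideal.Quotient.mk I m) • I.toCotangent y = I.toCotangent (m • y) := by
        intro y
        rw [map_smul]
        exact algebraMap_smul (R ⧸ I) m _
      rw [e1, e1, Ideal.toCotangent_eq]
      have : ((m • y₁ : I) : R) - ((m • y₂ : I) : R) = m * ((y₁ : R) - y₂) := by
        simp [mul_sub]
      rw [this]
      exact hmI
  exact Module.projective_of_isLocalizedModule (Algebra.algebraMapSubmonoid (R ⧸ I) M) f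

theorem exists_data_of_projective (A : Type u) [CommRing A] [IsNoetherianRing A] [IsLocalRing A]
    (J : Ideal A) (hJ : J ≠ ⊤) [Module.Projective (A ⧸ J) J.Cotangent] :
    ∃ (r : ℕ) (t : Fin r → A), (∀ i, t i ∈ J) ∧ Ideal.span (Set.range t) ⊔ J ^ 2 = J ∧
      ∀ a : Fin r → A, ∑ i, a i * t i ∈ J ^ 2 → ∀ i, a i ∈ J := by
  haveI : Nontrivial (A ⧸ J) := Ideal.Quotient.nontrivial_iff.mpr hJ
  haveI : IsLocalRing (A ⧸ J) :=
    IsLocalRing.of_surjective' (Ideal.Quotient.mk J) Ideal.Quotient.mk_surjective
  haveI : Module.Finite A J.Cotangent :=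
    Module.Finite.of_surjective J.toCotangent J.toCotangent_surjective
  haveI : Module.Finite (A ⧸ J) J.Cotangent :=
    Module.Finite.of_restrictScalars_finite A (A ⧸ J) J.Cotangent
  haveI : Module.Free (A ⧸ J) J.Cotangent := Module.free_of_flat_of_isLocalRing
  obtain ⟨b⟩ : Nonempty (Module.Basis (Fin (Module.finrank (A ⧸ J) J.Cotangent)) (A ⧸ J) J.Cotangent) :=
    ⟨Module.finBasis (A ⧸ J) J.Cotangent⟩
  choose tt htt using fun i => J.toCotangent_surjective (b i)
  have hS : ∀ a : Fin (Module.finrank (A ⧸ J) J.Cotangent) → A, ∑ i, a i * (tt i : A) ∈ J :=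
    fun a => J.sum_mem (fun i _ => J.mul_mem_left _ (tt i).2)
  have hcls : ∀ a : Fin (Module.finrank (A ⧸ J) J.Cotangent) → A,
      J.toCotangent ⟨∑ i, a i * (tt i : A), hS a⟩ = ∑ i, (Ideal.Quotient.mk J (a i)) • b i := by
    intro a
    have e1 : (⟨∑ i, a i * (tt i : A), hS a⟩ : J) = ∑ i, a i • tt i := Subtype.ext (by simp)
    rw [e1, map_sum]
    refine Finset.sum_congr rfl fun i _ => ?_
    rw [map_smul, htt]
    exact (algebraMap_smul (A ⧸ J) (a i) _).symm
  refine ⟨_, fun i => (tt i : A), fun i => (tt i).2, ?_, ?_⟩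
  · apply le_antisymm
    · exact sup_le (Ideal.span_le.mpr (by rintro _ ⟨i, rfl⟩; exact (tt i).2))
        (Ideal.pow_le_self two_ne_zero)
    · intro y hy
      choose c hc using fun i => Ideal.Quotient.mk_surjective (b.repr (J.toCotangent ⟨y, hy⟩) i)
      have h1 : J.toCotangent ⟨∑ i, c i * (tt i : A), hS c⟩ = J.toCotangent ⟨y, hy⟩ := by
        rw [hcls c]
        conv_rhs => rw [← b.sum_repr (J.toCotangent ⟨y, hy⟩)]
        refine Finset.sum_congr rfl fun i _ => ?_
        rw [hc]
      have h2 : y - ∑ i, c i * (tt i : A) ∈ J ^ 2 :=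
        (Ideal.toCotangent_eq J (x := ⟨y, hy⟩) (y := ⟨∑ i, c i * (tt i : A), hS c⟩)).mp h1.symm
      have : y = ∑ i, c i * (tt i : A) + (y - ∑ i, c i * (tt i : A)) := by ring
      rw [this]
      exact Ideal.add_mem _ (Ideal.mem_sup_left (Ideal.sum_mem _ fun i _ =>
        Ideal.mul_mem_left _ _ (Ideal.subset_span ⟨i, rfl⟩))) (Ideal.mem_sup_right h2)
  · intro a ha i
    have h1 : J.toCotangent ⟨∑ i, a i * (tt i : A), hS a⟩ = 0 :=
      (Ideal.toCotangent_eq_zero J _).mpr ha
    rw [hcls a] at h1
    have h3 := (Fintype.linearIndependent_iff.mp b.linearIndependent)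
      (fun i => Ideal.Quotient.mk J (a i)) h1 i
    exact Ideal.Quotient.eq_zero_iff_mem.mp h3

end Cotangent

end Groth.Agent.H29.Vasc
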